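import Groth.Agent.ModPairLib.Extra
import Mathlib.AlgebraicGeometry.AffineTransitionLimit
import Mathlib.AlgebraicGeometry.Morphisms.Finite

/-!
# Products, closures and limits of modulus pairs
-/

set_option autoImplicit false

universe u

open CategoryTheory CategoryTheory.Limits AlgebraicGeometry TopologicalSpace

namespace ModPairLib

variable {X Y Z S T : Scheme.{u}}

theorem dense_and_cartier {X' : Scheme.{u}} (I : X.IdealSheafData) (hI : BlowUp.IsEffCartierIdeal I)
    (f : X' ⟶ X) [IsSchemeTheoreticallyDominant (f ⁻¹ᵁ ModPair.interior I).ι] :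
    (∀ W : X'.Opens, IsSchemeTheoreticallyDominant
        (X'.homOfLE (inf_le_right : f ⁻¹ᵁ ModPair.interior I ⊓ W ≤ W))) ∧
      BlowUp.IsEffCartierIdeal (I.comap f) := by
  have := isAffineHom_preimage f (isAffineHom_interior hI)
  exact ⟨fun W => IsSchemeTheoreticallyDominant.of_isPullback (isPullback_opens_inf _ W),
    isEffCartier_comap_of_dominant hI f (f ⁻¹ᵁ ModPair.interior I).ι fun z => z.2⟩

theorem exists_residual (I₁ I₂ : X.IdealSheafData)
    (h₁ : BlowUp.IsEffCartierIdeal I₁) (h₂ : BlowUp.IsEffCartierIdeal I₂)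
    (hE : BlowUp.IsEffCartierIdeal (I₁ ⊔ I₂)) :
    ∃ I₁' I₂' : X.IdealSheafData, BlowUp.IsEffCartierIdeal I₁' ∧ BlowUp.IsEffCartierIdeal I₂' ∧
      I₁ = I₁' * (I₁ ⊔ I₂) ∧ I₂ = I₂' * (I₁ ⊔ I₂) ∧ I₁' ⊔ I₂' = ⊤ ∧
      ∀ D : X.IdealSheafData, BlowUp.IsEffCartierIdeal D → D ≤ I₁ → D ≤ I₂ →
        D ≤ I₁' * I₂' * (I₁ ⊔ I₂) := by
  obtain ⟨A, hA⟩ := exists_mul_eq hE (le_sup_left : I₁ ≤ I₁ ⊔ I₂)
  obtain ⟨B, hB⟩ := exists_mul_eq hE (le_sup_right : I₂ ≤ I₁ ⊔ I₂)
  refine ⟨A, B, BlowUpLib.isEffCartier_of_mul (I := I₁ ⊔ I₂) (by rw [mul_comm, hA]; exact h₁),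
    BlowUpLib.isEffCartier_of_mul (I := I₁ ⊔ I₂) (by rw [mul_comm, hB]; exact h₂),
    hA.symm, hB.symm, mul_cancel hE ?_, fun D _ hD₁ hD₂ => (le_inf hD₁ hD₂).trans (le_of_mul_le hE ?_)⟩
  · rw [Scheme.IdealSheafData.inf_mul, hA, hB, Scheme.IdealSheafData.top_mul]
  · rw [inf_mul_sup h₁ h₂ hE]
    refine le_of_eq ?_
    calc I₁ * I₂ = (A * (I₁ ⊔ I₂)) * (B * (I₁ ⊔ I₂)) := by rw [hA, hB]
      _ = A * B * (I₁ ⊔ I₂) * (I₁ ⊔ I₂) := by
        refine Scheme.IdealSheafData.ext ?_
        simp only [Scheme.IdealSheafData.ideal_mul]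
        ring

theorem minimal_of_comp {I : X.IdealSheafData} {J : Y.IdealSheafData} {K : Z.IdealSheafData}
    (hI : BlowUp.IsEffCartierIdeal I) (hJ : BlowUp.IsEffCartierIdeal J)
    (hK : BlowUp.IsEffCartierIdeal K) (f : X ⟶ Y) (g : Y ⟶ Z)
    (hf : ModPair.IsAmbient I J f) (hg : ModPair.IsAmbient J K g)
    (hfg : ModPair.IsMinimal I K (f ≫ g)) :
    ModPair.IsMinimal I J f ∧
      ∃ U : Y.Opens, QuasiCompact U.ι ∧ Set.range f.base ⊆ (U : Set Y) ∧
        ModPair.IsMinimal (J.comap U.ι) K (U.ι ≫ g) := by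
  have hm : I = J.comap f := le_antisymm hf
    ((Scheme.IdealSheafData.comap_mono f hg).trans_eq
      ((Scheme.IdealSheafData.comap_comp _ _ _).symm.trans hfg.symm))
  refine ⟨hm, ?_⟩
  have hE := isEffCartier_of_isAmbient hJ hK hg
  obtain ⟨D, hD⟩ := exists_mul_eq hE hg
  have hDc : BlowUp.IsEffCartierIdeal D :=
    BlowUpLib.isEffCartier_of_mul (I := K.comap g) (by rw [mul_comm, hD]; exact hJ)
  have := isAffineHom_interior hDc
  refine ⟨ModPair.interior D, inferInstance, ?_, ?_⟩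
  · have hEI : (K.comap g).comap f = I := (Scheme.IdealSheafData.comap_comp _ _ _).symm.trans hfg.symm
    have h1 : D.comap f = ⊤ := by
      refine mul_cancel (E := I) hI ?_
      rw [Scheme.IdealSheafData.top_mul]
      conv_rhs => rw [hm, ← hD, BlowUpLib.comap_mul, hEI]
    rintro _ ⟨x, rfl⟩
    have : x ∈ ModPair.interior (D.comap f) := by rw [h1, interior_top]; trivial
    rwa [interior_comap] at this
  · have h2 : D.comap (ModPair.interior D).ι = ⊤ := eq_top_of_interior (by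
      rw [interior_comap]
      exact top_le_iff.mp fun x _ => x.2)
    show J.comap _ = K.comap _
    rw [← hD, BlowUpLib.comap_mul, h2, Scheme.IdealSheafData.top_mul, Scheme.IdealSheafData.comap_comp]

theorem isIso_mprodι_of_isEffCartier (f : X ⟶ S) (g : T ⟶ S) {IX : X.IdealSheafData}
    {IT : T.IdealSheafData}
    (h₁ : BlowUp.IsEffCartierIdeal (IX.comap (pullback.fst f g)))
    (h₂ : BlowUp.IsEffCartierIdeal (IT.comap (pullback.snd f g))) :
    IsIso (ModPair.mprodι f g IX IT) := by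
  have e : ModPair.interior (IX.comap (pullback.fst f g) * IT.comap (pullback.snd f g)) =
      ModPair.prodInterior f g IX IT := by
    rw [interior_mul, interior_comap, interior_comap]
    rfl
  have := isDominant_interior (SDivLib.isEffCartier_mul h₁ h₂)
  rw [e] at this
  exact isIso_imageι _ this.ker_eq_bot

theorem prodInterior_eq_snd {IS : S.IdealSheafData} {IX : X.IdealSheafData} {IT : T.IdealSheafData}
    {p : X ⟶ S} {g : T ⟶ S} (hp : ModPair.IsMinimal IX IS p) (hg : ModPair.IsAmbient IT IS g) :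
    ModPair.prodInterior p g IX IT = pullback.snd p g ⁻¹ᵁ ModPair.interior IT := by
  refine inf_eq_right.mpr fun z hz => ?_
  change pullback.fst p g z ∈ ModPair.interior IX
  rw [(hp : IX = _), interior_comap]
  change p (pullback.fst p g z) ∈ ModPair.interior IS
  rw [← Scheme.Hom.comp_apply, pullback.condition, Scheme.Hom.comp_apply]
  exact interior_le hg hz

theorem prodInterior_eq_fst {IS : S.IdealSheafData} {IX : X.IdealSheafData} {IT : T.IdealSheafData}
    {p : X ⟶ S} {g : T ⟶ S} (hp : ModPair.IsAmbient IX IS p) (hg : ModPair.IsMinimal IT IS g) :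
    ModPair.prodInterior p g IX IT = pullback.fst p g ⁻¹ᵁ ModPair.interior IX := by
  refine inf_eq_left.mpr fun z hz => ?_
  change pullback.snd p g z ∈ ModPair.interior IT
  rw [(hg : IT = _), interior_comap]
  change g (pullback.snd p g z) ∈ ModPair.interior IS
  rw [← Scheme.Hom.comp_apply, ← pullback.condition, Scheme.Hom.comp_apply]
  exact interior_le hp hz

theorem flat_minimal_product (IS : S.IdealSheafData)
    (IT : T.IdealSheafData) (IX : X.IdealSheafData) (hX : BlowUp.IsEffCartierIdeal IX)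
    (p : X ⟶ S) (hp : ModPair.IsAmbient IX IS p) (f : T ⟶ S) (hf : ModPair.IsMinimal IT IS f) [Flat f] :
    IsSchemeTheoreticallyDominant (ModPair.prodInterior p f IX IT).ι ∧
      IsIso (ModPair.mprodι p f IX IT) ∧
      BlowUp.IsEffCartierIdeal (IX.comap (pullback.fst p f)) := by
  have h1 := BlowUpLib.isEffCartier_comap_of_flat (pullback.fst p f) hX
  have h2 := isDominant_interior h1
  rw [interior_comap, ← prodInterior_eq_fst hp hf] at h2
  exact ⟨h2, isIso_imageι _ h2.ker_eq_bot, h1⟩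

theorem mprod_universal (IS : S.IdealSheafData)
    (IT : T.IdealSheafData) (IX : X.IdealSheafData)
    (hT : BlowUp.IsEffCartierIdeal IT) (hX : BlowUp.IsEffCartierIdeal IX)
    (p : X ⟶ S) (hp : ModPair.IsAmbient IX IS p) (f : T ⟶ S) (hf : ModPair.IsMinimal IT IS f) :
    BlowUp.IsEffCartierIdeal (IX.comap (ModPair.mprodι p f IX IT ≫ pullback.fst p f)) ∧
      ModPair.IsAmbient (IX.comap (ModPair.mprodι p f IX IT ≫ pullback.fst p f)) IT
        (ModPair.mprodι p f IX IT ≫ pullback.snd p f) ∧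
      ∀ (W : Scheme.{u}) (IW : W.IdealSheafData), BlowUp.IsEffCartierIdeal IW →
        ∀ (a : W ⟶ T) (b : W ⟶ X), ModPair.IsAmbient IW IT a → ModPair.IsAmbient IW IX b →
          a ≫ f = b ≫ p →
          ∃! c : W ⟶ ModPair.mprod p f IX IT,
            c ≫ ModPair.mprodι p f IX IT ≫ pullback.snd p f = a ∧
              c ≫ ModPair.mprodι p f IX IT ≫ pullback.fst p f = b ∧
              ModPair.IsAmbient IW (IX.comap (ModPair.mprodι p f IX IT ≫ pullback.fst p f)) c := by
  refine ⟨(isEffCartier_mprod p f hX hT).1, ?_, fun W IW hW a b ha hb hab => ?_⟩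
  · change IX.comap _ ≤ IT.comap _
    refine (Scheme.IdealSheafData.comap_mono _ hp).trans_eq ?_
    beta_reduce
    rw [(hf : IT = _), ← Scheme.IdealSheafData.comap_comp, ← Scheme.IdealSheafData.comap_comp,
      Category.assoc, Category.assoc, pullback.condition]
  · let l : W ⟶ pullback p f := pullback.lift b a hab.symm
    have hlb : l ≫ pullback.fst p f = b := pullback.lift_fst _ _ _
    have hla : l ≫ pullback.snd p f = a := pullback.lift_snd _ _ _
    have hr : Set.range ((ModPair.interior IW).ι ≫ l) ⊆ Set.range (ModPair.prodInterior p f IX IT).ι := by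
      rintro _ ⟨z, rfl⟩
      rw [Scheme.Opens.range_ι]
      refine ⟨?_, ?_⟩
      · change pullback.fst p f (l z.1) ∈ ModPair.interior IX
        rw [← Scheme.Hom.comp_apply, hlb]
        exact interior_le hb z.2
      · change pullback.snd p f (l z.1) ∈ ModPair.interior IT
        rw [← Scheme.Hom.comp_apply, hla]
        exact interior_le ha z.2
    have := isDominant_interior hW
    have hk : (ModPair.mprodι p f IX IT).ker ≤ l.ker := by
      rw [← ker_comp_dominant (ModPair.interior IW).ι l, ← IsOpenImmersion.lift_fac _ _ hr]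
      exact (le_of_eq (Scheme.IdealSheafData.ker_subschemeι _)).trans (Scheme.Hom.le_ker_comp _ _)
    refine ⟨IsClosedImmersion.lift (ModPair.mprodι p f IX IT) l hk, ⟨?_, ?_, ?_⟩, ?_⟩
    · rw [IsClosedImmersion.lift_fac_assoc, hla]
    · rw [IsClosedImmersion.lift_fac_assoc, hlb]
    · change IW ≤ _
      rw [← Scheme.IdealSheafData.comap_comp, IsClosedImmersion.lift_fac_assoc, hlb]
      exact hb
    · rintro c ⟨hca, hcb, -⟩
      rw [← cancel_mono (ModPair.mprodι p f IX IT), IsClosedImmersion.lift_fac]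
      exact pullback.hom_ext (by rw [Category.assoc, hcb, hlb]) (by rw [Category.assoc, hca, hla])

theorem isIso_imageι_restrict (U : X.Opens) [QuasiCompact U.ι] : IsIso (U.ι.imageι ∣_ U) := by
  have hr : Set.range U.ι.toImage ⊆ Set.range (U.ι.imageι ⁻¹ᵁ U).ι := by
    rintro _ ⟨w, rfl⟩
    rw [Scheme.Opens.range_ι]
    change U.ι.imageι (U.ι.toImage w) ∈ U
    rw [← Scheme.Hom.comp_apply, Scheme.Hom.toImage_imageι]
    exact w.2
  have h : IsOpenImmersion.lift (U.ι.imageι ⁻¹ᵁ U).ι U.ι.toImage hr ≫ U.ι.imageι ∣_ U = 𝟙 _ := by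
    rw [← cancel_mono U.ι, Category.assoc, morphismRestrict_ι, IsOpenImmersion.lift_fac_assoc,
      Scheme.Hom.toImage_imageι, Category.id_comp]
  exact ⟨IsOpenImmersion.lift (U.ι.imageι ⁻¹ᵁ U).ι U.ι.toImage hr,
    by rw [← cancel_mono (U.ι.imageι ∣_ U), Category.assoc, h, Category.comp_id, Category.id_comp], h⟩

theorem admBlowup_mprod (IS : S.IdealSheafData)
    (IT : T.IdealSheafData) (IX : X.IdealSheafData)
    (hT : BlowUp.IsEffCartierIdeal IT) (hX : BlowUp.IsEffCartierIdeal IX)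
    (g : T ⟶ S) (hg : ModPair.IsAmbient IT IS g) (s : X ⟶ S) (hs : ModPair.IsAdmBlowup IX IS s) :
    BlowUp.IsEffCartierIdeal (IT.comap (ModPair.mprodι s g IX IT ≫ pullback.snd s g)) ∧
      ModPair.IsAdmBlowup (IT.comap (ModPair.mprodι s g IX IT ≫ pullback.snd s g)) IT
        (ModPair.mprodι s g IX IT ≫ pullback.snd s g) ∧
      ModPair.IsAmbient (IT.comap (ModPair.mprodι s g IX IT ≫ pullback.snd s g)) IX
        (ModPair.mprodι s g IX IT ≫ pullback.fst s g) := by
  obtain ⟨hm, hp, hiso⟩ := hs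
  refine ⟨(isEffCartier_mprod s g hX hT).2, ⟨rfl, ?_, ?_⟩, ?_⟩
  · have : IsProper (pullback.snd s g) := MorphismProperty.pullback_snd _ _ hp
    infer_instance
  · have := isAffineHom_prodInterior s g hX hT
    have h1 : IsIso (pullback.snd s g ∣_ ModPair.interior IT) := by
      have sq := (isPullback_morphismRestrict (pullback.snd s g) (ModPair.interior IT)).flip.paste_horiz
        (IsPullback.of_hasPullback s g)
      have hr : Set.range ((ModPair.interior IT).ι ≫ g) ⊆ Set.range (ModPair.interior IS).ι := by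
        rintro _ ⟨z, rfl⟩
        rw [Scheme.Opens.range_ι]
        exact interior_le hg z.2
      rw [← IsOpenImmersion.lift_fac _ _ hr] at sq
      exact MorphismProperty.of_isPullback (P := MorphismProperty.isomorphisms Scheme)
        (IsPullback.of_right' sq (isPullback_morphismRestrict s (ModPair.interior IS)).flip) hiso
    have h2 : IsIso (ModPair.mprodι s g IX IT ∣_ (pullback.snd s g ⁻¹ᵁ ModPair.interior IT)) := by
      rw [← prodInterior_eq_snd hm hg]
      exact isIso_imageι_restrict _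
    rw [morphismRestrict_comp]
    exact IsIso.comp_isIso' h2 h1
  · change IT.comap _ ≤ IX.comap _
    refine (Scheme.IdealSheafData.comap_mono _ hg).trans_eq ?_
    beta_reduce
    rw [(hm : IX = _), ← Scheme.IdealSheafData.comap_comp, ← Scheme.IdealSheafData.comap_comp,
      Category.assoc, Category.assoc, pullback.condition]

theorem ambProd_props (J : T.IdealSheafData) (I : X.IdealSheafData)
    (hT : BlowUp.IsEffCartierIdeal J) (hX : BlowUp.IsEffCartierIdeal I)
    (f : X ⟶ S) (g : T ⟶ S)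
    (π : Y ⟶ ModPair.mprod f g I J) (K : Y.IdealSheafData) (hY : ModPair.IsAmbProd f g I J π K) :
    BlowUp.IsEffCartierIdeal K ∧
      ModPair.IsAmbient K I (π ≫ ModPair.mprodι f g I J ≫ pullback.fst f g) ∧
      ModPair.IsAmbient K J (π ≫ ModPair.mprodι f g I J ≫ pullback.snd f g) ∧
      ModPair.interior K = (π ≫ ModPair.mprodι f g I J) ⁻¹ᵁ ModPair.prodInterior f g I J := by
  obtain ⟨hb, hKE⟩ := hY
  let A := (I.comap (ModPair.mprodι f g I J ≫ pullback.fst f g)).comap π
  let B := (J.comap (ModPair.mprodι f g I J ≫ pullback.snd f g)).comap π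
  have hA : BlowUp.IsEffCartierIdeal A := BlowUpLib.isEffCartier_comap hb (isEffCartier_mprod f g hX hT).1
  have hB : BlowUp.IsEffCartierIdeal B := BlowUpLib.isEffCartier_comap hb (isEffCartier_mprod f g hX hT).2
  have hE : (ModPair.prodCentre f g I J).comap π = A ⊔ B := Scheme.IdealSheafData.comap_sup _ _ _
  rw [hE] at hKE
  have hEc : BlowUp.IsEffCartierIdeal (A ⊔ B) := hE ▸ hb.1
  have hKE' : K * (A ⊔ B) = A * B := hKE
  have hK : BlowUp.IsEffCartierIdeal K :=
    BlowUpLib.isEffCartier_of_mul (I := A ⊔ B) (by rw [mul_comm, hKE']; exact SDivLib.isEffCartier_mul hA hB)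
  have hKAB : K = A ⊓ B := mul_cancel hEc (by rw [hKE', inf_mul_sup hA hB hEc])
  refine ⟨hK, ?_, ?_, ?_⟩
  · change K ≤ _
    rw [Scheme.IdealSheafData.comap_comp, hKAB]
    exact inf_le_left
  · change K ≤ _
    rw [Scheme.IdealSheafData.comap_comp, hKAB]
    exact inf_le_right
  · have h1 : (π ≫ ModPair.mprodι f g I J) ⁻¹ᵁ ModPair.prodInterior f g I J =
        ModPair.interior A ⊓ ModPair.interior B := by
      simp only [A, B, interior_comap]
      rfl
    rw [h1]
    refine le_antisymm (fun y hy => ⟨?_, ?_⟩) fun y hy hs => ?_ <;>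
      first
      | exact fun hs => hy (Scheme.IdealSheafData.support_antitone (hKAB.le.trans inf_le_left) hs)
      | exact fun hs => hy (Scheme.IdealSheafData.support_antitone (hKAB.le.trans inf_le_right) hs)
      | skip
    have h2 : y ∈ (K * (A ⊔ B)).support := by
      rw [Scheme.IdealSheafData.support_mul]; exact Or.inl hs
    rw [hKE', Scheme.IdealSheafData.support_mul] at h2
    exact h2.elim hy.1 hy.2

theorem exists_isAmbProd (J : T.IdealSheafData) (I : X.IdealSheafData)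
    (hT : BlowUp.IsEffCartierIdeal J) (hX : BlowUp.IsEffCartierIdeal I)
    (f : X ⟶ S) (g : T ⟶ S) :
    ∃ (Y : Scheme.{u}) (π : Y ⟶ ModPair.mprod f g I J) (K : Y.IdealSheafData),
      ModPair.IsAmbProd f g I J π K := by
  obtain ⟨Y, π, hb⟩ := BlowUpLib.exists_isBlowUp _ (ModPair.prodCentre f g I J)
  let A := (I.comap (ModPair.mprodι f g I J ≫ pullback.fst f g)).comap π
  let B := (J.comap (ModPair.mprodι f g I J ≫ pullback.snd f g)).comap π
  have hE : (ModPair.prodCentre f g I J).comap π = A ⊔ B := Scheme.IdealSheafData.comap_sup _ _ _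
  refine ⟨Y, π, A ⊓ B, hb, ?_⟩
  rw [hE]
  exact inf_mul_sup (BlowUpLib.isEffCartier_comap hb (isEffCartier_mprod f g hX hT).1)
    (BlowUpLib.isEffCartier_comap hb (isEffCartier_mprod f g hX hT).2) (hE ▸ hb.1)

theorem closure_cover (I : S.IdealSheafData)
    (hI : BlowUp.IsEffCartierIdeal I) {ι : Type u} (V : ι → Scheme.{u})
    (g : ∀ i, V i ⟶ (ModPair.interior I : Scheme.{u})) [∀ i, IsClosedImmersion (g i)]
    (hsurj : ∀ u : (ModPair.interior I : Scheme.{u}), ∃ (i : ι) (v : V i), (g i).base v = u) :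
    (∀ s : S, ∃ (i : ι) (v : (g i ≫ (ModPair.interior I).ι).image),
        (g i ≫ (ModPair.interior I).ι).imageι.base v = s) ∧
      (∀ i, BlowUp.IsEffCartierIdeal (I.comap (g i ≫ (ModPair.interior I).ι).imageι)) ∧
      ∀ i, IsOpenImmersion (g i ≫ (ModPair.interior I).ι).toImage ∧
        Set.range (g i ≫ (ModPair.interior I).ι).toImage.base =
          (g i ≫ (ModPair.interior I).ι).imageι.base ⁻¹' (ModPair.interior I : Set S) := by
  have := isAffineHom_interior hI
  have hsupp : ∀ i, Set.range (g i ≫ (ModPair.interior I).ι).imageι =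
      closure (Set.range (g i ≫ (ModPair.interior I).ι)) := fun i => by
    rw [Scheme.Hom.imageι, Scheme.IdealSheafData.range_subschemeι, Scheme.Hom.support_ker]
  refine ⟨fun s => ?_, fun i => ?_, fun i => ?_⟩
  · obtain ⟨η, hη, hs⟩ := exists_specializes hI s
    obtain ⟨i, v, hv⟩ := hsurj ⟨η, hη⟩
    have h1 : s ∈ Set.range (g i ≫ (ModPair.interior I).ι).imageι := by
      rw [hsupp i]
      refine hs.mem_closed (s := closure (Set.range (g i ≫ (ModPair.interior I).ι))) isClosed_closure (subset_closure (s := Set.range (g i ≫ (ModPair.interior I).ι)) ⟨v, ?_⟩)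
      rw [Scheme.Hom.comp_apply]
      exact congrArg Subtype.val hv
    obtain ⟨w, hw⟩ := h1
    exact ⟨i, w, hw⟩
  · have := isDominant_toImage (f := g i ≫ (ModPair.interior I).ι)
    exact isEffCartier_comap_of_dominant hI _ (g i ≫ (ModPair.interior I).ι).toImage fun z => by
      rw [← Scheme.Hom.comp_apply, Scheme.Hom.toImage_imageι, Scheme.Hom.comp_apply]
      exact (g i z).2
  · refine ⟨inferInstance, Set.Subset.antisymm ?_ fun w hw => ?_⟩
    · rintro _ ⟨z, rfl⟩
      change (g i ≫ (ModPair.interior I).ι).imageι ((g i ≫ (ModPair.interior I).ι).toImage z) ∈ ModPair.interior I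
      rw [← Scheme.Hom.comp_apply, Scheme.Hom.toImage_imageι, Scheme.Hom.comp_apply]
      exact (g i z).2
    · have h1 : (g i ≫ (ModPair.interior I).ι).imageι w ∈
          closure (Set.range (g i ≫ (ModPair.interior I).ι)) := hsupp i ▸ Set.mem_range_self w
      let u : (ModPair.interior I : Scheme.{u}) := ⟨(g i ≫ (ModPair.interior I).ι).imageι w, hw⟩
      have h2 : u ∈ closure (Set.range (g i)) := by
        rw [(ModPair.interior I).ι.isOpenEmbedding.isInducing.closure_eq_preimage_closure_image,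
          ← Set.range_comp, ← TopCat.coe_comp, ← Scheme.Hom.comp_base]
        exact h1
      rw [(g i).isClosedEmbedding.isClosed_range.closure_eq] at h2
      obtain ⟨z, hz⟩ := h2
      refine ⟨z, (g i ≫ (ModPair.interior I).ι).imageι.isEmbedding.injective ?_⟩
      rw [← Scheme.Hom.comp_apply, Scheme.Hom.toImage_imageι, Scheme.Hom.comp_apply, hz]
      rfl

theorem nzd_of_ideal_eq {K : X.IdealSheafData} (hK : BlowUp.IsEffCartierIdeal K) {V : X.affineOpens}
    {a : Γ(X, V.1)} (h : K.ideal V = Ideal.span {a}) : a ∈ nonZeroDivisors Γ(X, V.1) := by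
  refine mem_nonZeroDivisors_iff_right.mpr fun z hz => X.IsSheaf.section_ext fun x hx => ?_
  obtain ⟨U, hxU, s, hs, hU⟩ := hK x
  obtain ⟨W, hxW, hW⟩ := BlowUpLib.exists_affine x (W := U.1 ⊓ V.1) ⟨hxU, hx⟩
  have hWU : W.1 ≤ U.1 := hW.trans inf_le_left
  have hWV : W.1 ≤ V.1 := hW.trans inf_le_right
  refine ⟨W.1, hWV, hxW, ?_⟩
  have hsW : (X.presheaf.map (homOfLE hWU).op).hom s ∈ nonZeroDivisors Γ(X, W.1) := by
    have h0 := BlowUpLib.nzd_of_flat ((𝟙 X : X ⟶ X).appLE U.1 W.1 hWU).hom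
      ((𝟙 X : X ⟶ X).flat_appLE U.2 W.2 hWU) hs
    simp only [Scheme.Hom.appLE, Scheme.Hom.id_app, CommRingCat.hom_comp, RingHom.comp_apply] at h0
    exact h0
  have e1 : K.ideal W = Ideal.span {(X.presheaf.map (homOfLE hWV).op).hom a} := by
    rw [← K.map_ideal (U := W) (V := V) hWV, h, Ideal.map_span, Set.image_singleton]
    rfl
  have e2 : K.ideal W = Ideal.span {(X.presheaf.map (homOfLE hWU).op).hom s} := by
    rw [← K.map_ideal (U := W) (V := U) hWU, hU, Ideal.map_span, Set.image_singleton]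
    rfl
  obtain ⟨r, hr⟩ := Ideal.mem_span_singleton.mp
    ((e2.symm.trans e1).le (Ideal.mem_span_singleton_self ((X.presheaf.map (homOfLE hWU).op).hom s)))
  rw [hr] at hsW
  show (X.presheaf.map (homOfLE hWV).op).hom z = (X.presheaf.map (homOfLE hWV).op).hom 0
  rw [map_zero]
  refine mem_nonZeroDivisors_iff_right.mp (mul_mem_nonZeroDivisors.mp hsW).1 _ ?_
  rw [← map_mul, hz, map_zero]

theorem nzd_limit_affine {I : Type u} [SmallCategory I] [IsCofiltered I] (D : I ⥤ Scheme.{u}) (c : Cone D)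
    (hc : IsLimit c) [∀ i, IsAffine (D.obj i)] (i : I) (t : Γ(D.obj i, ⊤))
    (ht : ∀ (j : I) (f : j ⟶ i), ((D.map f).appTop).hom t ∈ nonZeroDivisors Γ(D.obj j, ⊤)) :
    ((c.π.app i).appTop).hom t ∈ nonZeroDivisors Γ(c.pt, ⊤) := by
  refine mem_nonZeroDivisors_iff_right.mpr fun z hz => ?_
  obtain ⟨j, z', rfl⟩ := exists_appTop_π_eq_of_isAffine_of_isLimit D c hc z
  obtain ⟨k, fi, fj, -⟩ := IsCofilteredOrEmpty.cone_objs i j
  have ei : ∀ {a b : I} (f : a ⟶ b) (x : Γ(D.obj b, ⊤)),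
      ((c.π.app a).appTop).hom (((D.map f).appTop).hom x) = ((c.π.app b).appTop).hom x := fun f x => by
    rw [← RingHom.comp_apply, ← CommRingCat.hom_comp, ← Scheme.Hom.comp_appTop, c.w f]
  rw [← ei fi, ← ei fj, ← map_mul] at hz
  obtain ⟨l, g, hl⟩ := exists_appTop_map_eq_zero_of_isAffine_of_isLimit D c hc k _ hz
  rw [map_mul, ← RingHom.comp_apply _ ((D.map fi).appTop).hom, ← CommRingCat.hom_comp, ← Scheme.Hom.comp_appTop,
    ← D.map_comp] at hl
  have h0 := mem_nonZeroDivisors_iff_right.mp (ht l (g ≫ fi)) _ hl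
  rw [← ei fj, ← ei g, h0, map_zero]

theorem limit_cartier {I : Type u}
    [SmallCategory I] [IsCofiltered I] (D : I ⥤ Scheme.{u}) (c : Cone D) (hc : IsLimit c)
    [∀ (i j : I) (t : i ⟶ j), IsAffineHom (D.map t)]
    (J : ∀ i, (D.obj i).IdealSheafData) (hJ : ∀ i, BlowUp.IsEffCartierIdeal (J i))
    (hmin : ∀ (i j : I) (t : i ⟶ j), ModPair.IsMinimal (J i) (J j) (D.map t)) (i : I) :
    BlowUp.IsEffCartierIdeal ((J i).comap (c.π.app i)) := by
  refine BlowUpLib.isEffCartier_of_cover fun x => ?_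
  obtain ⟨U, hxU, t, ht, hU⟩ := hJ i (c.π.app i x)
  refine ⟨_, (c.π.app i ⁻¹ᵁ U.1).ι, inferInstance, (Scheme.Opens.range_ι _).ge hxU, ?_⟩
  let D' := opensDiagram D i U.1
  haveI : ∀ k, IsAffine (D'.obj k) := fun k =>
    haveI : IsAffineHom (D.map k.hom) := inferInstance
    U.2.preimage (D.map k.hom)
  let i' : Over i := Over.mk (𝟙 i)
  let w : ∀ k : Over i, D'.obj k ⟶ D.obj i := fun k => (D.map k.hom ⁻¹ᵁ U.1).ι ≫ D.map k.hom
  have hw : ∀ k, (⊤ : (D'.obj k).Opens) ≤ w k ⁻¹ᵁ U.1 := fun k z _ => z.2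
  have hid : ∀ (Z : Scheme.{u}) [IsAffine Z] (h : Z ⟶ D.obj i) (e : (⊤ : Z.Opens) ≤ h ⁻¹ᵁ U.1),
      ((J i).comap h).ideal ⟨⊤, isAffineOpen_top Z⟩ = Ideal.span {(h.appLE U.1 ⊤ e).hom t} := by
    intro Z _ h e
    rw [Groth.Agent.S4666.ideal_comap_eq _ h U ⟨⊤, isAffineOpen_top Z⟩ e, hU, Ideal.map_span, Set.image_singleton]
  have hnzd : ∀ (k : Over i) (f : k ⟶ i'),
      ((D'.map f).appTop).hom (((w i').appLE U.1 ⊤ (hw i')).hom t) ∈ nonZeroDivisors Γ(D'.obj k, ⊤) := by
    intro k f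
    have hf : D'.map f ≫ w i' = w k := by
      simp only [w, D', i', opensDiagram]
      rw [Scheme.Hom.resLE_comp_ι_assoc, ← D.map_comp]
      congr 2
      exact Over.w f
    have hc' : BlowUp.IsEffCartierIdeal ((J i).comap (w k)) := by
      have h0 := BlowUpLib.isEffCartier_comap_of_flat (D.map k.hom ⁻¹ᵁ U.1).ι (hJ k.left)
      rw [(hmin _ _ k.hom : J k.left = _), ← Scheme.IdealSheafData.comap_comp] at h0
      exact h0
    have h1 := nzd_of_ideal_eq hc' (hid _ (w k) (hw k))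
    have h2 := DFunLike.congr_fun (congrArg CommRingCat.Hom.hom
      (Scheme.Hom.appLE_comp_appLE (D'.map f) (w i') U.1 ⊤ ⊤ (hw i') le_rfl)) t
    simp only [hf] at h2
    have h3 : (D'.map f).appTop = (D'.map f).appLE ⊤ ⊤ le_rfl := by simp [Scheme.Hom.appLE]
    rw [h3]
    exact h2 ▸ h1
  have key := nzd_limit_affine D' (opensCone D c i U.1) (isLimitOpensCone D c hc i U.1) i' _ hnzd
  have haff : IsAffine (c.π.app i ⁻¹ᵁ U.1 : Scheme.{u}) := by
    haveI : IsAffineHom (c.π.app i) := isAffineHom_π_app D c hc i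
    exact U.2.preimage (c.π.app i)
  intro z
  refine ⟨⟨⊤, isAffineOpen_top _⟩, trivial, _, key, ?_⟩
  rw [← Scheme.IdealSheafData.comap_comp]
  have hπ : (opensCone D c i U.1).π.app i' ≫ w i' = (c.π.app i ⁻¹ᵁ U.1).ι ≫ c.π.app i := by
    simp only [w, i', opensCone]
    erw [Scheme.Hom.resLE_comp_ι_assoc]
    congr 1
    exact c.w (𝟙 i)
  have e : (⊤ : (c.π.app i ⁻¹ᵁ U.1 : Scheme.{u}).Opens) ≤ ((c.π.app i ⁻¹ᵁ U.1).ι ≫ c.π.app i) ⁻¹ᵁ U.1 :=
    fun z _ => z.2
  rw [hid _ _ e]
  congr 2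
  have h3 := DFunLike.congr_fun (congrArg CommRingCat.Hom.hom
      (Scheme.Hom.appLE_comp_appLE ((opensCone D c i U.1).π.app i') (w i') U.1 ⊤ ⊤ (hw i') le_rfl)) t
  simp only [hπ] at h3
  have h4 : ((opensCone D c i U.1).π.app i').appTop = ((opensCone D c i U.1).π.app i').appLE ⊤ ⊤ le_rfl :=
    Scheme.Hom.app_eq_appLE _
  rw [h4]
  exact h3.symm

theorem isAffineHom_clopen {U V W : X.Opens} (h : U ⊔ V = W) (hd : Disjoint U V) (hW : IsAffineHom W.ι) :
    IsAffineHom U.ι := by
  have hUW : U ≤ W := le_sup_left.trans h.le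
  have hr : Set.range (X.homOfLE hUW) = (Set.range (W.ι ⁻¹ᵁ V).ι)ᶜ := by
    rw [Scheme.Opens.range_ι]
    ext w
    constructor
    · rintro ⟨u, rfl⟩ hv
      have hv' : W.ι (X.homOfLE hUW u) ∈ V := hv
      rw [← Scheme.Hom.comp_apply, Scheme.homOfLE_ι] at hv'
      exact hd.le_bot ⟨u.2, hv'⟩
    · intro hv
      have hw : w.1 ∈ U ⊔ V := h ▸ w.2
      refine ⟨⟨w.1, hw.resolve_right hv⟩, W.ι.isEmbedding.injective ?_⟩
      rw [← Scheme.Hom.comp_apply, Scheme.homOfLE_ι]
      rfl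
  haveI : IsClosedImmersion (X.homOfLE hUW) := IsClosedImmersion.of_isPreimmersion _ (by
    rw [hr, Scheme.Opens.range_ι]
    exact (W.ι ⁻¹ᵁ V).2.isClosed_compl)
  haveI := hW
  rw [← Scheme.homOfLE_ι X hUW]
  infer_instance

theorem coprod_closures (I : X.IdealSheafData) (hI : BlowUp.IsEffCartierIdeal I) (U₀ U₁ : X.Opens)
    (hU : U₀ ⊔ U₁ = ModPair.interior I) (hd : Disjoint U₀ U₁) :
    BlowUp.IsEffCartierIdeal (I.comap (coprod.desc U₀.ι.imageι U₁.ι.imageι)) ∧
      ModPair.IsAdmBlowup (I.comap (coprod.desc U₀.ι.imageι U₁.ι.imageι)) I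
        (coprod.desc U₀.ι.imageι U₁.ι.imageι) := by
  have := isAffineHom_interior hI
  have h0 := isAffineHom_clopen hU hd this
  have h1 := isAffineHom_clopen (by rw [sup_comm]; exact hU) hd.symm this
  set d := coprod.desc U₀.ι.imageι U₁.ι.imageι with hdd
  have hcart : ∀ (U : X.Opens) [QuasiCompact U.ι], U ≤ ModPair.interior I →
      BlowUp.IsEffCartierIdeal (I.comap U.ι.imageι) := fun U _ hle => by
    have := isDominant_toImage (f := U.ι)
    exact isEffCartier_comap_of_dominant hI _ U.ι.toImage fun z => by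
      rw [← Scheme.Hom.comp_apply, Scheme.Hom.toImage_imageι]
      exact hle z.2
  refine ⟨BlowUpLib.isEffCartier_of_cover fun y => ?_, rfl, inferInstance, ?_⟩
  · obtain ⟨(a | b), rfl⟩ := (coprodMk _ _).surjective y
    · refine ⟨_, coprod.inl, inferInstance, ⟨a, (coprodMk_inl _ _ a).symm⟩, ?_⟩
      rw [← Scheme.IdealSheafData.comap_comp, hdd, coprod.inl_desc]
      exact hcart U₀ (le_sup_left.trans hU.le)
    · refine ⟨_, coprod.inr, inferInstance, ⟨b, (coprodMk_inr _ _ b).symm⟩, ?_⟩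
      rw [← Scheme.IdealSheafData.comap_comp, hdd, coprod.inr_desc]
      exact hcart U₁ (le_sup_right.trans hU.le)
  · have hdisj : ∀ (U V : X.Opens) [QuasiCompact V.ι], Disjoint U V → ∀ z, V.ι.imageι z ∉ U := by
      intro U V _ hd z hz
      have h2 : V.ι.imageι z ∈ closure (Set.range V.ι) := by
        rw [← Scheme.Hom.support_ker, ← Scheme.IdealSheafData.range_subschemeι]
        exact Set.mem_range_self z
      obtain ⟨y, hy, hy'⟩ := mem_closure_iff.mp h2 U U.2 hz
      rw [Scheme.Opens.range_ι] at hy'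
      exact hd.le_bot ⟨hy, hy'⟩
    have piece : ∀ (U : X.Opens) [QuasiCompact U.ι] (i : U.ι.image ⟶ U₀.ι.image ⨿ U₁.ι.image)
        [IsOpenImmersion i], i ≫ d = U.ι.imageι → (∀ y, d y ∈ U → y ∈ Set.range i) → IsIso (d ∣_ U) := by
      intro U _ i _ hi hsurj
      have h3 : IsIso (i ∣_ (d ⁻¹ᵁ U)) := by
        haveI : Surjective (i ∣_ (d ⁻¹ᵁ U)) := ⟨fun y => by
          obtain ⟨z, hz⟩ := hsurj y.1 y.2
          refine ⟨⟨z, show i z ∈ d ⁻¹ᵁ U from hz ▸ y.2⟩, (d ⁻¹ᵁ U).ι.isEmbedding.injective ?_⟩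
          rw [← Scheme.Hom.comp_apply, morphismRestrict_ι, Scheme.Hom.comp_apply]
          exact hz⟩
        exact (isIso_iff_isOpenImmersion_and_epi_base (i ∣_ (d ⁻¹ᵁ U))).mpr
          ⟨inferInstance, (TopCat.epi_iff_surjective _).mpr (i ∣_ (d ⁻¹ᵁ U)).surjective⟩
      have h4 : IsIso ((i ≫ d) ∣_ U) := by rw [hi]; exact isIso_imageι_restrict U
      rw [morphismRestrict_comp] at h4
      exact @IsIso.of_isIso_comp_left _ _ _ _ _ (i ∣_ (d ⁻¹ᵁ U)) (d ∣_ U) h3 h4
    have hp0 : IsIso (d ∣_ U₀) := piece U₀ coprod.inl (by rw [hdd, coprod.inl_desc]) fun y hy => by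
      obtain ⟨(a | b), rfl⟩ := (coprodMk _ _).surjective y
      · exact ⟨a, (coprodMk_inl _ _ a).symm⟩
      · refine absurd ?_ (hdisj U₀ U₁ hd b)
        rw [coprodMk_inr, ← Scheme.Hom.comp_apply, hdd, coprod.inr_desc] at hy
        exact hy
    have hp1 : IsIso (d ∣_ U₁) := piece U₁ coprod.inr (by rw [hdd, coprod.inr_desc]) fun y hy => by
      obtain ⟨(a | b), rfl⟩ := (coprodMk _ _).surjective y
      · refine absurd ?_ (hdisj U₁ U₀ hd.symm a)
        rw [coprodMk_inl, ← Scheme.Hom.comp_apply, hdd, coprod.inl_desc] at hy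
        exact hy
      · exact ⟨b, (coprodMk_inr _ _ b).symm⟩
    let W : Bool → X.Opens := fun b => cond b U₀ U₁
    refine (IsZariskiLocalAtTarget.iff_of_iSup_eq_top (P := MorphismProperty.isomorphisms Scheme)
      (fun b => (ModPair.interior I).ι ⁻¹ᵁ W b) ?_).mpr fun b => ?_
    · refine top_le_iff.mp fun w _ => Opens.mem_iSup.mpr ?_
      have hw : w.1 ∈ U₀ ⊔ U₁ := hU.ge w.2
      rcases hw with h | h
      exacts [⟨true, h⟩, ⟨false, h⟩]
    · have hWb : (ModPair.interior I).ι ''ᵁ ((ModPair.interior I).ι ⁻¹ᵁ W b) = W b := by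
        rw [Scheme.Hom.image_preimage_eq_opensRange_inf, Scheme.Opens.opensRange_ι, inf_eq_right, ← hU]
        cases b
        exacts [le_sup_right, le_sup_left]
      refine ((MorphismProperty.isomorphisms Scheme).arrow_mk_iso_iff
        (morphismRestrictRestrict d (ModPair.interior I) _ ≪≫ morphismRestrictEq d hWb)).mpr ?_
      cases b
      exacts [hp1, hp0]

end ModPairLib
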