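import Groth.Agent.ModPairLib.Product

/-!
# Division by an effective Cartier ideal sheaf
-/

set_option autoImplicit false

universe u

open CategoryTheory AlgebraicGeometry TopologicalSpace

namespace ModPairLib

variable {X : Scheme.{u}}

theorem map_colon_of_fg {R S : Type u} [CommRing R] [CommRing S] [Algebra R S] (M : Submonoid R)
    [IsLocalization M S] (J E : Ideal R) (hE : E.FG) :
    (J.colon (E : Set R)).map (algebraMap R S) =
      (J.map (algebraMap R S)).colon ((E.map (algebraMap R S) : Ideal S) : Set S) := by
  classical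
  obtain ⟨s, hs⟩ := hE
  apply le_antisymm
  · refine Ideal.map_le_iff_le_comap.mpr fun x hx => ?_
    rw [Ideal.mem_comap, Submodule.mem_colon]
    intro z hz
    rw [smul_eq_mul]
    induction hz using Submodule.span_induction with
    | mem z hz =>
        obtain ⟨e, he, rfl⟩ := hz
        rw [← map_mul]
        exact Ideal.mem_map_of_mem _ (Submodule.mem_colon.mp hx e he)
    | zero => simp
    | add a b _ _ ha hb => rw [mul_add]; exact add_mem ha hb
    | smul r a _ ha => rw [smul_eq_mul, mul_left_comm]; exact Ideal.mul_mem_left _ r ha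
  · intro y hy
    obtain ⟨⟨x, m⟩, hm⟩ := IsLocalization.surj M y
    have h1 : ∀ e ∈ s, ∃ n : M, (n : R) * (x * e) ∈ J := by
      intro e he
      have h2 : algebraMap R S (x * e) ∈ J.map (algebraMap R S) := by
        rw [map_mul, ← hm, mul_right_comm]
        refine Ideal.mul_mem_right _ _ (Submodule.mem_colon.mp hy _ (Ideal.mem_map_of_mem _ ?_))
        exact hs ▸ Submodule.subset_span he
      obtain ⟨n, hn, hn'⟩ := (IsLocalization.algebraMap_mem_map_algebraMap_iff M S J _).mp h2
      exact ⟨⟨n, hn⟩, hn'⟩
    choose n hn using h1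
    let N : M := ∏ e ∈ s.attach, n e.1 e.2
    have hx : (N : R) * x ∈ J.colon (E : Set R) := by
      rw [Submodule.mem_colon]
      intro z hz
      rw [smul_eq_mul]
      rw [← hs] at hz
      induction hz using Submodule.span_induction with
      | mem e he =>
          obtain ⟨c, hc⟩ : (n e he : R) ∣ (N : R) := by
            have := Finset.dvd_prod_of_mem (fun e : s => (n e.1 e.2 : R)) (Finset.mem_attach s ⟨e, he⟩)
            simpa [N, Submonoid.coe_finsetProd] using this
          rw [hc, show (n e he : R) * c * x * e = c * ((n e he : R) * (x * e)) by ring]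
          exact Ideal.mul_mem_left _ _ (hn e he)
      | zero => simp
      | add a b _ _ ha hb => rw [mul_add]; exact add_mem ha hb
      | smul r a _ ha => rw [smul_eq_mul, mul_left_comm]; exact Ideal.mul_mem_left _ r ha
    obtain ⟨v, hv⟩ := ((IsLocalization.map_units S N).mul (IsLocalization.map_units S m))
    refine (Ideal.unit_mul_mem_iff_mem _ v.isUnit).mp ?_
    rw [hv, show algebraMap R S N * algebraMap R S m * y = algebraMap R S (N * x) by
      rw [map_mul, ← hm]; ring]
    exact Ideal.mem_map_of_mem _ hx

theorem colon_mul_eq {R : Type u} [CommRing R] {J : Ideal R} {t : R} (h : J ≤ Ideal.span {t}) :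
    J.colon ((Ideal.span {t} : Ideal R) : Set R) * Ideal.span {t} = J := by
  apply le_antisymm
  · refine Ideal.mul_le.mpr fun x hx z hz => ?_
    exact Submodule.mem_colon.mp hx z hz
  · intro j hj
    obtain ⟨r, rfl⟩ := Ideal.mem_span_singleton'.mp (h hj)
    refine Ideal.mul_mem_mul ?_ (Ideal.mem_span_singleton_self t)
    rw [Submodule.mem_colon]
    intro z hz
    obtain ⟨q, rfl⟩ := Ideal.mem_span_singleton'.mp hz
    rw [smul_eq_mul, show r * (q * t) = q * (r * t) by ring]
    exact Ideal.mul_mem_left _ _ hj

theorem fg_of_isEffCartier {E : X.IdealSheafData} (hE : BlowUp.IsEffCartierIdeal E) :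
    BlowUp.IsFiniteTypeIdeal E := by
  have := fg_comap_of_isEffCartier hE (𝟙 X)
  rwa [Scheme.IdealSheafData.comap_id] at this

/-- An ideal sheaf contained in an effective Cartier one is divisible by it. -/
theorem exists_mul_eq {J E : X.IdealSheafData} (hE : BlowUp.IsEffCartierIdeal E) (h : J ≤ E) :
    ∃ D : X.IdealSheafData, D * E = J := by
  let D : X.IdealSheafData :=
    { ideal := fun U => (J.ideal U).colon ((E.ideal U : Ideal Γ(X, U.1)) : Set Γ(X, U.1))
      map_ideal_basicOpen := fun U f => by
        haveI : IsLocalization.Away f Γ(X, X.basicOpen f) := U.2.isLocalization_basicOpen f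
        have h1 := map_colon_of_fg (S := Γ(X, X.basicOpen f)) (Submonoid.powers f) (J.ideal U) (E.ideal U)
          (fg_of_isEffCartier hE U)
        rw [← J.map_ideal_basicOpen U f, ← E.map_ideal_basicOpen U f]
        exact h1 }
  refine ⟨D, ?_⟩
  have hE' := hE
  choose U hxU t ht hU using hE'
  refine Scheme.IdealSheafData.ext_of_iSup_eq_top U
    (top_le_iff.mp fun x _ => Opens.mem_iSup.mpr ⟨x, hxU x⟩) fun x => ?_
  rw [Scheme.IdealSheafData.ideal_mul, Pi.mul_apply]
  change (J.ideal (U x)).colon _ * E.ideal (U x) = _
  rw [hU x]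
  exact colon_mul_eq ((h (U x)).trans_eq (hU x))

theorem mul_cancel {M K E : X.IdealSheafData} (hE : BlowUp.IsEffCartierIdeal E) (h : M * E = K * E) :
    M = K :=
  le_antisymm (le_of_mul_le hE h.le) (le_of_mul_le hE h.ge)

end ModPairLib
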