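import Groth.Prelude.Def_W4c6modpairsegaMP
import Groth.Agent.BlowUpLib.Exists
import Groth.Agent.EffCartLib.Basic
import Mathlib.AlgebraicGeometry.Morphisms.SchemeTheoreticallyDominant

/-!
# Modulus pairs: interiors are schematically dense; right calculus of fractions
-/

set_option autoImplicit false

universe u

open CategoryTheory CategoryTheory.Limits AlgebraicGeometry TopologicalSpace

namespace ModPairLib

variable {X Y Z : Scheme.{u}}

theorem exists_gen_basicOpen {K : X.IdealSheafData} (hK : BlowUp.IsEffCartierIdeal K) (x : X) :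
    ∃ U : X.affineOpens, x ∈ U.1 ∧ ∃ f : Γ(X, U.1), f ∈ nonZeroDivisors Γ(X, U.1) ∧
      K.ideal U = Ideal.span {f} ∧ ModPair.interior K ⊓ U.1 = X.basicOpen f := by
  obtain ⟨U, hxU, f, hf, hU⟩ := hK x
  refine ⟨U, hxU, f, hf, hU, ?_⟩
  ext y
  constructor
  · rintro ⟨hy, hyU⟩
    by_contra h
    refine hy ((Scheme.IdealSheafData.mem_support_iff_of_mem (U := U) hyU).mpr ?_)
    rw [hU, Scheme.zeroLocus_span, Scheme.mem_zeroLocus_iff]
    rintro g rfl
    exact h
  · intro hy
    refine ⟨fun hys => ?_, X.basicOpen_le f hy⟩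
    have := (Scheme.IdealSheafData.mem_support_iff_of_mem (U := U) (X.basicOpen_le f hy)).mp hys
    rw [Scheme.mem_zeroLocus_iff] at this
    exact this f (hU ▸ Ideal.mem_span_singleton_self f) hy

theorem isAffineHom_interior {K : X.IdealSheafData} (hK : BlowUp.IsEffCartierIdeal K) :
    IsAffineHom (ModPair.interior K).ι := by
  refine isAffineHom_of_forall_exists_isAffineOpen _ fun x => ?_
  obtain ⟨U, hxU, f, -, -, hb⟩ := exists_gen_basicOpen hK x
  refine ⟨U.1, hxU, U.2, ?_⟩
  rw [← (ModPair.interior K).ι.isAffineOpen_iff_of_isOpenImmersion,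
    Scheme.Hom.image_preimage_eq_opensRange_inf, Scheme.Opens.opensRange_ι, hb]
  exact U.2.basicOpen f

theorem isDominant_interior {K : X.IdealSheafData} (hK : BlowUp.IsEffCartierIdeal K) :
    IsSchemeTheoreticallyDominant (ModPair.interior K).ι := by
  have := isAffineHom_interior hK
  choose U hxU f hf hKU hb using exists_gen_basicOpen hK
  refine ⟨Scheme.IdealSheafData.ext_of_iSup_eq_top U
    (top_le_iff.mp fun x _ => Opens.mem_iSup.mpr ⟨x, hxU x⟩) fun x => ?_⟩
  rw [Scheme.Hom.ker_apply, Scheme.IdealSheafData.ideal_bot, Pi.bot_apply,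
    ← RingHom.injective_iff_ker_eq_bot, Scheme.Opens.ι_app]
  have key : ∀ (W : X.Opens) (_ : W = X.basicOpen (f x)) (h : W ≤ (U x).1),
      Function.Injective (X.presheaf.map (homOfLE h).op).hom := by
    rintro W rfl h
    haveI : IsLocalization.Away (f x) Γ(X, X.basicOpen (f x)) := (U x).2.isLocalization_basicOpen (f x)
    exact IsLocalization.injective (Γ(X, X.basicOpen (f x)))
      (Submonoid.powers_le.mpr (hf x) : Submonoid.powers (f x) ≤ _)
  refine key _ ?_ _
  rw [Scheme.Hom.image_preimage_eq_opensRange_inf, Scheme.Opens.opensRange_ι, hb]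

/-- Morphisms agreeing on a schematically dense subscheme and over a separated morphism agree. -/
theorem ext_of_dominant {T S : Scheme.{u}} (q : Y ⟶ S) [IsSeparated q] (j : T ⟶ X)
    [IsSchemeTheoreticallyDominant j] {k k' : X ⟶ Y} (hq : k ≫ q = k' ≫ q) (hj : j ≫ k = j ≫ k') :
    k = k' := by
  let X' : Over S := Over.mk (k ≫ q)
  let Y' : Over S := Over.mk q
  let a : X' ⟶ Y' := Over.homMk k
  let a' : X' ⟶ Y' := Over.homMk k' hq.symm
  have : IsSeparated Y'.hom := inferInstanceAs (IsSeparated q)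
  let e : (equalizer a a').left ⟶ X := (equalizer.ι a a').left
  let o : Over.mk (j ≫ k ≫ q) ⟶ X' := Over.homMk j
  have hfac : ∃ l : T ⟶ (equalizer a a').left, l ≫ e = j :=
    ⟨(equalizer.lift (f := a) (g := a') o
      (by ext; exact hj)).left, by
      change ((equalizer.lift (f := a) (g := a') o _) ≫ equalizer.ι a a').left = o.left
      rw [equalizer.lift_ι]
      ⟩
  obtain ⟨l, hl⟩ := hfac
  have hbot : e.ker = ⊥ := le_bot_iff.mp (by
    rw [← IsSchemeTheoreticallyDominant.ker_eq_bot j, ← hl]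
    exact l.le_ker_comp e)
  have : IsClosedImmersion e := inferInstanceAs (IsClosedImmersion (equalizer.ι a a').left)
  have : IsIso e := IsClosedImmersion.isIso_of_ker_eq e (𝟙 X) e (Category.comp_id e)
    (hbot.trans (Scheme.Hom.ker_eq_bot_of_isIso _).symm)
  rw [← cancel_epi e]
  exact congr($(equalizer.condition a a').left)

theorem ext_of_interior {K : X.IdealSheafData} (hK : BlowUp.IsEffCartierIdeal K) {S : Scheme.{u}}
    (q : Y ⟶ S) [IsSeparated q] {k k' : X ⟶ Y} (hq : k ≫ q = k' ≫ q)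
    (hj : (ModPair.interior K).ι ≫ k = (ModPair.interior K).ι ≫ k') : k = k' :=
  have := isDominant_interior hK
  ext_of_dominant q (ModPair.interior K).ι hq hj

theorem interior_comap (J : Y.IdealSheafData) (f : X ⟶ Y) :
    ModPair.interior (J.comap f) = f ⁻¹ᵁ ModPair.interior J := by
  ext x
  change x ∉ (J.comap f).support ↔ f x ∉ J.support
  rw [Scheme.IdealSheafData.support_comap]
  rfl

theorem interior_le {I : X.IdealSheafData} {J : Y.IdealSheafData} {f : X ⟶ Y}
    (h : ModPair.IsAmbient I J f) : ModPair.interior I ≤ f ⁻¹ᵁ ModPair.interior J := by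
  rw [← interior_comap]
  exact fun x hx hs => hx (Scheme.IdealSheafData.support_antitone h hs)

/-- An effective Cartier ideal pulls back to one along a morphism whose source contains a schematically dense
subscheme mapping to the complement of the divisor. -/
theorem isEffCartier_comap_of_dominant {K : Y.IdealSheafData} (hK : BlowUp.IsEffCartierIdeal K)
    (t : X ⟶ Y) {T : Scheme.{u}} (j : T ⟶ X) [QuasiCompact j] [IsSchemeTheoreticallyDominant j]
    (hj : ∀ z, t (j z) ∈ ModPair.interior K) : BlowUp.IsEffCartierIdeal (K.comap t) := by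
  intro x
  obtain ⟨U, hxU, f, -, hU, hb⟩ := exists_gen_basicOpen hK (t x)
  obtain ⟨V, hxV, e⟩ := BlowUpLib.exists_affine x (W := t ⁻¹ᵁ U.1) hxU
  refine ⟨V, hxV, (t.appLE U.1 V.1 e).hom f, ?_, ?_⟩
  · have hu : IsUnit ((j.app V.1).hom ((t.appLE U.1 V.1 e).hom f)) := by
      apply RingedSpace.isUnit_of_isUnit_germ
      intro z hz
      rw [← Scheme.mem_basicOpen T ((j.app V.1).hom ((t.appLE U.1 V.1 e).hom f)) z hz,
        ← Scheme.preimage_basicOpen]
      change j z ∈ X.basicOpen ((t.appLE U.1 V.1 e).hom f)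
      rw [Scheme.basicOpen_appLE]
      refine ⟨hz, ?_⟩
      change t (j z) ∈ Y.basicOpen f
      rw [← hb]
      exact ⟨hj z, e hz⟩
    refine mem_nonZeroDivisors_iff_right.mpr fun z hz => j.app_injective V.1 ?_
    rw [map_zero]
    exact hu.mul_left_eq_zero.mp (by rw [← map_mul, hz, map_zero])
  · rw [Groth.Agent.S4666.ideal_comap_eq _ t U V e, hU, Ideal.map_span, Set.image_singleton]

theorem isDominant_toImage {f : X ⟶ Y} [QuasiCompact f] : IsSchemeTheoreticallyDominant f.toImage := by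
  refine ⟨Scheme.IdealSheafData.ext_of_iSup_eq_top
    (fun U : Y.affineOpens => ⟨f.imageι ⁻¹ᵁ U.1, U.2.preimage f.imageι⟩)
    (top_le_iff.mp fun x _ => ?_) fun U => ?_⟩
  · obtain ⟨U, hU, hxU, -⟩ := exists_isAffineOpen_mem_and_subset (x := f.imageι x) (U := ⊤) trivial
    exact Opens.mem_iSup.mpr ⟨⟨U, hU⟩, hxU⟩
  · rw [Scheme.Hom.ker_apply, Scheme.IdealSheafData.ideal_bot, Pi.bot_apply,
      ← RingHom.injective_iff_ker_eq_bot]
    exact f.toImage_app_injective U

/-- A morphism that is an isomorphism over `V` is monic on maps landing over `V`. -/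
theorem eq_of_isIso_restrict {s : X ⟶ Y} {V : Y.Opens} [IsIso (s ∣_ V)] {W : Scheme.{u}}
    {a a' : W ⟶ X} (h : a ≫ s = a' ≫ s) (hV : ∀ w, s (a w) ∈ V) : a = a' := by
  have hs : Mono ((s ⁻¹ᵁ V).ι ≫ s) := by rw [← morphismRestrict_ι]; infer_instance
  have hr : Set.range a ⊆ Set.range (s ⁻¹ᵁ V).ι := by
    rintro _ ⟨w, rfl⟩
    rw [Scheme.Opens.range_ι]
    exact hV w
  have hr' : Set.range a' ⊆ Set.range (s ⁻¹ᵁ V).ι := by
    rintro _ ⟨w, rfl⟩
    rw [Scheme.Opens.range_ι]
    have := hV w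
    rwa [← Scheme.Hom.comp_apply, h, Scheme.Hom.comp_apply] at this
  have e : IsOpenImmersion.lift _ a hr = IsOpenImmersion.lift _ a' hr' := by
    rw [← cancel_mono ((s ⁻¹ᵁ V).ι ≫ s), IsOpenImmersion.lift_fac_assoc, IsOpenImmersion.lift_fac_assoc, h]
  rw [← IsOpenImmersion.lift_fac _ a hr, e, IsOpenImmersion.lift_fac]

open ModPair

instance : (Pair.admBlowup.{u}).ContainsIdentities where
  id_mem P := ⟨(Scheme.IdealSheafData.comap_id _).symm, inferInstanceAs (IsProper (𝟙 _)),
    inferInstanceAs (IsIso (𝟙 P.total ∣_ _))⟩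

instance : (Pair.admBlowup.{u}).IsStableUnderComposition where
  comp_mem {P Q R} f g hf hg := by
    obtain ⟨hf₁, hf₂, hf₃⟩ := hf
    obtain ⟨hg₁, hg₂, hg₃⟩ := hg
    refine ⟨?_, MorphismProperty.comp_mem @IsProper _ _ hf₂ hg₂, ?_⟩
    · change P.mod = R.mod.comap (f.hom ≫ g.hom)
      rw [Scheme.IdealSheafData.comap_comp, ← (hg₁ : Q.mod = _), ← (hf₁ : P.mod = _)]
    · change IsIso ((f.hom ≫ g.hom) ∣_ interior R.mod)
      have e : g.hom ⁻¹ᵁ interior R.mod = interior Q.mod := by
        rw [← interior_comap, ← (hg₁ : Q.mod = _)]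
      have : IsIso (f.hom ∣_ (g.hom ⁻¹ᵁ interior R.mod)) := by rw [e]; exact hf₃
      rw [morphismRestrict_comp]
      exact IsIso.comp_isIso' this hg₃

instance : (Pair.admBlowup.{u}).IsMultiplicative where

/-- A morphism into an admissible blow-up is determined by its composite. -/
theorem hom_ext_of_admBlowup {Q P' P : Pair.{u}} {f g : Q ⟶ P'} {s : P' ⟶ P} (hs : Pair.admBlowup s)
    (h : f ≫ s = g ≫ s) : f = g := by
  obtain ⟨hm, hp, hiso⟩ := hs
  refine Pair.Hom.ext (ext_of_interior Q.isEffCartier s.hom congr($(h).hom) ?_)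
  have := hiso
  refine eq_of_isIso_restrict (s := s.hom) (V := interior P.mod)
    (congrArg ((interior Q.mod).ι ≫ ·) congr($(h).hom)) fun w => ?_
  have hw : (w.1 : Q.total) ∈ f.hom ⁻¹ᵁ interior P'.mod := interior_le f.cond w.2
  rw [(hm : P'.mod = _), interior_comap] at hw
  exact hw

theorem le_comap_of_comm {W Q P P' : Scheme.{u}} {f : Q ⟶ P} {s : P' ⟶ P} {t : W ⟶ Q} {f' : W ⟶ P'}
    (hw : t ≫ f = f' ≫ s) {I : Q.IdealSheafData} {J : P.IdealSheafData} {J' : P'.IdealSheafData}
    (hJ : J' = J.comap s) (h : I ≤ J.comap f) : I.comap t ≤ J'.comap f' := by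
  rw [hJ, ← Scheme.IdealSheafData.comap_comp, ← hw, Scheme.IdealSheafData.comap_comp]
  exact Scheme.IdealSheafData.comap_mono t h

theorem isIso_image_restrict {Q P P' : Scheme.{u}} {f : Q ⟶ P} {s : P' ⟶ P} {V : P.Opens}
    [IsIso (s ∣_ V)] {U : Q.Opens} (hUV : U ≤ f ⁻¹ᵁ V) (j : (U : Scheme.{u}) ⟶ pullback f s)
    (hj : j ≫ pullback.fst f s = U.ι) : IsIso ((j.imageι ≫ pullback.fst f s) ∣_ U) := by
  have hjt : j.toImage ≫ j.imageι ≫ pullback.fst f s = U.ι := by
    rw [Scheme.Hom.toImage_imageι_assoc, hj]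
  have hr : Set.range j.toImage ⊆ Set.range ((j.imageι ≫ pullback.fst f s) ⁻¹ᵁ U).ι := by
    rintro _ ⟨w, rfl⟩
    rw [Scheme.Opens.range_ι]
    change (j.imageι ≫ pullback.fst f s) (j.toImage w) ∈ U
    rw [← Scheme.Hom.comp_apply, hjt]
    exact w.2
  refine ⟨IsOpenImmersion.lift _ j.toImage hr, ?_, ?_⟩
  · rw [← cancel_mono ((j.imageι ≫ pullback.fst f s) ⁻¹ᵁ U).ι, Category.assoc, IsOpenImmersion.lift_fac,
      Category.id_comp, ← cancel_mono j.imageι, Category.assoc, Scheme.Hom.toImage_imageι]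
    apply pullback.hom_ext
    · rw [Category.assoc, hj, morphismRestrict_ι, Category.assoc]
    · refine eq_of_isIso_restrict (s := s) (V := V) ?_ fun w => ?_
      · simp only [Category.assoc, ← pullback.condition]
        rw [reassoc_of% hj, morphismRestrict_ι_assoc, Category.assoc]
      · rw [← Scheme.Hom.comp_apply]
        simp only [Category.assoc, ← pullback.condition]
        rw [reassoc_of% hj, morphismRestrict_ι_assoc, Category.assoc]
        exact hUV w.2
  · rw [← cancel_mono U.ι, Category.assoc, morphismRestrict_ι, IsOpenImmersion.lift_fac_assoc, hjt,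
      Category.id_comp]

/-- Admissible blow-ups pull back along ambient morphisms. -/
theorem exists_pullback {P' P Q : Pair.{u}} (s : P' ⟶ P) (hs : Pair.admBlowup s) (f : Q ⟶ P) :
    ∃ (Q' : Pair.{u}) (t : Q' ⟶ Q) (f' : Q' ⟶ P'), Pair.admBlowup t ∧ t ≫ f = f' ≫ s := by
  obtain ⟨hm, hp, hiso⟩ := hs
  have := hiso
  have := hp
  obtain ⟨l, hl⟩ : ∃ l : (interior Q.mod : Scheme.{u}) ⟶ P'.total,
      (interior Q.mod).ι ≫ f.hom = l ≫ s.hom := by
    refine ⟨IsOpenImmersion.lift (interior P.mod).ι ((interior Q.mod).ι ≫ f.hom) (by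
        rintro _ ⟨w, rfl⟩
        rw [Scheme.Opens.range_ι]
        exact interior_le f.cond w.2) ≫ inv (s.hom ∣_ interior P.mod) ≫ (s.hom ⁻¹ᵁ interior P.mod).ι, ?_⟩
    simp only [Category.assoc, ← morphismRestrict_ι, IsIso.inv_hom_id_assoc, IsOpenImmersion.lift_fac]
  obtain ⟨j, hj⟩ : ∃ j : (interior Q.mod : Scheme.{u}) ⟶ pullback f.hom s.hom,
      j ≫ pullback.fst f.hom s.hom = (interior Q.mod).ι :=
    ⟨pullback.lift _ l hl, pullback.lift_fst _ _ _⟩
  have : QuasiCompact (interior Q.mod).ι := by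
    have := isAffineHom_interior Q.isEffCartier
    infer_instance
  have : QuasiCompact j := by
    have : QuasiCompact (j ≫ pullback.fst f.hom s.hom) := by rwa [hj]
    exact QuasiCompact.of_comp j (pullback.fst f.hom s.hom)
  have hjt : j.toImage ≫ j.imageι ≫ pullback.fst f.hom s.hom = (interior Q.mod).ι := by
    rw [Scheme.Hom.toImage_imageι_assoc, hj]
  have := isDominant_toImage (f := j)
  have hw : (j.imageι ≫ pullback.fst f.hom s.hom) ≫ f.hom = (j.imageι ≫ pullback.snd f.hom s.hom) ≫ s.hom := by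
    simp [pullback.condition]
  have hc := isEffCartier_comap_of_dominant Q.isEffCartier (j.imageι ≫ pullback.fst f.hom s.hom) j.toImage
    fun z => by rw [← Scheme.Hom.comp_apply, hjt]; exact z.2
  exact ⟨⟨j.image, _, hc⟩, ⟨j.imageι ≫ pullback.fst f.hom s.hom, le_rfl⟩,
    ⟨j.imageι ≫ pullback.snd f.hom s.hom, le_comap_of_comm hw hm f.cond⟩,
    ⟨rfl, inferInstanceAs (IsProper (j.imageι ≫ pullback.fst f.hom s.hom)),
      isIso_image_restrict (interior_le f.cond) j hj⟩, Pair.Hom.ext hw⟩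

theorem hasRightCalculus : (Pair.admBlowup.{u}).HasRightCalculusOfFractions where
  exists_rightFraction P Q φ := by
    obtain ⟨Q', t, f', ht, h⟩ := exists_pullback φ.s φ.hs φ.f
    exact ⟨⟨t, ht, f'⟩, h⟩
  ext P Q R f g s hs h := ⟨P, 𝟙 P, MorphismProperty.id_mem _ P, by rw [hom_ext_of_admBlowup hs h]⟩

end ModPairLib
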