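import Groth.Agent.ModPairLib.Product
import Mathlib.CategoryTheory.Limits.Preserves.Shapes.Products

/-!
# Coproducts of modulus pairs
-/

set_option autoImplicit false

universe u

open CategoryTheory CategoryTheory.Limits AlgebraicGeometry TopologicalSpace

namespace ModPairLib

variable {X Y : Scheme.{u}}

theorem comap_map_eq (I : X.IdealSheafData) (f : X ⟶ Y) [IsClosedImmersion f] : (I.map f).comap f = I := by
  refine le_antisymm (I.comap_map_le f) ?_
  have : IsClosedImmersion (I.subschemeι ≫ f) := inferInstance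
  rw [Scheme.IdealSheafData.map, ← Scheme.IdealSheafData.ker_fst_of_isClosedImmersion]
  have h : pullback.fst f (I.subschemeι ≫ f) = pullback.snd f (I.subschemeι ≫ f) ≫ I.subschemeι := by
    rw [← cancel_mono f, pullback.condition, Category.assoc]
  rw [h]
  conv_lhs => rw [← I.ker_subschemeι]
  exact Scheme.Hom.le_ker_comp _ _

/-- Inequalities of ideal sheaves are local. -/
theorem le_of_cover {I J : Y.IdealSheafData} (𝒰 : Y.OpenCover)
    (h : ∀ i, I.comap (𝒰.f i) ≤ J.comap (𝒰.f i)) : I ≤ J := by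
  have key : ∀ y : Y, ∃ U : Y.affineOpens, y ∈ U.1 ∧ I.ideal U ≤ J.ideal U := by
    intro y
    obtain ⟨i, z, rfl⟩ := 𝒰.exists_eq y
    obtain ⟨V, hV, hzV, -⟩ := exists_isAffineOpen_mem_and_subset (x := z) (U := ⊤) trivial
    refine ⟨⟨𝒰.f i ''ᵁ V, hV.image_of_isOpenImmersion _⟩, ⟨z, hzV, rfl⟩, ?_⟩
    have h' := h i ⟨V, hV⟩
    rw [Scheme.IdealSheafData.ideal_comap_of_isOpenImmersion,
      Scheme.IdealSheafData.ideal_comap_of_isOpenImmersion] at h'
    exact (Ideal.comap_le_comap_iff_of_surjective _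
      (ConcreteCategory.bijective_of_isIso ((𝒰.f i).appIso V).inv).2 _ _).mp h'
  choose U hyU hU using key
  exact Scheme.IdealSheafData.le_of_iSup_eq_top U
    (top_le_iff.mp fun y _ => Opens.mem_iSup.mpr ⟨y, hyU y⟩) hU

section Sigma

variable {σ : Type u} (g : σ → Scheme.{u})

theorem isClopen_range (i : σ) : IsClopen (Set.range (Sigma.ι g i)) := by
  refine ⟨⟨?_⟩, (Sigma.ι g i).opensRange.2⟩
  have : (Set.range (Sigma.ι g i))ᶜ = ⋃ (j : σ) (_ : j ≠ i), Set.range (Sigma.ι g j) := by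
    ext x
    obtain ⟨⟨j, z⟩, rfl⟩ := (sigmaMk g).surjective x
    rw [sigmaMk_mk]
    simp only [Set.mem_compl_iff, Set.mem_range, Set.mem_iUnion, exists_prop]
    constructor
    · exact fun h => ⟨j, fun hji => h (by subst hji; exact ⟨z, rfl⟩), z, rfl⟩
    · rintro ⟨k, hk, y, hy⟩ ⟨w, hw⟩
      have := (sigmaι_eq_iff g i k w y).mp (hw.trans hy.symm)
      exact hk (congrArg Sigma.fst this).symm
  rw [this]
  exact isOpen_iUnion fun j => isOpen_iUnion fun _ => (Sigma.ι g j).opensRange.2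

theorem isClosedImmersion_sigmaι (i : σ) : IsClosedImmersion (Sigma.ι g i) :=
  IsClosedImmersion.of_isPreimmersion _ (isClopen_range g i).1

/-- The ideal of the disjoint union. -/
noncomputable def sigmaIdeal (I : ∀ i, (g i).IdealSheafData) : (∐ g).IdealSheafData :=
  ⨅ i, (I i).map (Sigma.ι g i)

theorem comap_sigmaIdeal (I : ∀ i, (g i).IdealSheafData) (j : σ) :
    (sigmaIdeal g I).comap (Sigma.ι g j) = I j := by
  have hc := isClosedImmersion_sigmaι g j
  refine le_antisymm ((Scheme.IdealSheafData.comap_mono _ (iInf_le _ j)).trans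
    (Scheme.IdealSheafData.comap_map_le _ _)) ?_
  let V : (∐ g).Opens := ⟨(Set.range (Sigma.ι g j))ᶜ, (isClopen_range g j).1.isOpen_compl⟩
  have hV : IsClosedImmersion V.ι := IsClosedImmersion.of_isPreimmersion _ (by
    rw [Scheme.Opens.range_ι]
    exact (isClopen_range g j).2.isClosed_compl)
  have hR : V.ι.ker.comap (Sigma.ι g j) = ⊤ := by
    rw [← Scheme.IdealSheafData.support_eq_bot_iff, Scheme.IdealSheafData.support_comap]
    refine SetLike.ext fun z => iff_of_false (fun hz => ?_) (fun hz => hz)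
    have hz' : Sigma.ι g j z ∈ (V.ι.ker.support : Set (∐ g : Scheme.{u})) := hz
    rw [Scheme.Hom.support_ker, Scheme.Opens.range_ι] at hz'
    rw [(show IsClosed (V : Set (∐ g : Scheme.{u})) from (isClopen_range g j).2.isClosed_compl).closure_eq] at hz'
    exact hz' ⟨z, rfl⟩
  have hle : (I j).map (Sigma.ι g j) * V.ι.ker ≤ sigmaIdeal g I := by
    refine le_iInf fun i => ?_
    by_cases hij : i = j
    · subst hij
      intro U
      simp only [Scheme.IdealSheafData.ideal_mul, Pi.mul_apply]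
      exact Ideal.mul_le_left
    · refine le_trans (fun U => ?_) (?_ : V.ι.ker ≤ (I i).map (Sigma.ι g i))
      · simp only [Scheme.IdealSheafData.ideal_mul, Pi.mul_apply]
        exact Ideal.mul_le_right
      · have hr : Set.range (Sigma.ι g i) ⊆ Set.range V.ι := by
          rw [Scheme.Opens.range_ι]
          rintro _ ⟨z, rfl⟩ ⟨w, hw⟩
          exact hij (congrArg Sigma.fst ((sigmaι_eq_iff g j i w z).mp hw)).symm
        refine le_trans ?_ (show (⊥ : (g i).IdealSheafData).map (Sigma.ι g i) ≤ (I i).map (Sigma.ι g i) from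
          Scheme.IdealSheafData.map_mono _ bot_le)
        rw [Scheme.IdealSheafData.map_bot, ← IsOpenImmersion.lift_fac V.ι (Sigma.ι g i) hr]
        exact Scheme.Hom.le_ker_comp _ _
  have h2 := Scheme.IdealSheafData.comap_mono (Sigma.ι g j) hle
  simp only [BlowUpLib.comap_mul, comap_map_eq, hR, Scheme.IdealSheafData.mul_top] at h2
  exact h2

end Sigma

open ModPair

/-- The coproduct of a family of modulus pairs. -/
noncomputable def sigmaPair {σ : Type u} (P : σ → Pair.{u}) : Pair.{u} :=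
  ⟨∐ fun i => (P i).total, sigmaIdeal (fun i => (P i).total) fun i => (P i).mod,
    BlowUpLib.isEffCartier_of_cover fun x => by
      obtain ⟨⟨i, z⟩, rfl⟩ := (sigmaMk fun i => (P i).total).surjective x
      exact ⟨_, Sigma.ι _ i, inferInstance, ⟨z, (sigmaMk_mk _ _ _).symm⟩,
        by rw [comap_sigmaIdeal]; exact (P i).isEffCartier⟩⟩

noncomputable def sigmaInj {σ : Type u} (P : σ → Pair.{u}) (i : σ) : P i ⟶ sigmaPair P :=
  ⟨Sigma.ι (fun i => (P i).total) i, le_of_eq (comap_sigmaIdeal (fun i => (P i).total) (fun i => (P i).mod) i).symm⟩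

theorem sigmaPair_le {σ : Type u} (P : σ → Pair.{u}) (K : (sigmaPair P).total.IdealSheafData)
    (h : ∀ i, (P i).mod ≤ K.comap (Sigma.ι _ i)) : (sigmaPair P).mod ≤ K := by
  refine le_of_cover (sigmaOpenCover fun i => (P i).total) fun i => ?_
  exact (le_of_eq (comap_sigmaIdeal (fun i => (P i).total) (fun i => (P i).mod) i)).trans (h i)

noncomputable def isColimitSigma {σ : Type u} (P : σ → Pair.{u}) :
    IsColimit (Cofan.mk (sigmaPair P) (sigmaInj P)) :=
  mkCofanColimit _
    (fun s => ⟨Sigma.desc fun i => (s.inj i).hom, sigmaPair_le P _ fun i =>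
      (s.inj i).cond.trans_eq ((congrArg (fun f => s.pt.mod.comap f)
        (Sigma.ι_desc (fun i => (s.inj i).hom) i).symm).trans
        (Scheme.IdealSheafData.comap_comp _ (Sigma.ι (fun i => (P i).total) i) (Sigma.desc fun i => (s.inj i).hom)))⟩)
    (fun s i => Pair.Hom.ext (Sigma.ι_desc (fun i => (s.inj i).hom) i))
    (fun s m hm => Pair.Hom.ext (Sigma.hom_ext _ _ fun i => by
      rw [Sigma.ι_desc]
      exact congr($(hm i).hom)))

noncomputable def isColimitSigmaForget {σ : Type u} (P : σ → Pair.{u}) :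
    IsColimit (Pair.forget.mapCocone (Cofan.mk (sigmaPair P) (sigmaInj P))) :=
  (isColimitMapCoconeCofanMkEquiv Pair.forget P (sigmaInj P)).symm
    (coproductIsCoproduct fun i => (P i).total)

theorem hasCoproducts (σ : Type u) :
    HasColimitsOfShape (Discrete σ) Pair.{u} ∧ PreservesColimitsOfShape (Discrete σ) Pair.forget.{u} := by
  constructor
  · refine ⟨fun F => ?_⟩
    have : HasColimit (Discrete.functor (F.obj ∘ Discrete.mk)) := ⟨⟨_, isColimitSigma _⟩⟩
    exact hasColimit_of_iso Discrete.natIsoFunctor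
  · refine ⟨fun {F} => ?_⟩
    have : PreservesColimit (Discrete.functor (F.obj ∘ Discrete.mk)) Pair.forget :=
      preservesColimit_of_preserves_colimit_cocone (isColimitSigma _) (isColimitSigmaForget _)
    exact preservesColimit_of_iso_diagram _ Discrete.natIsoFunctor.symm

/-- The binary coproduct of two modulus pairs, as an explicit colimit whose legs are the inclusions. -/
theorem exists_binaryCoprod (A B : Pair.{u}) :
    ∃ (P : Pair.{u}) (i : A ⟶ P) (j : B ⟶ P) (_ : IsColimit (BinaryCofan.mk i j))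
      (e : A.total ⨿ B.total ≅ P.total), coprod.inl ≫ e.hom = i.hom ∧ coprod.inr ≫ e.hom = j.hom ∧
        P.mod.comap i.hom = A.mod ∧ P.mod.comap j.hom = B.mod := by
  let f : ULift.{u} WalkingPair → Pair.{u} := fun k => WalkingPair.casesOn k.down A B
  let i : A ⟶ sigmaPair f := sigmaInj f ⟨.left⟩
  let j : B ⟶ sigmaPair f := sigmaInj f ⟨.right⟩
  have hc : IsColimit (BinaryCofan.mk i j) :=
    BinaryCofan.IsColimit.mk _
      (fun {Z} a b => Cofan.IsColimit.desc (isColimitSigma f) fun (k : ULift.{u} WalkingPair) =>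
        (WalkingPair.casesOn (motive := fun w => f ⟨w⟩ ⟶ Z) k.down a b : f k ⟶ Z))
      (fun a b => Cofan.IsColimit.fac (isColimitSigma f) _ (⟨.left⟩ : ULift.{u} WalkingPair))
      (fun a b => Cofan.IsColimit.fac (isColimitSigma f) _ (⟨.right⟩ : ULift.{u} WalkingPair))
      (fun a b m h₁ h₂ => Cofan.IsColimit.hom_ext (isColimitSigma f) _ _ fun k => by
        rw [Cofan.IsColimit.fac]
        obtain ⟨_ | _⟩ := k
        · exact h₁
        · exact h₂)
  have hc' : IsColimit (BinaryCofan.mk i.hom j.hom) :=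
    BinaryCofan.IsColimit.mk _
      (fun {Z} a b => Sigma.desc fun (k : ULift.{u} WalkingPair) =>
        (WalkingPair.casesOn (motive := fun w => (f ⟨w⟩).total ⟶ Z) k.down a b : (f k).total ⟶ Z))
      (fun a b => Sigma.ι_desc _ (⟨.left⟩ : ULift.{u} WalkingPair))
      (fun a b => Sigma.ι_desc _ (⟨.right⟩ : ULift.{u} WalkingPair))
      (fun a b m h₁ h₂ => by
        refine Sigma.hom_ext (f := fun k : ULift.{u} WalkingPair => (f k).total) _ _ fun k => ?_
        obtain ⟨_ | _⟩ := k
        · exact h₁.trans (Sigma.ι_desc (fun k : ULift.{u} WalkingPair =>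
            (WalkingPair.casesOn (motive := fun w => (f ⟨w⟩).total ⟶ _) k.down a b : (f k).total ⟶ _)) ⟨.left⟩).symm
        · exact h₂.trans (Sigma.ι_desc (fun k : ULift.{u} WalkingPair =>
            (WalkingPair.casesOn (motive := fun w => (f ⟨w⟩).total ⟶ _) k.down a b : (f k).total ⟶ _)) ⟨.right⟩).symm)
  exact ⟨sigmaPair f, i, j, hc, (coprodIsCoprod A.total B.total).coconePointUniqueUpToIso hc',
    (coprodIsCoprod A.total B.total).comp_coconePointUniqueUpToIso_hom hc' ⟨.left⟩,
    (coprodIsCoprod A.total B.total).comp_coconePointUniqueUpToIso_hom hc' ⟨.right⟩,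
    comap_sigmaIdeal (fun k => (f k).total) (fun k => (f k).mod) (⟨.left⟩ : ULift.{u} WalkingPair),
    comap_sigmaIdeal (fun k => (f k).total) (fun k => (f k).mod) (⟨.right⟩ : ULift.{u} WalkingPair)⟩

theorem isIso_piece {X Y A' A : Scheme.{u}} {f : X ⟶ Y} {s : A' ⟶ A} {a' : A' ⟶ X} {a : A ⟶ Y}
    (sq : IsPullback s a' a f) {V : Y.Opens} {U : A.Opens} (hs : IsIso (s ∣_ U)) {Q : Scheme.{u}}
    (q : Q ⟶ (V : Scheme.{u})) (l : Q ⟶ A) (w : q ≫ V.ι = l ≫ a) (hl : ∀ z, l z ∈ U) :
    IsIso (pullback.snd (f ∣_ V) q) := by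
  have h1 := (IsPullback.of_hasPullback (f ∣_ V) q).flip.paste_vert (isPullback_morphismRestrict f V)
  rw [w] at h1
  obtain ⟨m, h2⟩ : ∃ m, IsPullback (pullback.snd (f ∣_ V) q) m l s := ⟨_, IsPullback.of_bot' h1 sq⟩
  have hr : Set.range l ⊆ Set.range U.ι := by
    rintro _ ⟨z, rfl⟩
    rw [Scheme.Opens.range_ι]
    exact hl z
  rw [← IsOpenImmersion.lift_fac U.ι l hr] at h2
  exact MorphismProperty.of_isPullback (P := MorphismProperty.isomorphisms Scheme)
    (IsPullback.of_bot' h2 (isPullback_morphismRestrict s U)).flip hs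

/-- Admissible blow-ups are stable under binary coproducts. -/
theorem coprod_admBlowup {A B A' B' P P' : Pair.{u}} {s : A' ⟶ A} {t : B' ⟶ B}
    (hs : Pair.admBlowup s) (ht : Pair.admBlowup t) {i : A ⟶ P} {j : B ⟶ P} {i' : A' ⟶ P'} {j' : B' ⟶ P'}
    (e : A.total ⨿ B.total ≅ P.total) (hi : coprod.inl ≫ e.hom = i.hom) (hj : coprod.inr ≫ e.hom = j.hom)
    (e' : A'.total ⨿ B'.total ≅ P'.total) (hi' : coprod.inl ≫ e'.hom = i'.hom)
    (hj' : coprod.inr ≫ e'.hom = j'.hom) (hA : P.mod.comap i.hom = A.mod) (hB : P.mod.comap j.hom = B.mod)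
    (hA' : P'.mod.comap i'.hom = A'.mod) (hB' : P'.mod.comap j'.hom = B'.mod) (r : P' ⟶ P)
    (h₁ : i' ≫ r = s ≫ i) (h₂ : j' ≫ r = t ≫ j) : Pair.admBlowup r := by
  obtain ⟨hs₁, hs₂, hs₃⟩ := hs
  obtain ⟨ht₁, ht₂, ht₃⟩ := ht
  have e₁ : i'.hom ≫ r.hom = s.hom ≫ i.hom := congr($(h₁).hom)
  have e₂ : j'.hom ≫ r.hom = t.hom ≫ j.hom := congr($(h₂).hom)
  have hmap : coprod.map s.hom t.hom ≫ e.hom = e'.hom ≫ r.hom := by
    apply coprod.hom_ext
    · rw [coprod.inl_map_assoc, hi, reassoc_of% hi', e₁]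
    · rw [coprod.inr_map_assoc, hj, reassoc_of% hj', e₂]
  have hcov : ∀ x : P'.total, (∃ a, i'.hom a = x) ∨ ∃ b, j'.hom b = x := by
    intro x
    obtain ⟨(a | b), h⟩ := (coprodMk A'.total B'.total).surjective (e'.inv x)
    · refine Or.inl ⟨a, ?_⟩
      rw [← hi', Scheme.Hom.comp_apply, ← coprodMk_inl, h, ← Scheme.Hom.comp_apply, e'.inv_hom_id]
      rfl
    · refine Or.inr ⟨b, ?_⟩
      rw [← hj', Scheme.Hom.comp_apply, ← coprodMk_inr, h, ← Scheme.Hom.comp_apply, e'.inv_hom_id]
      rfl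
  have : IsOpenImmersion i'.hom := hi' ▸ inferInstance
  have : IsOpenImmersion j'.hom := hj' ▸ inferInstance
  refine ⟨?_, ?_, ?_⟩
  · refine le_antisymm r.cond (le_of_cover (Scheme.Cover.mkOfCovers (Bool)
      (fun b => cond b A'.total B'.total) (fun b => match b with | true => i'.hom | false => j'.hom)
      (fun x => by
        rcases hcov x with ⟨a, ha⟩ | ⟨b, hb⟩
        · exact ⟨true, a, ha⟩
        · exact ⟨false, b, hb⟩)
      (fun b => match b with | true => inferInstance | false => inferInstance) : P'.total.OpenCover) ?_)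
    rintro (_ | _)
    · change (P.mod.comap r.hom).comap j'.hom ≤ P'.mod.comap j'.hom
      rw [← Scheme.IdealSheafData.comap_comp, e₂, Scheme.IdealSheafData.comap_comp, hB, hB', (ht₁ : B'.mod = _)]
    · change (P.mod.comap r.hom).comap i'.hom ≤ P'.mod.comap i'.hom
      rw [← Scheme.IdealSheafData.comap_comp, e₁, Scheme.IdealSheafData.comap_comp, hA, hA', (hs₁ : A'.mod = _)]
  · have hp : IsProper (coprod.map s.hom t.hom) := IsZariskiLocalAtTarget.coprodMap _ _ hs₂ ht₂
    have h3 : IsProper (e'.hom ≫ r.hom) := by rw [← hmap]; infer_instance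
    exact (MorphismProperty.cancel_left_of_respectsIso @IsProper _ _).mp h3
  · have hiso : IsIso ((coprod.map s.hom t.hom) ∣_ (e.hom ⁻¹ᵁ interior P.mod)) := by
      change (MorphismProperty.isomorphisms Scheme) _
      rw [IsZariskiLocalAtTarget.iff_of_openCover (P := MorphismProperty.isomorphisms Scheme)
        ((coprodOpenCover.{u, 0} A.total B.total).pullback₁ (e.hom ⁻¹ᵁ interior P.mod).ι)]
      intro k
      rcases k with ⟨⟨⟩⟩ | ⟨⟨⟩⟩
      · refine isIso_piece (isPullback_inl_inl_coprodMap s.hom t.hom) hs₃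
          (pullback.fst _ coprod.inl) (pullback.snd _ coprod.inl) pullback.condition fun z => ?_
        rw [← hA, interior_comap, ← hi]
        change e.hom ((pullback.snd (e.hom ⁻¹ᵁ interior P.mod).ι (coprod.inl : A.total ⟶ A.total ⨿ B.total) ≫ coprod.inl : _ ⟶ A.total ⨿ B.total) z) ∈ interior P.mod
        rw [← pullback.condition]
        exact (pullback.fst (e.hom ⁻¹ᵁ interior P.mod).ι coprod.inl z).2
      · refine isIso_piece (isPullback_inr_inr_coprodMap s.hom t.hom) ht₃
          (pullback.fst _ coprod.inr) (pullback.snd _ coprod.inr) pullback.condition fun z => ?_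
        rw [← hB, interior_comap, ← hj]
        change e.hom ((pullback.snd (e.hom ⁻¹ᵁ interior P.mod).ι (coprod.inr : B.total ⟶ A.total ⨿ B.total) ≫ coprod.inr : _ ⟶ A.total ⨿ B.total) z) ∈ interior P.mod
        rw [← pullback.condition]
        exact (pullback.fst (e.hom ⁻¹ᵁ interior P.mod).ι coprod.inr z).2
    have h4 : IsIso ((coprod.map s.hom t.hom ≫ e.hom) ∣_ interior P.mod) := by
      rw [morphismRestrict_comp]
      exact IsIso.comp_isIso' hiso inferInstance
    rw [hmap, morphismRestrict_comp] at h4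
    exact @IsIso.of_isIso_comp_left _ _ _ _ _ (e'.hom ∣_ (r.hom ⁻¹ᵁ interior P.mod))
      (r.hom ∣_ interior P.mod) inferInstance h4

end ModPairLib

namespace ModPairLib

open ModPair

theorem isColimit_Q_binary (A B : Pair.{u}) :
    ∃ (P : Pair.{u}) (i : A ⟶ P) (j : B ⟶ P) (_ : IsColimit (BinaryCofan.mk i j)),
      Nonempty (IsColimit (BinaryCofan.mk ((Pair.admBlowup.{u}).Q.map i) ((Pair.admBlowup.{u}).Q.map j))) := by
  haveI := hasRightCalculus.{u}
  obtain ⟨P, i, j, hc, e, hi, hj, hA, hB⟩ := exists_binaryCoprod A B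
  refine ⟨P, i, j, hc, LocLimits.isColimit_map_binaryCofan (Pair.admBlowup.{u}).Q Pair.admBlowup hc
    fun {A' B'} s t hs ht => ?_⟩
  obtain ⟨P', i', j', hc', e', hi', hj', hA', hB'⟩ := exists_binaryCoprod A' B'
  obtain ⟨r, hr₁, hr₂⟩ : ∃ r : P' ⟶ P, i' ≫ r = s ≫ i ∧ j' ≫ r = t ≫ j :=
    ⟨_, (BinaryCofan.IsColimit.desc' hc' (s ≫ i) (t ≫ j)).2⟩
  exact ⟨P', i', j', hc', r,
    coprod_admBlowup hs ht e hi hj e' hi' hj' hA hB hA' hB' r hr₁ hr₂, hr₁, hr₂⟩

theorem binaryCoproducts_localization :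
    HasBinaryCoproducts (Pair.admBlowup.{u}).Localization ∧
      PreservesColimitsOfShape (Discrete WalkingPair) (Pair.admBlowup.{u}).Q := by
  haveI := Localization.essSurj (Pair.admBlowup.{u}).Q Pair.admBlowup
  constructor
  · suffices ∀ X Y : (Pair.admBlowup.{u}).Localization, HasBinaryCoproduct X Y from
      @hasBinaryCoproducts_of_hasColimit_pair _ _ (fun {X Y} => this X Y)
    intro X Y
    let Q := (Pair.admBlowup.{u}).Q
    obtain ⟨P, i, j, -, ⟨h⟩⟩ := isColimit_Q_binary (Q.objPreimage X) (Q.objPreimage Y)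
    have : HasColimit (pair (Q.obj (Q.objPreimage X)) (Q.obj (Q.objPreimage Y))) := ⟨⟨_, h⟩⟩
    exact hasColimit_of_iso (F := pair (Q.obj (Q.objPreimage X)) (Q.obj (Q.objPreimage Y)))
      (mapPairIso (F := pair X Y) (G := pair (Q.obj (Q.objPreimage X)) (Q.obj (Q.objPreimage Y)))
        (Q.objObjPreimageIso X).symm (Q.objObjPreimageIso Y).symm)
  · refine ⟨fun {K} => ?_⟩
    obtain ⟨P, i, j, hc, ⟨h⟩⟩ := isColimit_Q_binary (K.obj ⟨.left⟩) (K.obj ⟨.right⟩)
    have : PreservesColimit (pair (K.obj ⟨.left⟩) (K.obj ⟨.right⟩)) (Pair.admBlowup.{u}).Q :=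
      preservesColimit_of_preserves_colimit_cocone hc ((isColimitMapCoconeBinaryCofanEquiv _ i j).symm h)
    exact preservesColimit_of_iso_diagram _ (diagramIsoPair K).symm

end ModPairLib
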