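import Groth.Agent.ModPairLib.Colon
import Mathlib.RingTheory.Valuation.LocalSubring
import Mathlib.RingTheory.Ideal.MinimalPrime.Localization

/-!
# Valuative tests, schematic density and products for modulus pairs
-/

set_option autoImplicit false

universe u

open CategoryTheory CategoryTheory.Limits AlgebraicGeometry TopologicalSpace

namespace ModPairLib

variable {X Y S T : Scheme.{u}}

theorem interior_mul (A B : X.IdealSheafData) :
    ModPair.interior (A * B) = ModPair.interior A ⊓ ModPair.interior B := by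
  ext x
  change x ∉ (A * B).support ↔ x ∉ A.support ∧ x ∉ B.support
  rw [Scheme.IdealSheafData.support_mul]
  exact not_or

theorem interior_top : ModPair.interior (⊤ : X.IdealSheafData) = ⊤ := by
  ext x
  refine iff_of_true ?_ trivial
  change x ∉ (⊤ : X.IdealSheafData).support
  rw [Scheme.IdealSheafData.support_top]
  exact id

theorem eq_top_of_interior {A : X.IdealSheafData} (h : ModPair.interior A = ⊤) : A = ⊤ := by
  rw [← Scheme.IdealSheafData.support_eq_bot_iff]
  refine SetLike.ext fun x => iff_of_false (fun hx => ?_) (fun hx => hx)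
  have : x ∈ ModPair.interior A := h ▸ trivial
  exact this hx

theorem isEffCartier_of_isAmbient {I : X.IdealSheafData} {J : Y.IdealSheafData} {f : X ⟶ Y}
    (hI : BlowUp.IsEffCartierIdeal I) (hJ : BlowUp.IsEffCartierIdeal J) (hf : I ≤ J.comap f) :
    BlowUp.IsEffCartierIdeal (J.comap f) := by
  have := isAffineHom_interior hI
  have := isDominant_interior hI
  exact isEffCartier_comap_of_dominant hJ f (ModPair.interior I).ι fun z => interior_le hf z.2

theorem isEffCartier_comap_of_le {A : X.IdealSheafData} (hA : BlowUp.IsEffCartierIdeal A)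
    {J : Y.IdealSheafData} (hJ : BlowUp.IsEffCartierIdeal J) {f : X ⟶ Y}
    (h : ModPair.interior A ≤ f ⁻¹ᵁ ModPair.interior J) : BlowUp.IsEffCartierIdeal (J.comap f) := by
  have := isAffineHom_interior hA
  have := isDominant_interior hA
  exact isEffCartier_comap_of_dominant hJ f (ModPair.interior A).ι fun z => h z.2

theorem ker_comp_dominant {Z W : Scheme.{u}} (j : Z ⟶ X) [IsSchemeTheoreticallyDominant j] (l : X ⟶ W) :
    (j ≫ l).ker = l.ker := by
  rw [Scheme.Hom.ker_comp, j.ker_eq_bot, Scheme.IdealSheafData.map_bot]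

theorem isIso_imageι {Z : Scheme.{u}} (j : Z ⟶ X) (h : j.ker = ⊥) : IsIso j.imageι :=
  IsClosedImmersion.isIso_of_ker_eq j.imageι (𝟙 X) j.imageι (Category.comp_id _)
    ((Scheme.IdealSheafData.ker_subschemeι _).trans (h.trans (Scheme.Hom.ker_eq_bot_of_isIso _).symm))

theorem isAffineHom_inf {U V : X.Opens} (hU : IsAffineHom U.ι) (hV : IsAffineHom V.ι) :
    IsAffineHom (U ⊓ V).ι := by
  have h3 : IsAffineHom (U.ι ⁻¹ᵁ V).ι :=
    MorphismProperty.of_isPullback (isPullback_morphismRestrict U.ι V) hV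
  have hr : Set.range (U ⊓ V).ι = Set.range ((U.ι ⁻¹ᵁ V).ι ≫ U.ι) := by
    rw [Scheme.Hom.comp_base, TopCat.coe_comp, Set.range_comp, Scheme.Opens.range_ι, Scheme.Opens.range_ι]
    ext z
    exact ⟨fun hz => ⟨⟨z, hz.1⟩, hz.2, rfl⟩, by rintro ⟨y, hy, rfl⟩; exact ⟨y.2, hy⟩⟩
  rw [← IsOpenImmersion.isoOfRangeEq_hom_fac (U ⊓ V).ι ((U.ι ⁻¹ᵁ V).ι ≫ U.ι) hr]
  infer_instance

theorem isAffineHom_preimage (f : X ⟶ Y) {V : Y.Opens} (hV : IsAffineHom V.ι) :
    IsAffineHom (f ⁻¹ᵁ V).ι :=
  MorphismProperty.of_isPullback (isPullback_morphismRestrict f V) hV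

theorem isAffineHom_prodInterior (f : X ⟶ S) (g : T ⟶ S) {I : X.IdealSheafData} {J : T.IdealSheafData}
    (hI : BlowUp.IsEffCartierIdeal I) (hJ : BlowUp.IsEffCartierIdeal J) :
    IsAffineHom (ModPair.prodInterior f g I J).ι :=
  isAffineHom_inf (isAffineHom_preimage _ (isAffineHom_interior hI))
    (isAffineHom_preimage _ (isAffineHom_interior hJ))

theorem toImage_mem_prodInterior (f : X ⟶ S) (g : T ⟶ S) (I : X.IdealSheafData) (J : T.IdealSheafData)
    (z : (ModPair.prodInterior f g I J : Scheme.{u})) :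
    ModPair.mprodι f g I J ((ModPair.prodInterior f g I J).ι.toImage z) ∈ ModPair.prodInterior f g I J := by
  rw [← Scheme.Hom.comp_apply, Scheme.Hom.toImage_imageι]
  exact z.2

theorem isEffCartier_mprod (f : X ⟶ S) (g : T ⟶ S) {I : X.IdealSheafData} {J : T.IdealSheafData}
    (hI : BlowUp.IsEffCartierIdeal I) (hJ : BlowUp.IsEffCartierIdeal J) :
    BlowUp.IsEffCartierIdeal (I.comap (ModPair.mprodι f g I J ≫ pullback.fst f g)) ∧
      BlowUp.IsEffCartierIdeal (J.comap (ModPair.mprodι f g I J ≫ pullback.snd f g)) := by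
  have := isAffineHom_prodInterior f g hI hJ
  have := isDominant_toImage (f := (ModPair.prodInterior f g I J).ι)
  exact ⟨isEffCartier_comap_of_dominant hI _ (ModPair.prodInterior f g I J).ι.toImage
      fun z => (toImage_mem_prodInterior f g I J z).1,
    isEffCartier_comap_of_dominant hJ _ (ModPair.prodInterior f g I J).ι.toImage
      fun z => (toImage_mem_prodInterior f g I J z).2⟩

section Valuation

variable {A : Type u} [CommRing A]

theorem exists_valuation_hom (p : Ideal A) [p.IsPrime] :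
    ∃ (V : Type u) (_ : CommRing V) (_ : IsDomain V) (_ : ValuationRing V) (φ : A →+* V),
      (IsLocalRing.maximalIdeal V).comap φ = p ∧ ∀ t ∈ nonZeroDivisors A, φ t ≠ 0 := by
  obtain ⟨q, hq, hqp⟩ := Ideal.exists_minimalPrimes_le (bot_le : (⊥ : Ideal A) ≤ p)
  haveI : q.IsPrime := hq.1.1
  let K := FractionRing (A ⧸ q)
  let a : A →+* K := (algebraMap (A ⧸ q) K).comp (Ideal.Quotient.mk q)
  have hker : ∀ z, a z = 0 ↔ z ∈ q := fun z => by
    simp only [a, RingHom.comp_apply]
    rw [map_eq_zero_iff _ (IsFractionRing.injective (A ⧸ q) K), Ideal.Quotient.eq_zero_iff_mem]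
  have hu : ∀ y : p.primeCompl, IsUnit (a y) := fun y =>
    Ne.isUnit fun h => y.2 (hqp ((hker y).mp h))
  let f : Localization.AtPrime p →+* K := IsLocalization.lift hu
  obtain ⟨V, hV, hloc⟩ := IsLocalRing.exists_factor_valuationRing f
  let ψ : Localization.AtPrime p →+* V := f.codRestrict V.toSubring hV
  refine ⟨V, inferInstance, inferInstance, inferInstance,
    ψ.comp (algebraMap A (Localization.AtPrime p)), ?_, fun t ht h0 => ?_⟩
  · haveI : IsLocalHom ψ := hloc
    rw [← Ideal.comap_comap, IsLocalRing.maximalIdeal_comap ψ]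
    exact IsLocalization.AtPrime.under_maximalIdeal (Localization.AtPrime p) p
  · have h1 : f (algebraMap A (Localization.AtPrime p) t) = 0 := congrArg Subtype.val h0
    rw [IsLocalization.lift_eq, hker] at h1
    exact Set.disjoint_left.mp (Ideal.disjoint_nonZeroDivisors_of_mem_minimalPrimes hq) h1 ht

end Valuation

/-- A point of the support is a specialization of a point of the interior. -/
theorem exists_specializes {I : X.IdealSheafData} (hI : BlowUp.IsEffCartierIdeal I) (x : X) :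
    ∃ η ∈ ModPair.interior I, η ⤳ x := by
  obtain ⟨U, hxU, t, ht, hU, hb⟩ := exists_gen_basicOpen hI x
  let p := U.2.primeIdealOf ⟨x, hxU⟩
  obtain ⟨q, hq, hqp⟩ := Ideal.exists_minimalPrimes_le (bot_le : (⊥ : Ideal Γ(X, U.1)) ≤ p.asIdeal)
  let η : PrimeSpectrum Γ(X, U.1) := ⟨q, hq.1.1⟩
  refine ⟨U.2.fromSpec η, ?_, ?_⟩
  · have h1 : η ∈ PrimeSpectrum.basicOpen t := fun h =>
      Set.disjoint_left.mp (Ideal.disjoint_nonZeroDivisors_of_mem_minimalPrimes hq) h ht
    rw [← U.2.fromSpec_preimage_basicOpen, ← hb] at h1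
    exact h1.1
  · have h1 : η ⤳ p := (PrimeSpectrum.le_iff_specializes η p).mp hqp
    have h2 := h1.map U.2.fromSpec.continuous
    rwa [U.2.fromSpec_primeIdealOf] at h2

theorem specIdeal_one (R : Type u) [CommRing R] :
    BlowUpLib.specIdeal (Ideal.span {(1 : R)}) = ⊤ := by
  refine Scheme.IdealSheafData.ext_of_isAffine ?_
  rw [BlowUpLib.specIdeal_top, Ideal.span_singleton_one, Ideal.map_top]
  rfl

theorem comap_point (I : X.IdealSheafData) (U : X.affineOpens) {t : Γ(X, U.1)}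
    (hU : I.ideal U = Ideal.span {t}) {R : Type u} [CommRing R] (φ : Γ(X, U.1) →+* R) :
    I.comap (Spec.map (CommRingCat.ofHom φ) ≫ U.2.fromSpec) = BlowUpLib.specIdeal (Ideal.span {φ t}) := by
  refine (Scheme.IdealSheafData.comap_comp _ _ _).trans ?_
  rw [BlowUpLib.comap_fromSpec, hU]
  refine (BlowUpLib.comap_specIdeal φ _).trans ?_
  rw [Ideal.map_span, Set.image_singleton]

theorem mem_interior_point (I : X.IdealSheafData) (U : X.affineOpens) {t : Γ(X, U.1)}
    (hb : ModPair.interior I ⊓ U.1 = X.basicOpen t) {R : Type u} [CommRing R] (φ : Γ(X, U.1) →+* R)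
    (x : Spec (CommRingCat.of R)) :
    x ∈ (ModPair.interior (I.comap (Spec.map (CommRingCat.ofHom φ) ≫ U.2.fromSpec)) :
      Set (Spec (CommRingCat.of R))) ↔ φ t ∉ x.asIdeal := by
  rw [interior_comap]
  change U.2.fromSpec (Spec.map (CommRingCat.ofHom φ) x) ∈ ModPair.interior I ↔ _
  have hU : U.2.fromSpec (Spec.map (CommRingCat.ofHom φ) x) ∈ U.1 :=
    U.2.range_fromSpec.le (Set.mem_range_self (Spec.map (CommRingCat.ofHom φ) x))
  have h1 : U.2.fromSpec (Spec.map (CommRingCat.ofHom φ) x) ∈ X.basicOpen t ↔ φ t ∉ x.asIdeal := by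
    have h2 := SetLike.ext_iff.mp (U.2.fromSpec_preimage_basicOpen t) (Spec.map (CommRingCat.ofHom φ) x)
    exact h2
  rw [← h1, ← hb]
  exact ⟨fun h => ⟨h, hU⟩, fun h => h.1⟩

theorem exists_mem_of_ne_top {A : X.IdealSheafData} (h : A ≠ ⊤) : ∃ x, x ∉ ModPair.interior A := by
  by_contra hne
  simp only [not_exists, not_not] at hne
  exact h (eq_top_of_interior (top_le_iff.mp fun x _ => hne x))

theorem eq_top_of_valuative (I : X.IdealSheafData) (hI : BlowUp.IsEffCartierIdeal I)
    (h : ∀ (R : Type u) [CommRing R] [IsDomain R] [ValuationRing R]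
      (p : Spec (CommRingCat.of R) ⟶ X), BlowUp.IsEffCartierIdeal (I.comap p) → I.comap p = ⊤) :
    I = ⊤ := by
  by_contra hne
  obtain ⟨x, hx⟩ := exists_mem_of_ne_top hne
  obtain ⟨U, hxU, t, ht, hU, hb⟩ := exists_gen_basicOpen hI x
  let p := U.2.primeIdealOf ⟨x, hxU⟩
  obtain ⟨V, _, _, _, φ, hφ, hnz⟩ := exists_valuation_hom p.asIdeal
  have htp : t ∈ p.asIdeal := by
    by_contra htp
    have h1 : p ∈ PrimeSpectrum.basicOpen t := htp
    rw [← U.2.fromSpec_preimage_basicOpen, ← hb] at h1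
    have h2 : U.2.fromSpec p ∈ ModPair.interior I := h1.1
    rw [U.2.fromSpec_primeIdealOf] at h2
    exact hx h2
  have h1 := comap_point I U hU φ
  have h2 := h V (Spec.map (CommRingCat.ofHom φ) ≫ U.2.fromSpec)
    (h1 ▸ BlowUpLib.isEffCartier_specIdeal (mem_nonZeroDivisors_of_ne_zero (hnz t ht)))
  rw [h1, ← specIdeal_one V] at h2
  have h3 : Ideal.span {φ t} = Ideal.span {1} := BlowUpLib.specIdeal_injective h2
  rw [Ideal.span_singleton_one, Ideal.span_singleton_eq_top] at h3
  rw [← hφ, Ideal.mem_comap] at htp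
  exact htp h3

/-- In a valuation domain, a nonzero non-unit `a` becomes, after a suitable quotient, a pseudo-uniformizer. -/
theorem exists_rankOne_quotient {V : Type u} [CommRing V] [IsDomain V] [ValuationRing V] {a : V}
    (ha : a ≠ 0) (hau : ¬ IsUnit a) :
    ∃ (R : Type u) (_ : CommRing R) (_ : IsDomain R) (_ : ValuationRing R) (π : V →+* R),
      Function.Surjective π ∧ π a ≠ 0 ∧ ¬ IsUnit (π a) ∧
        ∀ x : PrimeSpectrum R, π a ∉ x.asIdeal ↔ x.asIdeal = ⊥ := by
  let Q : Ideal V := ⨅ n : ℕ, Ideal.span {a ^ n}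
  have mem : ∀ {x}, x ∈ Q ↔ ∀ n : ℕ, a ^ n ∣ x := fun {x} => by
    simp only [Q, Submodule.mem_iInf, Ideal.mem_span_singleton]
  have haQ : a ∉ Q := fun h => by
    obtain ⟨r, hr⟩ := mem.mp h 2
    refine hau (IsUnit.of_mul_eq_one r (mul_left_cancel₀ ha ?_))
    linear_combination -hr
  haveI hQ : Q.IsPrime := by
    refine ⟨fun h => haQ (h ▸ Submodule.mem_top), fun {x y} hxy => ?_⟩
    by_contra hc
    rw [not_or] at hc
    obtain ⟨hx, hy⟩ := hc
    rw [mem, not_forall] at hx
    obtain ⟨n, hn⟩ := hx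
    have hxa : x ∣ a ^ n := (ValuationRing.dvd_total x (a ^ n)).resolve_right hn
    refine hy (mem.mpr fun m => ?_)
    obtain ⟨r, hr⟩ := hxa
    obtain ⟨s, hs⟩ := mem.mp hxy (n + m)
    refine ⟨r * s, mul_left_cancel₀ (pow_ne_zero n ha) ?_⟩
    calc a ^ n * y = r * (x * y) := by rw [hr]; ring
      _ = r * (a ^ (n + m) * s) := by rw [hs]
      _ = a ^ n * (a ^ m * (r * s)) := by ring
  haveI : ValuationRing (V ⧸ Q) :=
    Function.Surjective.valuationRing (Ideal.Quotient.mk Q) Ideal.Quotient.mk_surjective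
  have hne : Ideal.Quotient.mk Q a ≠ 0 := fun h => haQ (Ideal.Quotient.eq_zero_iff_mem.mp h)
  refine ⟨V ⧸ Q, inferInstance, inferInstance, inferInstance, Ideal.Quotient.mk Q,
    Ideal.Quotient.mk_surjective, hne, fun h => ?_, fun x => ⟨fun h => ?_, fun h => ?_⟩⟩
  · obtain ⟨b, hb⟩ := h.exists_right_inv
    obtain ⟨b, rfl⟩ := Ideal.Quotient.mk_surjective b
    rw [← map_mul, ← map_one (Ideal.Quotient.mk Q), Ideal.Quotient.eq] at hb
    obtain ⟨r, hr⟩ := mem.mp hb 1
    exact hau (IsUnit.of_mul_eq_one (b - r) (by linear_combination hr))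
  · refine eq_bot_iff.mpr fun z hz => ?_
    obtain ⟨z, rfl⟩ := Ideal.Quotient.mk_surjective z
    by_contra hz0
    have hzQ : z ∉ Q := fun hq => hz0 (Ideal.Quotient.eq_zero_iff_mem.mpr hq)
    rw [mem, not_forall] at hzQ
    obtain ⟨n, hn⟩ := hzQ
    obtain ⟨r, hr⟩ := (ValuationRing.dvd_total z (a ^ n)).resolve_right hn
    refine h (x.2.mem_of_pow_mem n ?_)
    rw [← map_pow, hr, map_mul]
    exact x.asIdeal.mul_mem_right _ hz
  · rw [h]
    exact hne

theorem eq_of_valuative (I J : X.IdealSheafData)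
    (hI : BlowUp.IsEffCartierIdeal I) (hJ : BlowUp.IsEffCartierIdeal J) (hJI : J ≤ I)
    (h : ∀ (R : Type u) [CommRing R] [IsDomain R] [ValuationRing R]
      (p : Spec (CommRingCat.of R) ⟶ X), BlowUp.IsEffCartierIdeal (I.comap p) →
        (∀ x : Spec (CommRingCat.of R),
          x ∈ (ModPair.interior (I.comap p) : Set (Spec (CommRingCat.of R))) ↔ x.asIdeal = ⊥) →
        I.comap p = J.comap p) :
    I = J := by
  obtain ⟨D, hD⟩ := exists_mul_eq hI hJI
  by_contra hne
  have hDt : D ≠ ⊤ := fun hDt => hne (by rw [← hD, hDt, Scheme.IdealSheafData.top_mul])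
  obtain ⟨x, hx⟩ := exists_mem_of_ne_top hDt
  have hDc : BlowUp.IsEffCartierIdeal D := BlowUpLib.isEffCartier_of_mul (I := I) (by rw [mul_comm, hD]; exact hJ)
  obtain ⟨U₀, hxU₀, c₀, hc₀, hDU, hbD⟩ := exists_gen_basicOpen hDc x
  obtain ⟨U₁, hxU₁, a₁, ha₁, hIU, hbI⟩ := exists_gen_basicOpen hI x
  obtain ⟨U, hxU, hUle⟩ := BlowUpLib.exists_affine x (W := U₀.1 ⊓ U₁.1) ⟨hxU₀, hxU₁⟩
  have hU0 : U.1 ≤ U₀.1 := hUle.trans inf_le_left
  have hU1 : U.1 ≤ U₁.1 := hUle.trans inf_le_right
  let c : Γ(X, U.1) := (X.presheaf.map (homOfLE hU0).op).hom c₀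
  let a : Γ(X, U.1) := (X.presheaf.map (homOfLE hU1).op).hom a₁
  have hDV : D.ideal U = Ideal.span {c} := by
    rw [← D.map_ideal (U := U) (V := U₀) hU0, hDU, Ideal.map_span, Set.image_singleton]
    rfl
  have hIV : I.ideal U = Ideal.span {a} := by
    rw [← I.map_ideal (U := U) (V := U₁) hU1, hIU, Ideal.map_span, Set.image_singleton]
    rfl
  have hJV : J.ideal U = Ideal.span {c * a} := by
    rw [← hD, Scheme.IdealSheafData.ideal_mul, Pi.mul_apply, hDV, hIV, Ideal.span_singleton_mul_span_singleton]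
  have hbD' : ModPair.interior D ⊓ U.1 = X.basicOpen c := by
    rw [Scheme.basicOpen_res, ← hbD, inf_comm U.1, inf_assoc, inf_eq_right.mpr hU0]
  have hbI' : ModPair.interior I ⊓ U.1 = X.basicOpen a := by
    rw [Scheme.basicOpen_res, ← hbI, inf_comm U.1, inf_assoc, inf_eq_right.mpr hU1]
  let p := U.2.primeIdealOf ⟨x, hxU⟩
  have hcp : c ∈ p.asIdeal := by
    by_contra hcp
    have h1 : p ∈ PrimeSpectrum.basicOpen c := hcp
    rw [← U.2.fromSpec_preimage_basicOpen, ← hbD'] at h1
    have h2 : U.2.fromSpec p ∈ ModPair.interior D := h1.1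
    rw [U.2.fromSpec_primeIdealOf] at h2
    exact hx h2
  have key : ∀ (R : Type u) [CommRing R] [IsDomain R] [ValuationRing R] (φ : Γ(X, U.1) →+* R),
      φ a ≠ 0 → ¬ IsUnit (φ c) → ¬ ∀ z : PrimeSpectrum R, φ a ∉ z.asIdeal ↔ z.asIdeal = ⊥ := by
    intro R _ _ _ φ ha hc hz
    have h1 := comap_point I U hIV φ
    have h2 := h R (Spec.map (CommRingCat.ofHom φ) ≫ U.2.fromSpec)
      (h1 ▸ BlowUpLib.isEffCartier_specIdeal (mem_nonZeroDivisors_of_ne_zero ha))
      (fun z => (mem_interior_point I U hbI' φ z).trans (hz z))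
    rw [h1, comap_point J U hJV φ] at h2
    obtain ⟨r, hr⟩ := Ideal.mem_span_singleton.mp
      ((BlowUpLib.specIdeal_injective h2).le (Ideal.mem_span_singleton_self (φ a)))
    rw [map_mul] at hr
    refine hc (IsUnit.of_mul_eq_one r (mul_left_cancel₀ ha ?_))
    linear_combination -hr
  by_cases hap : a ∈ p.asIdeal
  · have haN : a ∈ nonZeroDivisors Γ(X, U.1) := by
      have h0 := BlowUpLib.nzd_of_flat ((𝟙 X : X ⟶ X).appLE U₁.1 U.1 hU1).hom
        ((𝟙 X : X ⟶ X).flat_appLE U₁.2 U.2 hU1) ha₁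
      simp only [Scheme.Hom.appLE, Scheme.Hom.id_app, CommRingCat.hom_comp, CommRingCat.hom_id, RingHom.comp_apply, RingHom.id_apply] at h0
      exact h0
    obtain ⟨V, _, _, _, φ, hφ, hnz⟩ := exists_valuation_hom p.asIdeal
    rw [← hφ, Ideal.mem_comap] at hap hcp
    obtain ⟨R, _, _, _, π, hπ, ha0, hau, hR⟩ := exists_rankOne_quotient (hnz a haN) hap
    haveI : IsLocalHom π := IsLocalHom.of_surjective π hπ
    exact key R (π.comp φ) ha0 (fun hu => hcp (IsUnit.of_map π _ hu)) hR
  · let φ : Γ(X, U.1) →+* p.asIdeal.ResidueField := algebraMap _ _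
    have hker : ∀ z, φ z = 0 ↔ z ∈ p.asIdeal := fun z => by
      rw [← RingHom.mem_ker, Ideal.ker_algebraMap_residueField]
    refine key _ φ (fun h0 => hap ((hker a).mp h0)) ?_ fun z => iff_of_true ?_ ?_
    · rw [(hker c).mpr hcp]
      exact not_isUnit_zero
    · intro hmem
      exact z.2.ne_top (Ideal.eq_top_of_isUnit_mem _ hmem (Ne.isUnit fun h0 => hap ((hker a).mp h0)))
    · exact (Ideal.eq_bot_or_top z.asIdeal).resolve_right z.2.ne_top

end ModPairLib
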