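import Groth.Agent.ModPairLib.Basic
import Groth.Agent.BlowUpLib.Props
import Groth.Agent.CatLib.LocLimits
import Mathlib.AlgebraicGeometry.Limits

/-!
# Ambient products of modulus pairs; finite limits in the localization at admissible blow-ups
-/

set_option autoImplicit false

universe u

open CategoryTheory CategoryTheory.Limits AlgebraicGeometry TopologicalSpace

namespace ModPairLib

variable {X Y : Scheme.{u}}

theorem fg_comap_of_isEffCartier {K : Y.IdealSheafData} (hK : BlowUp.IsEffCartierIdeal K) (t : X ⟶ Y) :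
    BlowUp.IsFiniteTypeIdeal (K.comap t) := by
  intro V
  have key : ∀ x ∈ V.1, ∃ r : Γ(X, V.1), x ∈ X.basicOpen r ∧
      ((K.comap t).ideal (X.affineBasicOpen r)).FG := by
    intro x hx
    obtain ⟨U, hxU, f, -, hU, -⟩ := exists_gen_basicOpen hK (t x)
    obtain ⟨r, hr, hxr⟩ := V.2.exists_basicOpen_le (V := t ⁻¹ᵁ U.1) ⟨x, hxU⟩ hx
    refine ⟨r, hxr, ?_⟩
    rw [Groth.Agent.S4666.ideal_comap_eq _ t U (X.affineBasicOpen r) hr, hU, Ideal.map_span]
    exact Submodule.fg_span (Set.finite_singleton f |>.image _)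
  choose r hxr hfg using fun x : V.1 => key x.1 x.2
  have hspan : Ideal.span (Set.range r) = ⊤ := by
    rw [← V.2.self_le_iSup_basicOpen_iff]
    intro x hx
    exact Opens.mem_iSup.mpr ⟨⟨_, ⟨x, hx⟩, rfl⟩, hxr ⟨x, hx⟩⟩
  refine Ideal.fg_of_localizationSpan (Set.range r) hspan ?_
  rintro ⟨_, x, rfl⟩
  haveI : IsLocalization.Away (r x) Γ(X, X.basicOpen (r x)) := V.2.isLocalization_basicOpen (r x)
  let e := (IsLocalization.algEquiv (Submonoid.powers (r x)) Γ(X, X.basicOpen (r x))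
    (Localization.Away (r x))).toRingEquiv
  have h0 : (((K.comap t).ideal V).map (algebraMap Γ(X, V.1) Γ(X, X.basicOpen (r x)))).FG := by
    have := hfg x
    rw [← (K.comap t).map_ideal_basicOpen V (r x)] at this
    exact this
  have h := Ideal.FG.map h0 (e.toRingHom : Γ(X, X.basicOpen (r x)) →+* Localization.Away (r x))
  rw [Ideal.map_map] at h
  convert h using 2
  ext y
  exact ((IsLocalization.algEquiv (Submonoid.powers (r x)) Γ(X, X.basicOpen (r x))
    (Localization.Away (r x))).commutes y).symm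

theorem fg_sup {I J : X.IdealSheafData} (hI : BlowUp.IsFiniteTypeIdeal I)
    (hJ : BlowUp.IsFiniteTypeIdeal J) : BlowUp.IsFiniteTypeIdeal (I ⊔ J) := fun U => by
  rw [Scheme.IdealSheafData.ideal_sup, Pi.sup_apply]
  exact Submodule.FG.sup (hI U) (hJ U)

theorem inf_mul_sup_eq {R : Type u} [CommRing R] {a b e : R} (he : e ∈ nonZeroDivisors R)
    (hab : Ideal.span {a} ⊔ Ideal.span {b} = Ideal.span {e}) :
    (Ideal.span {a} ⊓ Ideal.span {b}) * (Ideal.span {a} ⊔ Ideal.span {b}) =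
      Ideal.span {a} * Ideal.span {b} := by
  apply le_antisymm
  · rw [Ideal.mul_sup, sup_le_iff]
    exact ⟨(Ideal.mul_mono_left inf_le_right).trans_eq (mul_comm _ _), Ideal.mul_mono_left inf_le_left⟩
  · obtain ⟨a', ha⟩ : e ∣ a := Ideal.mem_span_singleton.mp (hab ▸ Ideal.mem_sup_left (Ideal.mem_span_singleton_self a))
    obtain ⟨b', hb⟩ : e ∣ b := Ideal.mem_span_singleton.mp (hab ▸ Ideal.mem_sup_right (Ideal.mem_span_singleton_self b))
    rw [Ideal.span_singleton_mul_span_singleton, Ideal.span_singleton_le_iff_mem,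
      show a * b = a * b' * e by rw [hb]; ring]
    refine Ideal.mul_mem_mul ⟨Ideal.mem_span_singleton.mpr ⟨b', rfl⟩, Ideal.mem_span_singleton.mpr ⟨a', ?_⟩⟩
      (hab ▸ Ideal.mem_span_singleton_self e)
    rw [ha, hb]
    ring

/-- `(A ∩ B)(A + B) = A B` when `A`, `B` and `A + B` are effective Cartier. -/
theorem inf_mul_sup {A B : X.IdealSheafData} (hA : BlowUp.IsEffCartierIdeal A)
    (hB : BlowUp.IsEffCartierIdeal B) (hE : BlowUp.IsEffCartierIdeal (A ⊔ B)) :
    (A ⊓ B) * (A ⊔ B) = A * B := by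
  have key : ∀ x, ∃ V : X.affineOpens, x ∈ V.1 ∧
      ((A ⊓ B) * (A ⊔ B)).ideal V = (A * B).ideal V := by
    intro x
    obtain ⟨U, hxU, -, a, b, -, -, hAa, hBb⟩ := SDivLib.exists_common hA hB x ⊤ trivial
    obtain ⟨V, hxV, hVU, e, e', he, -, hEe, -⟩ := SDivLib.exists_common hE hE x U.1 hxU
    refine ⟨V, hxV, ?_⟩
    have hA' : A.ideal V = Ideal.span {(X.presheaf.map (homOfLE hVU).op).hom a} := by
      rw [← A.map_ideal (U := V) (V := U) hVU, hAa, Ideal.map_span, Set.image_singleton]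
      rfl
    have hB' : B.ideal V = Ideal.span {(X.presheaf.map (homOfLE hVU).op).hom b} := by
      rw [← B.map_ideal (U := V) (V := U) hVU, hBb, Ideal.map_span, Set.image_singleton]
      rfl
    rw [Scheme.IdealSheafData.ideal_sup, Pi.sup_apply, hA', hB'] at hEe
    simp only [Scheme.IdealSheafData.ideal_mul, Pi.mul_apply, Scheme.IdealSheafData.ideal_sup,
      Pi.sup_apply, Scheme.IdealSheafData.ideal_inf, Pi.inf_apply, hA', hB']
    exact inf_mul_sup_eq he hEe
  choose V hxV hV using key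
  exact Scheme.IdealSheafData.ext_of_iSup_eq_top V
    (top_le_iff.mp fun x _ => Opens.mem_iSup.mpr ⟨x, hxV x⟩) hV

/-- An effective Cartier ideal can be cancelled. -/
theorem le_of_mul_le {M K E : X.IdealSheafData} (hE : BlowUp.IsEffCartierIdeal E) (h : M * E ≤ K * E) :
    M ≤ K := by
  choose U hxU e he hU hb using exists_gen_basicOpen hE
  refine Scheme.IdealSheafData.le_of_iSup_eq_top U
    (top_le_iff.mp fun x _ => Opens.mem_iSup.mpr ⟨x, hxU x⟩) fun x m hm => ?_
  have h' := h (U x)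
  rw [Scheme.IdealSheafData.ideal_mul, Scheme.IdealSheafData.ideal_mul, Pi.mul_apply, Pi.mul_apply,
    hU x] at h'
  obtain ⟨k, hk, hke⟩ := Ideal.mem_mul_span_singleton.mp
    (h' (Ideal.mul_mem_mul hm (Ideal.mem_span_singleton_self _)))
  have : k = m := sub_eq_zero.mp (mem_nonZeroDivisors_iff_right.mp (he x) _ (by rw [sub_mul, hke, sub_self]))
  exact this ▸ hk

open ModPair

/-- The blown-up fibre product with the closure of its interior. -/
theorem exists_ambProd {X T S : Pair.{u}} (f : X ⟶ S) (g : T ⟶ S) :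
    ∃ (P : Pair.{u}) (p₁ : P ⟶ X) (p₂ : P ⟶ T), p₁ ≫ f = p₂ ≫ g ∧
      (∀ (Z : Pair.{u}) (a : Z ⟶ X) (b : Z ⟶ T), a ≫ f = b ≫ g →
        ∃ (Z' : Pair.{u}) (s : Z' ⟶ Z) (_ : Pair.admBlowup s) (k : Z' ⟶ P),
          k ≫ p₁ = s ≫ a ∧ k ≫ p₂ = s ≫ b) ∧
      (∀ (Z : Pair.{u}) (k k' : Z ⟶ P), k ≫ p₁ = k' ≫ p₁ → k ≫ p₂ = k' ≫ p₂ → k = k') := by
  obtain ⟨q₁, q₂, hq⟩ : ∃ q₁ q₂, IsPullback q₁ q₂ f.hom g.hom ∧ True :=
    ⟨_, _, IsPullback.of_hasPullback f.hom g.hom, trivial⟩
  let C := X.mod.comap q₁ ⊔ T.mod.comap q₂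
  have hC : BlowUp.IsFiniteTypeIdeal C :=
    fg_sup (fg_comap_of_isEffCartier X.isEffCartier q₁) (fg_comap_of_isEffCartier T.isEffCartier q₂)
  obtain ⟨B, β, hβ⟩ := BlowUpLib.exists_isBlowUp _ C
  have hβp := BlowUpLib.isProper_of_isBlowUp hβ hC
  let W : B.Opens := (β ≫ q₁) ⁻¹ᵁ interior X.mod ⊓ (β ≫ q₂) ⁻¹ᵁ interior T.mod
  have hWq : QuasiCompact W.ι := by
    have := isAffineHom_interior X.isEffCartier
    have := isAffineHom_interior T.isEffCartier
    let A₁ := (β ≫ q₁) ⁻¹ᵁ interior X.mod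
    let A₂ := (β ≫ q₂) ⁻¹ᵁ interior T.mod
    have h1 : IsAffineHom A₁.ι :=
      MorphismProperty.of_isPullback (isPullback_morphismRestrict (β ≫ q₁) (interior X.mod)) inferInstance
    have h2 : IsAffineHom A₂.ι :=
      MorphismProperty.of_isPullback (isPullback_morphismRestrict (β ≫ q₂) (interior T.mod)) inferInstance
    have h3 : IsAffineHom (A₁.ι ⁻¹ᵁ A₂).ι :=
      MorphismProperty.of_isPullback (isPullback_morphismRestrict A₁.ι A₂) h2
    have hr : Set.range W.ι = Set.range ((A₁.ι ⁻¹ᵁ A₂).ι ≫ A₁.ι) := by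
      rw [Scheme.Hom.comp_base, TopCat.coe_comp, Set.range_comp, Scheme.Opens.range_ι, Scheme.Opens.range_ι]
      ext z
      exact ⟨fun hz => ⟨⟨z, hz.1⟩, hz.2, rfl⟩, by rintro ⟨y, hy, rfl⟩; exact ⟨y.2, hy⟩⟩
    rw [← IsOpenImmersion.isoOfRangeEq_hom_fac W.ι ((A₁.ι ⁻¹ᵁ A₂).ι ≫ A₁.ι) hr]
    infer_instance
  have hdom := isDominant_toImage (f := W.ι)
  let d₁ : W.ι.image ⟶ X.total := W.ι.imageι ≫ β ≫ q₁
  let d₂ : W.ι.image ⟶ T.total := W.ι.imageι ≫ β ≫ q₂
  have hA : BlowUp.IsEffCartierIdeal (X.mod.comap d₁) :=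
    isEffCartier_comap_of_dominant X.isEffCartier d₁ W.ι.toImage fun z => by
      rw [← Scheme.Hom.comp_apply, Scheme.Hom.toImage_imageι_assoc]
      exact z.2.1
  have hB : BlowUp.IsEffCartierIdeal (T.mod.comap d₂) :=
    isEffCartier_comap_of_dominant T.isEffCartier d₂ W.ι.toImage fun z => by
      rw [← Scheme.Hom.comp_apply, Scheme.Hom.toImage_imageι_assoc]
      exact z.2.2
  have hCd : C.comap (W.ι.imageι ≫ β) = X.mod.comap d₁ ⊔ T.mod.comap d₂ := by
    simp only [C, d₁, d₂, Scheme.IdealSheafData.comap_sup, Scheme.IdealSheafData.comap_comp]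
  have hE : BlowUp.IsEffCartierIdeal (X.mod.comap d₁ ⊔ T.mod.comap d₂) := by
    rw [← hCd, Scheme.IdealSheafData.comap_comp]
    refine isEffCartier_comap_of_dominant hβ.1 W.ι.imageι W.ι.toImage fun z => ?_
    rw [← Scheme.Hom.comp_apply, Scheme.Hom.toImage_imageι, interior_comap]
    intro h
    simp only [C, Scheme.IdealSheafData.support_sup, Scheme.IdealSheafData.support_comap] at h
    exact z.2.1 h.1
  have hKE := inf_mul_sup hA hB hE
  have hK : BlowUp.IsEffCartierIdeal (X.mod.comap d₁ ⊓ T.mod.comap d₂) := by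
    refine BlowUpLib.isEffCartier_of_mul (I := X.mod.comap d₁ ⊔ T.mod.comap d₂) ?_
    rw [mul_comm, hKE]
    exact SDivLib.isEffCartier_mul hA hB
  let P : Pair.{u} := ⟨W.ι.image, _, hK⟩
  refine ⟨P, ⟨d₁, inf_le_left⟩, ⟨d₂, inf_le_right⟩, Pair.Hom.ext ?_, ?_, ?_⟩
  · change (W.ι.imageι ≫ β ≫ q₁) ≫ f.hom = (W.ι.imageι ≫ β ≫ q₂) ≫ g.hom
    simp only [Category.assoc, hq.1.w]
  · intro Z a b hab
    obtain ⟨z, hz₁, hz₂⟩ : ∃ z, z ≫ q₁ = a.hom ∧ z ≫ q₂ = b.hom :=
      ⟨hq.1.lift a.hom b.hom congr($(hab).hom), hq.1.lift_fst _ _ _, hq.1.lift_snd _ _ _⟩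
    have hCz : C.comap z = X.mod.comap a.hom ⊔ T.mod.comap b.hom := by
      simp only [C, Scheme.IdealSheafData.comap_sup, ← Scheme.IdealSheafData.comap_comp, hz₁, hz₂]
    have hCzf : BlowUp.IsFiniteTypeIdeal (C.comap z) := by
      rw [hCz]
      exact fg_sup (fg_comap_of_isEffCartier X.isEffCartier _) (fg_comap_of_isEffCartier T.isEffCartier _)
    obtain ⟨Z₁, σ, hσ⟩ := BlowUpLib.exists_isBlowUp _ (C.comap z)
    have hσp := BlowUpLib.isProper_of_isBlowUp hσ hCzf
    let Z' : Pair.{u} := ⟨Z₁, Z.mod.comap σ, BlowUpLib.isEffCartier_comap hσ Z.isEffCartier⟩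
    have hσi : IsIso (σ ∣_ interior Z.mod) := by
      refine EffCartLib.isIso_off_center (C.comap z) σ hσ _ fun y hy hs => ?_
      rw [hCz, Scheme.IdealSheafData.support_sup] at hs
      exact interior_le a.cond hy (by simpa [Scheme.IdealSheafData.support_comap] using hs.1)
    have hs : Pair.admBlowup (⟨σ, le_rfl⟩ : Z' ⟶ Z) := ⟨rfl, hσp, hσi⟩
    obtain ⟨l, hl, -⟩ := hβ.2 _ (σ ≫ z) (by rw [Scheme.IdealSheafData.comap_comp]; exact hσ.1)
    have hle : W.ι.imageι.ker ≤ l.ker := by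
      have hdz := isDominant_interior Z'.isEffCartier
      have hr : Set.range ((interior Z'.mod).ι ≫ l) ⊆ Set.range W.ι := by
        rintro _ ⟨w, rfl⟩
        rw [Scheme.Opens.range_ι]
        have hw : σ w.1 ∈ interior Z.mod := by
          have : (w.1 : Z₁) ∈ interior (Z.mod.comap σ) := w.2
          exact (interior_comap Z.mod σ).le this
        constructor
        · change (l ≫ β ≫ q₁) w.1 ∈ interior X.mod
          rw [reassoc_of% hl, hz₁]
          exact interior_le a.cond hw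
        · change (l ≫ β ≫ q₂) w.1 ∈ interior T.mod
          rw [reassoc_of% hl, hz₂]
          exact interior_le b.cond hw
      calc W.ι.imageι.ker = W.ι.ker := W.ι.ker.ker_subschemeι
        _ ≤ (IsOpenImmersion.lift W.ι _ hr ≫ W.ι).ker := Scheme.Hom.le_ker_comp _ _
        _ = ((interior Z'.mod).ι ≫ l).ker := by rw [IsOpenImmersion.lift_fac]
        _ = l.ker := by rw [Scheme.Hom.ker_comp, hdz.ker_eq_bot, Scheme.IdealSheafData.map_bot]
    let k : Z₁ ⟶ W.ι.image := IsClosedImmersion.lift W.ι.imageι l hle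
    have hk : k ≫ W.ι.imageι = l := IsClosedImmersion.lift_fac _ _ _
    have hk₁ : k ≫ d₁ = σ ≫ a.hom := by simp only [d₁, reassoc_of% hk, reassoc_of% hl, hz₁]
    have hk₂ : k ≫ d₂ = σ ≫ b.hom := by simp only [d₂, reassoc_of% hk, reassoc_of% hl, hz₂]
    have hkE : (X.mod.comap d₁ ⊔ T.mod.comap d₂).comap k = (C.comap z).comap σ := by
      rw [← hCd, ← Scheme.IdealSheafData.comap_comp, ← Scheme.IdealSheafData.comap_comp, reassoc_of% hk, hl]
    have hamb : Z.mod.comap σ ≤ (X.mod.comap d₁ ⊓ T.mod.comap d₂).comap k := by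
      refine le_of_mul_le (E := (X.mod.comap d₁ ⊔ T.mod.comap d₂).comap k) (hkE ▸ hσ.1) ?_
      rw [← BlowUpLib.comap_mul, hKE, BlowUpLib.comap_mul]
      rw [Scheme.IdealSheafData.comap_sup, ← Scheme.IdealSheafData.comap_comp,
        ← Scheme.IdealSheafData.comap_comp, hk₁, hk₂, Scheme.IdealSheafData.comap_comp,
        Scheme.IdealSheafData.comap_comp, Scheme.IdealSheafData.mul_inf, sup_le_iff]
      have hMa := Scheme.IdealSheafData.comap_mono σ a.cond
      have hMb := Scheme.IdealSheafData.comap_mono σ b.cond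
      constructor
      · rw [mul_comm ((X.mod.comap a.hom).comap σ)]
        intro U
        simp only [Scheme.IdealSheafData.ideal_mul, Pi.mul_apply]
        exact Ideal.mul_mono_left (hMb U)
      · intro U
        simp only [Scheme.IdealSheafData.ideal_mul, Pi.mul_apply]
        exact Ideal.mul_mono_left (hMa U)
    exact ⟨Z', ⟨σ, le_rfl⟩, hs, ⟨k, hamb⟩, Pair.Hom.ext hk₁, Pair.Hom.ext hk₂⟩
  · intro Z k k' h₁ h₂
    refine Pair.Hom.ext ?_
    have e₁ : k.hom ≫ W.ι.imageι ≫ β ≫ q₁ = k'.hom ≫ W.ι.imageι ≫ β ≫ q₁ := congr($(h₁).hom)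
    have e₂ : k.hom ≫ W.ι.imageι ≫ β ≫ q₂ = k'.hom ≫ W.ι.imageι ≫ β ≫ q₂ := congr($(h₂).hom)
    rw [← cancel_mono W.ι.imageι]
    have e : (k.hom ≫ W.ι.imageι) ≫ β = (k'.hom ≫ W.ι.imageι) ≫ β :=
      hq.1.hom_ext (by simpa only [Category.assoc] using e₁) (by simpa only [Category.assoc] using e₂)
    refine ext_of_interior Z.isEffCartier β e ?_
    have hiso : IsIso (β ∣_ C.support.compl) := EffCartLib.isIso_off_center C β hβ _ le_rfl
    refine eq_of_isIso_restrict (s := β) (V := C.support.compl)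
      (by simpa only [Category.assoc] using congrArg ((interior Z.mod).ι ≫ ·) e) fun w hs => ?_
    have hd : d₁ (k.hom w.1) ∈ interior X.mod :=
      interior_le (f := k.hom ≫ d₁)
        (le_trans k.cond (by
          rw [Scheme.IdealSheafData.comap_comp]
          exact Scheme.IdealSheafData.comap_mono k.hom inf_le_left)) w.2
    simp only [C, Scheme.IdealSheafData.support_sup, Scheme.IdealSheafData.support_comap] at hs
    exact hd hs.1

/-- The terminal modulus pair. -/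
noncomputable def terminalPair : Pair.{u} :=
  ⟨Spec (CommRingCat.of (ULift.{u} ℤ)), ⊤, EffCartLib.isEffCartier_top⟩

noncomputable def isTerminalPair : IsTerminal terminalPair.{u} :=
  IsTerminal.ofUniqueHom
    (fun P => ⟨specULiftZIsTerminal.from P.total, show P.mod ≤ (⊤ : (Spec (CommRingCat.of (ULift.{u} ℤ))).IdealSheafData).comap
      (specULiftZIsTerminal.from P.total) by rw [Scheme.IdealSheafData.comap_top]; exact le_top⟩)
    fun P m => Pair.Hom.ext (specULiftZIsTerminal.hom_ext _ _)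

theorem hasFiniteLimits_localization : HasFiniteLimits (Pair.admBlowup.{u}).Localization := by
  haveI := hasRightCalculus.{u}
  haveI := LocLimits.hasPullbacks (Pair.admBlowup.{u}).Q Pair.admBlowup fun f g => exists_ambProd f g
  haveI := LocLimits.hasTerminal (Pair.admBlowup.{u}).Q Pair.admBlowup isTerminalPair
  exact hasFiniteLimits_of_hasTerminal_and_pullbacks

end ModPairLib
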