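import Groth.Agent.ModPairLib.DomHom
import Groth.Agent.ModPairLib.Colon
import Groth.Agent.SmoothStrat.Data
import Groth.Agent.RichLib.LimitDescent

/-!
# Inclusions of a finitely generated ideal sheaf descend along limits
-/

set_option autoImplicit false
set_option linter.style.haveILetI false
set_option backward.isDefEq.respectTransparency false
set_option backward.isDefEq.respectTransparency.types false

universe u

open CategoryTheory CategoryTheory.Limits AlgebraicGeometry TopologicalSpace
open RichLib.LimBC

noncomputable section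

namespace ModPairLib

theorem ker_snd_comap {T P : Scheme.{u}} (K : T.IdealSheafData) (m : P ⟶ T) :
    (pullback.snd K.subschemeι m).ker = K.comap m := by
  rw [← pullbackSymmetry_hom_comp_fst, Scheme.Hom.ker_comp_of_isIso]
  rfl

variable {I : Type u} [SmallCategory I] [IsCofiltered I]

/-- **An inclusion of ideal sheaves which holds over the limit holds at a stage.** -/
theorem exists_comap_le (D : I ⥤ Scheme.{u}) (c : Cone D) (hc : IsLimit c)
    [∀ (i j : I) (t : i ⟶ j), IsAffineHom (D.map t)] (i : I) [CompactSpace (D.obj i)]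
    (J K : (D.obj i).IdealSheafData) [LocallyOfFinitePresentation J.subschemeι]
    (h : J.comap (c.π.app i) ≤ K.comap (c.π.app i)) :
    ∃ (j : I) (t : j ⟶ i), J.comap (D.map t) ≤ K.comap (D.map t) := by
  let A := ofStage D c hc i
  let B := RichLib.LimBC.pb A K.subschemeι
  let g := pullback.fst K.subschemeι J.subschemeι
  haveI : CompactSpace K.subscheme := QuasiCompact.compactSpace_of_compactSpace K.subschemeι
  have hlim : AtLim B g (MorphismProperty.isomorphisms Scheme.{u}) := by
    have hker : J ≤ (B.s ≫ K.subschemeι).ker := by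
      show J ≤ (pullback.fst K.subschemeι (c.π.app i) ≫ K.subschemeι).ker
      rw [pullback.condition, Scheme.Hom.ker_comp, ker_snd_comap, Scheme.IdealSheafData.le_map_iff_comap_le]
      exact h
    let l := IsClosedImmersion.lift J.subschemeι (B.s ≫ K.subschemeι)
      (le_of_eq_of_le J.ker_subschemeι hker)
    let σ : B.c.pt ⟶ pullback g B.s := pullback.lift
      (pullback.lift B.s l (IsClosedImmersion.lift_fac _ _ _).symm) (𝟙 _)
      (by rw [pullback.lift_fst, Category.id_comp])
    haveI : IsSplitEpi (pullback.snd g B.s) := ⟨⟨⟨σ, pullback.lift_snd _ _ _⟩⟩⟩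
    exact isIso_of_mono_of_isSplitEpi (pullback.snd g B.s)
  obtain ⟨φ, hφ⟩ := exists_at_isIso B g hlim
  haveI : IsIso (pullback.snd g (B.t φ)) := hφ
  refine ⟨φ.left, φ.hom, ?_⟩
  rw [← ker_snd_comap K, ← Scheme.IdealSheafData.le_map_iff_comap_le, ← Scheme.Hom.ker_comp, ← pullback.condition]
  have e : B.t φ = (inv (pullback.snd g (B.t φ)) ≫ pullback.fst g (B.t φ)) ≫ g := by
    rw [Category.assoc, pullback.condition, IsIso.inv_hom_id_assoc]
  show J ≤ (B.t φ ≫ K.subschemeι).ker
  rw [e, Category.assoc, show g ≫ K.subschemeι = pullback.snd K.subschemeι J.subschemeι ≫ J.subschemeι from pullback.condition,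
    ← Category.assoc]
  exact le_of_eq_of_le J.ker_subschemeι.symm (Scheme.Hom.le_ker_comp _ _)

end ModPairLib

end
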