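import Groth.Agent.ModPairLib.Extra2
import Groth.Agent.S2079
import Groth.Agent.S0591
import Groth.Agent.ConsLib.PairProper
import Groth.Agent.RichLib.LimitDescent

/-!
# Admissible blow-ups descend along limits
-/

set_option autoImplicit false
set_option linter.style.haveILetI false
set_option linter.unusedSectionVars false
set_option backward.isDefEq.respectTransparency false
set_option backward.isDefEq.respectTransparency.types false
set_option maxHeartbeats 1000000

universe u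

open CategoryTheory CategoryTheory.Limits AlgebraicGeometry TopologicalSpace
open RichLib.LimBC

noncomputable section

namespace ModPairLib

/-- A section over an open of a separated morphism has an image which is isomorphic to the open over it. -/
theorem isIso_restrict_image {P T : Scheme.{u}} (r : P ⟶ T) [IsSeparated r] {U : T.Opens}
    (σ : (U : Scheme.{u}) ⟶ P) [QuasiCompact σ] (hσ : σ ≫ r = U.ι) : IsIso ((σ.imageι ≫ r) ∣_ U) := by
  let g := σ.imageι ≫ r
  let t := σ.toImage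
  have htg : t ≫ g = U.ι := by rw [Scheme.Hom.toImage_imageι_assoc, hσ]
  have hr : Set.range t ⊆ Set.range (g ⁻¹ᵁ U).ι := by
    rintro _ ⟨w, rfl⟩
    rw [Scheme.Opens.range_ι]
    show g (t w) ∈ U
    rw [← Scheme.Hom.comp_apply, htg]
    exact w.2
  let t' := IsOpenImmersion.lift (g ⁻¹ᵁ U).ι t hr
  have ht : t' ≫ (g ⁻¹ᵁ U).ι = t := IsOpenImmersion.lift_fac _ _ _
  have h1 : t' ≫ (g ∣_ U) = 𝟙 _ := by
    rw [← cancel_mono U.ι, Category.assoc, morphismRestrict_ι, reassoc_of% ht, htg, Category.id_comp]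
  haveI : IsSeparated g := inferInstanceAs (IsSeparated (σ.imageι ≫ r))
  haveI : IsClosedImmersion (t' ≫ (g ∣_ U)) := by rw [h1]; infer_instance
  haveI : IsClosedImmersion t' := IsClosedImmersion.of_comp t' (g ∣_ U)
  haveI : IsSchemeTheoreticallyDominant t := isDominant_toImage
  have hbot : t'.ker = ⊥ := by
    refine le_bot_iff.mp ?_
    intro V
    rw [Scheme.IdealSheafData.ideal_bot, Pi.bot_apply, le_bot_iff, Scheme.Hom.ker_apply,
      ← RingHom.injective_iff_ker_eq_bot]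
    have h2 := t.app_injective ((g ⁻¹ᵁ U).ι ''ᵁ V.1)
    have e : (t' ≫ (g ⁻¹ᵁ U).ι).app ((g ⁻¹ᵁ U).ι ''ᵁ V.1) =
        (g ⁻¹ᵁ U).ι.app ((g ⁻¹ᵁ U).ι ''ᵁ V.1) ≫ t'.app _ := Scheme.Hom.comp_app _ _ _
    intro a b hab
    obtain ⟨a', rfl⟩ := (ConcreteCategory.bijective_of_isIso ((g ⁻¹ᵁ U).ι.app ((g ⁻¹ᵁ U).ι ''ᵁ V.1) ≫
      (g ⁻¹ᵁ U).toScheme.presheaf.map (eqToHom ((g ⁻¹ᵁ U).ι.preimage_image_eq V.1).symm).op)).2 a
    obtain ⟨b', rfl⟩ := (ConcreteCategory.bijective_of_isIso ((g ⁻¹ᵁ U).ι.app ((g ⁻¹ᵁ U).ι ''ᵁ V.1) ≫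
      (g ⁻¹ᵁ U).toScheme.presheaf.map (eqToHom ((g ⁻¹ᵁ U).ι.preimage_image_eq V.1).symm).op)).2 b
    suffices a' = b' by rw [this]
    refine h2 ?_
    have h3 : ∀ c, t'.app V.1 (((g ⁻¹ᵁ U).ι.app ((g ⁻¹ᵁ U).ι ''ᵁ V.1) ≫
        (g ⁻¹ᵁ U).toScheme.presheaf.map (eqToHom ((g ⁻¹ᵁ U).ι.preimage_image_eq V.1).symm).op) c) =
      (U : Scheme.{u}).presheaf.map (eqToHom (congrArg (t' ⁻¹ᵁ ·) ((g ⁻¹ᵁ U).ι.preimage_image_eq V.1).symm)).op
        (t'.app _ ((g ⁻¹ᵁ U).ι.app ((g ⁻¹ᵁ U).ι ''ᵁ V.1) c)) := fun c =>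
      congr($(t'.naturality (eqToHom ((g ⁻¹ᵁ U).ι.preimage_image_eq V.1).symm).op)
        ((g ⁻¹ᵁ U).ι.app ((g ⁻¹ᵁ U).ι ''ᵁ V.1) c))
    rw [h3, h3] at hab
    have h4 := (ConcreteCategory.bijective_of_isIso ((U : Scheme.{u}).presheaf.map
      (eqToHom (congrArg (t' ⁻¹ᵁ ·) ((g ⁻¹ᵁ U).ι.preimage_image_eq V.1).symm)).op)).1 hab
    have hc := Scheme.Hom.congr_app ht.symm ((g ⁻¹ᵁ U).ι ''ᵁ V.1)
    rw [hc, e]
    simp only [CommRingCat.comp_apply]
    exact congrArg _ h4
  haveI : IsIso t' := IsClosedImmersion.isIso_of_ker_eq t' (𝟙 _) t' (Category.comp_id _)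
    (hbot.trans (Scheme.Hom.ker_eq_bot_of_isIso _).symm)
  have : g ∣_ U = inv t' := IsIso.eq_inv_of_hom_inv_id h1
  show IsIso (g ∣_ U)
  rw [this]
  infer_instance

variable {I : Type u} [SmallCategory I] [IsCofiltered I]

/-- A proper morphism over the limit sits in a proper, finitely presented morphism from a stage. -/
theorem exists_proper_stage (D : I ⥤ Scheme.{u}) (c : Cone D) (hc : IsLimit c)
    [∀ (i j : I) (t : i ⟶ j), IsAffineHom (D.map t)]
    [∀ i, CompactSpace (D.obj i)] [∀ i, QuasiSeparatedSpace (D.obj i)]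
    {Y : Scheme.{u}} (s : Y ⟶ c.pt) [IsProper s] :
    ∃ (j : I) (P : Scheme.{u}) (q : P ⟶ D.obj j) (Y' : Scheme.{u}) (f' : Y' ⟶ c.pt) (gP : Y' ⟶ P) (ι : Y ⟶ Y'),
      IsProper q ∧ LocallyOfFinitePresentation q ∧ IsClosedImmersion ι ∧ ι ≫ f' = s ∧
        IsPullback gP f' q (c.π.app j) := by
  obtain ⟨i₀⟩ := IsCofiltered.nonempty (C := I)
  haveI : ∀ {i j : I} (f : i ⟶ j), IsAffineHom (D.map f) := fun f => inferInstance
  haveI := isAffineHom_π_app D c hc i₀
  haveI : CompactSpace c.pt := QuasiCompact.compactSpace_of_compactSpace (c.π.app i₀)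
  haveI : QuasiSeparatedSpace c.pt := quasiSeparatedSpace_of_quasiSeparated (c.π.app i₀)
  obtain ⟨K, _, _, E, d, hd, e, -, hE⟩ := Groth.Agent.S2079.result s
  obtain ⟨k⟩ := IsCofiltered.nonempty (C := K)
  obtain ⟨hcl, hpr, hfp⟩ := hE k
  haveI := hcl
  haveI := hpr
  haveI := hfp
  let ι : Y ⟶ (E.obj k).left := e.inv.left ≫ (d.π.app k).left
  have hι : ι ≫ (E.obj k).hom = s := by
    refine (Category.assoc _ _ _).trans ?_
    refine (congrArg (e.inv.left ≫ ·) (Over.w (d.π.app k))).trans ?_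
    exact Over.w e.inv
  obtain ⟨i, Xi, fi, g, hfi, hfiq, hfis, hg⟩ := Groth.Agent.S0591.result D c hc _ (E.obj k).hom
  haveI := hfi
  haveI := hfiq
  haveI := hfis
  let A := ofStage D c hc i
  have hlim : AtLim A fi @IsProper := by
    show IsProper (pullback.snd fi (c.π.app i))
    rw [← hg.isoPullback_inv_snd]
    infer_instance
  obtain ⟨φ, hφ⟩ := ConsLib.exists_at_isProper A fi hlim
  haveI : IsProper (pullback.snd fi (D.map φ.hom)) := hφ
  refine ⟨φ.left, pullback fi (D.map φ.hom), pullback.snd fi (D.map φ.hom), (E.obj k).left, (E.obj k).hom,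
    pullback.lift g ((E.obj k).hom ≫ c.π.app φ.left) (by rw [Category.assoc, c.w, hg.w]), ι,
    inferInstance, inferInstance, inferInstance, hι, ?_⟩
  refine IsPullback.of_right ?_ (pullback.lift_snd _ _ _) (IsPullback.of_hasPullback _ _)
  rw [pullback.lift_fst, c.w]
  exact hg

/-- Admissible blow-ups descend. -/
theorem exists_descend_admBlowup (D : I ⥤ Scheme.{u}) (c : Cone D) (hc : IsLimit c)
    [∀ (i j : I) (t : i ⟶ j), IsAffineHom (D.map t)]
    [∀ i, CompactSpace (D.obj i)] [∀ i, QuasiSeparatedSpace (D.obj i)]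
    (J : ∀ i, (D.obj i).IdealSheafData) (hJ : ∀ i, BlowUp.IsEffCartierIdeal (J i))
    (hmin : ∀ (i j : I) (t : i ⟶ j), ModPair.IsMinimal (J i) (J j) (D.map t))
    (IX : c.pt.IdealSheafData) (hIX : ∀ i, IX = (J i).comap (c.π.app i))
    {Y : Scheme.{u}} (s : Y ⟶ c.pt) (hY : BlowUp.IsEffCartierIdeal (IX.comap s))
    (hs : ModPair.IsAdmBlowup (IX.comap s) IX s) :
    ∃ (i : I) (Yi : Scheme.{u}) (IYi : Yi.IdealSheafData) (si : Yi ⟶ D.obj i),
      BlowUp.IsEffCartierIdeal IYi ∧ ModPair.IsAdmBlowup IYi (J i) si ∧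
        ∃ e : Y ≅ ModPair.mprod (c.π.app i) si IX IYi,
          e.hom ≫ ModPair.mprodι (c.π.app i) si IX IYi ≫ pullback.fst (c.π.app i) si = s := by
  obtain ⟨-, hp, hiso⟩ := hs
  haveI := hp
  haveI := hiso
  haveI : ∀ {i j : I} (f : i ⟶ j), IsAffineHom (D.map f) := fun f => inferInstance
  obtain ⟨j, P, q, Y', f', gP, ι, hq, hqf, hι, hιs, hsq⟩ := exists_proper_stage D c hc s
  haveI := hq
  haveI := hqf
  haveI := hι
  haveI : IsProper f' := MorphismProperty.of_isPullback (P := @IsProper) hsq hq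
  let U := ModPair.interior IX
  have hU : ∀ i, U = c.π.app i ⁻¹ᵁ ModPair.interior (J i) := fun i => by
    rw [← interior_comap, ← hIX i]
  let Uj := ModPair.interior (J j)
  haveI := isAffineHom_interior (hJ j)
  let A := ofStage D c hc j
  let B := pb A Uj.ι
  let sec : (U : Scheme.{u}) ⟶ Y := inv (s ∣_ U) ≫ (s ⁻¹ᵁ U).ι
  have hsec : sec ≫ s = U.ι := by
    rw [Category.assoc, ← morphismRestrict_ι, IsIso.inv_hom_id_assoc]
  have hr : Set.range (pullback.snd Uj.ι (c.π.app j)) ⊆ Set.range U.ι := by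
    rintro _ ⟨z, rfl⟩
    rw [Scheme.Opens.range_ι]
    show _ ∈ U
    rw [hU j]
    show c.π.app j (pullback.snd Uj.ι (c.π.app j) z) ∈ Uj
    rw [← Scheme.Hom.comp_apply, ← pullback.condition]
    exact (pullback.fst Uj.ι (c.π.app j) z).2
  let toU : pullback Uj.ι (c.π.app j) ⟶ (U : Scheme.{u}) := IsOpenImmersion.lift U.ι _ hr
  have htoU : toU ≫ U.ι = pullback.snd Uj.ι (c.π.app j) := IsOpenImmersion.lift_fac _ _ _
  let a : B.c.pt ⟶ P := (toU ≫ sec ≫ ι ≫ gP : pullback Uj.ι (c.π.app j) ⟶ P)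
  haveI := IsCofiltered.isConnected (Over j)
  haveI : CompactSpace (Uj : Scheme.{u}) := QuasiCompact.compactSpace_of_compactSpace Uj.ι
  haveI : QuasiSeparatedSpace (Uj : Scheme.{u}) := quasiSeparatedSpace_of_quasiSeparated Uj.ι
  haveI : ∀ {a b : Over j} (f : a ⟶ b), IsAffineHom (B.D.map f) := fun f => B.affine_map f
  haveI : ∀ k, CompactSpace (B.D.obj k) := fun k => B.compactSpace_obj k
  haveI : ∀ k, QuasiSeparatedSpace (B.D.obj k) := fun k => B.quasiSeparatedSpace_obj k
  let τ : B.D ⟶ (Functor.const (Over j)).obj (D.obj j) :=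
    { app := fun k => B.t k ≫ Uj.ι
      naturality := fun k k' f => by
        simp only [Functor.const_obj_map, Category.comp_id]
        rw [← Category.assoc, B.w f]
        exact (Category.comp_id _).symm }
  have hφf : ι ≫ gP ≫ q = s ≫ c.π.app j := by rw [hsq.w, reassoc_of% hιs]
  obtain ⟨φ, g, hgπ, hgq⟩ := Scheme.exists_π_app_comp_eq_of_locallyOfFinitePresentation B.D τ q _ B.hc a (by
    ext k
    show B.c.π.app k ≫ B.t k ≫ Uj.ι = a ≫ q
    rw [← Category.assoc, B.hs k]
    show pullback.fst Uj.ι (c.π.app j) ≫ Uj.ι = _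
    simp only [a, Category.assoc, hφf, reassoc_of% hsec, reassoc_of% htoU]
    exact pullback.condition)
  let l := φ.left
  let h : l ⟶ j := φ.hom
  let Ul := ModPair.interior (J l)
  have hUl : Ul = D.map h ⁻¹ᵁ Uj := by
    show ModPair.interior (J l) = _
    rw [← interior_comap, ← (hmin l j h : J l = _)]
  haveI := isAffineHom_interior (hJ l)
  have hrl : Set.range (Ul.ι ≫ D.map h) ⊆ Set.range Uj.ι := by
    rintro _ ⟨z, rfl⟩
    rw [Scheme.Opens.range_ι]
    have := z.2
    exact (le_of_eq hUl) z.2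
  let toUj : (Ul : Scheme.{u}) ⟶ pullback Uj.ι (D.map h) :=
    pullback.lift (IsOpenImmersion.lift Uj.ι _ hrl) Ul.ι (IsOpenImmersion.lift_fac _ _ _)
  let r := pullback.snd q (D.map h)
  have hgq' : g ≫ q = pullback.fst Uj.ι (D.map h) ≫ Uj.ι := hgq
  let σ : (Ul : Scheme.{u}) ⟶ pullback q (D.map h) := pullback.lift (toUj ≫ g) Ul.ι (by
    rw [Category.assoc, hgq', pullback.lift_fst_assoc]
    exact IsOpenImmersion.lift_fac _ _ _)
  have hσr : σ ≫ r = Ul.ι := pullback.lift_snd _ _ _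
  haveI : QuasiCompact (σ ≫ r) := by rw [hσr]; infer_instance
  haveI : QuasiCompact σ := QuasiCompact.of_comp σ r
  let si := σ.imageι ≫ r
  haveI hsi : IsIso (si ∣_ Ul) := isIso_restrict_image r σ hσr
  haveI : IsSchemeTheoreticallyDominant σ.toImage := isDominant_toImage
  have hYi : BlowUp.IsEffCartierIdeal ((J l).comap si) := isEffCartier_comap_of_dominant (hJ l) si σ.toImage fun z => by
    show si (σ.toImage z) ∈ Ul
    rw [← Scheme.Hom.comp_apply, Scheme.Hom.toImage_imageι_assoc, hσr]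
    exact z.2
  refine ⟨l, σ.image, (J l).comap si, si, hYi, ⟨rfl, inferInstance, hsi⟩, ?_⟩
  -- the square at the new stage
  let gl : Y' ⟶ pullback q (D.map h) := pullback.lift gP (f' ≫ c.π.app l) (by rw [Category.assoc, c.w, hsq.w])
  have hsql : IsPullback gl f' r (c.π.app l) := by
    refine IsPullback.of_right ?_ (pullback.lift_snd _ _ _) (IsPullback.of_hasPullback _ _)
    rw [pullback.lift_fst, c.w]
    exact hsq
  let m : Y ⟶ pullback q (D.map h) := ι ≫ gl
  let dY := (s ⁻¹ᵁ U).ι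
  haveI : IsSchemeTheoreticallyDominant dY := by
    have := isDominant_interior hY
    rwa [interior_comap] at this
  have hrU : Set.range (U.ι ≫ c.π.app l) ⊆ Set.range Ul.ι := by
    rintro _ ⟨z, rfl⟩
    rw [Scheme.Opens.range_ι]
    exact (le_of_eq (hU l)) z.2
  let ρ : (U : Scheme.{u}) ⟶ Ul := IsOpenImmersion.lift Ul.ι _ hrU
  have hρ : ρ ≫ Ul.ι = U.ι ≫ c.π.app l := IsOpenImmersion.lift_fac _ _ _
  have hkey : sec ≫ m = ρ ≫ σ := by
    apply pullback.hom_ext
    · simp only [m, gl, σ, Category.assoc, pullback.lift_fst]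
      let k : (U : Scheme.{u}) ⟶ pullback Uj.ι (c.π.app j) :=
        pullback.lift (ρ ≫ toUj ≫ pullback.fst _ _) U.ι (by
          simp only [Category.assoc, pullback.condition]
          simp only [toUj, pullback.lift_snd_assoc, reassoc_of% hρ, c.w])
      have hk : k ≫ toU = 𝟙 _ := by
        rw [← cancel_mono U.ι, Category.assoc, htoU, pullback.lift_snd, Category.id_comp]
      have hk2 : k ≫ pbπ A Uj.ι φ = ρ ≫ toUj := by
        apply pullback.hom_ext
        · rw [Category.assoc, pbπ_fst, Category.assoc]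
          exact pullback.lift_fst _ _ _
        · rw [Category.assoc, pbπ_snd]
          show k ≫ pullback.snd Uj.ι (c.π.app j) ≫ c.π.app l = _
          simp only [k, toUj, pullback.lift_snd_assoc, Category.assoc]
          exact hρ.symm.trans (congrArg (ρ ≫ ·) (pullback.lift_snd _ _ _).symm)
      have := congrArg (fun z => k ≫ z) hgπ
      change k ≫ pbπ A Uj.ι φ ≫ g = k ≫ toU ≫ sec ≫ ι ≫ gP at this
      rw [reassoc_of% hk, reassoc_of% hk2] at this
      exact this.symm
    · simp only [m, gl, σ, Category.assoc, pullback.lift_snd, hρ, reassoc_of% hιs, reassoc_of% hsec]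
  have hmk : σ.imageι.ker ≤ m.ker := by
    rw [← ker_comp_dominant dY m]
    have e : dY ≫ m = ((s ∣_ U) ≫ ρ) ≫ σ := by
      rw [Category.assoc, ← hkey]
      simp [sec, dY]
    rw [e, show σ.imageι.ker = σ.ker from Scheme.IdealSheafData.ker_subschemeι _]
    exact Scheme.Hom.le_ker_comp _ _
  let mY := IsClosedImmersion.lift σ.imageι m hmk
  have hmY : mY ≫ σ.imageι = m := IsClosedImmersion.lift_fac _ _ _
  have hms : mY ≫ si = s ≫ c.π.app l := by
    rw [reassoc_of% hmY]
    simp only [m, gl, Category.assoc, r, pullback.lift_snd, reassoc_of% hιs]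
  let θ : Y ⟶ pullback (c.π.app l) si := pullback.lift s mY hms.symm
  let m₃ : pullback (c.π.app l) si ⟶ Y' := hsql.lift (pullback.snd _ _ ≫ σ.imageι) (pullback.fst _ _)
    (by rw [Category.assoc, pullback.condition])
  haveI : IsProper si := inferInstanceAs (IsProper (σ.imageι ≫ r))
  haveI : IsSeparated m₃ := by
    haveI : IsSeparated (m₃ ≫ f') := by rw [hsql.lift_snd]; infer_instance
    exact IsSeparated.of_comp m₃ f'
  haveI : IsClosedImmersion (θ ≫ m₃) := by
    have e : θ ≫ m₃ = ι := hsql.hom_ext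
      (by rw [Category.assoc, hsql.lift_fst, pullback.lift_snd_assoc, hmY])
      (by rw [Category.assoc, hsql.lift_snd, pullback.lift_fst, hιs])
    rw [e]
    infer_instance
  haveI : IsClosedImmersion θ := IsClosedImmersion.of_comp θ m₃
  let W := ModPair.prodInterior (c.π.app l) si IX ((J l).comap si)
  have hW : W = pullback.fst (c.π.app l) si ⁻¹ᵁ U :=
    prodInterior_eq_fst (IS := J l) (le_of_eq (hIX l)) rfl
  have hrW : Set.range (W.ι ≫ pullback.fst (c.π.app l) si) ⊆ Set.range U.ι := by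
    rintro _ ⟨z, rfl⟩
    rw [Scheme.Opens.range_ι]
    exact (le_of_eq hW) z.2
  let toY : (W : Scheme.{u}) ⟶ Y := IsOpenImmersion.lift U.ι _ hrW ≫ sec
  have htoY : toY ≫ θ = W.ι := by
    apply pullback.hom_ext
    · rw [Category.assoc, pullback.lift_fst]
      simp only [toY, Category.assoc, hsec, IsOpenImmersion.lift_fac]
    · rw [Category.assoc, pullback.lift_snd]
      refine eq_of_isIso_restrict (s := si) (V := Ul) ?_ fun w => ?_
      · rw [Category.assoc, Category.assoc, hms, Category.assoc W.ι, ← pullback.condition]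
        simp only [toY, Category.assoc, reassoc_of% hsec, IsOpenImmersion.lift_fac_assoc]
      · rw [← Scheme.Hom.comp_apply, Category.assoc, hms]
        simp only [toY, Category.assoc, reassoc_of% hsec, IsOpenImmersion.lift_fac_assoc]
        rw [Scheme.Hom.comp_apply, Scheme.Hom.comp_apply]
        exact (le_of_eq (hU l)) ((le_of_eq hW) w.2)
  have hr2 : Set.range (dY ≫ θ) ⊆ Set.range W.ι := by
    rintro _ ⟨z, rfl⟩
    rw [Scheme.Opens.range_ι]
    refine (le_of_eq hW.symm) ?_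
    show pullback.fst (c.π.app l) si (θ (dY z)) ∈ U
    rw [← Scheme.Hom.comp_apply, pullback.lift_fst]
    exact z.2
  have hker : θ.ker = W.ι.ker := by
    apply le_antisymm
    · rw [← htoY]
      exact Scheme.Hom.le_ker_comp _ _
    · rw [← ker_comp_dominant dY θ, ← IsOpenImmersion.lift_fac W.ι _ hr2]
      exact Scheme.Hom.le_ker_comp _ _
  have himg : (ModPair.mprodι (c.π.app l) si IX ((J l).comap si)).ker = W.ι.ker :=
    Scheme.IdealSheafData.ker_subschemeι _
  let e0 := IsClosedImmersion.lift (ModPair.mprodι (c.π.app l) si IX ((J l).comap si)) θ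
    (le_of_eq (himg.trans hker.symm))
  have he0 : e0 ≫ ModPair.mprodι (c.π.app l) si IX ((J l).comap si) = θ := IsClosedImmersion.lift_fac _ _ _
  haveI : IsIso e0 := IsClosedImmersion.isIso_of_ker_eq θ _ e0 he0 (hker.trans himg.symm)
  exact ⟨asIso e0, by rw [asIso_hom, reassoc_of% he0, pullback.lift_fst]⟩

end ModPairLib

end
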