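import Groth.Agent.S2078
import Mathlib.AlgebraicGeometry.AffineTransitionLimit
import Mathlib.AlgebraicGeometry.Morphisms.SchemeTheoreticallyDominant

/-!
# Morphisms from limits along scheme-theoretically dominant transitions
-/

set_option autoImplicit false
set_option linter.style.haveILetI false
set_option backward.isDefEq.respectTransparency false
set_option backward.isDefEq.respectTransparency.types false

universe u

open CategoryTheory CategoryTheory.Limits AlgebraicGeometry TopologicalSpace

noncomputable section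

namespace ModPairLib

variable {I : Type u} [SmallCategory I] [IsCofiltered I]

theorem dominant_π (D : I ⥤ Scheme.{u}) (c : Cone D) (hc : IsLimit c)
    [∀ (i j : I) (t : i ⟶ j), IsAffineHom (D.map t)]
    [∀ (i j : I) (t : i ⟶ j), IsSchemeTheoreticallyDominant (D.map t)] (i : I) :
    IsSchemeTheoreticallyDominant (c.π.app i) := by
  haveI : ∀ {i j} (f : i ⟶ j), IsAffineHom (D.map f) := fun f => inferInstance
  haveI := isAffineHom_π_app D c hc i
  refine ⟨Scheme.IdealSheafData.ext (funext fun U => ?_)⟩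
  rw [Scheme.Hom.ker_apply, Scheme.IdealSheafData.ideal_bot, Pi.bot_apply, ← le_bot_iff]
  intro s hs
  obtain ⟨j, f, hf⟩ := exists_app_map_eq_zero_of_isLimit D c hc U.2.isCompact s hs
  exact Ideal.mem_bot.2 ((D.map f).app_injective U.1 (hf.trans (map_zero _).symm))

/-- A morphism out of a scheme-theoretically dominant projection lifts through a closed immersion. -/
theorem exists_lift_of_dominant {X T Y Y' : Scheme.{u}} (p : X ⟶ T) [IsSchemeTheoreticallyDominant p]
    (j : Y ⟶ Y') [IsClosedImmersion j] (g : T ⟶ Y') (φ : X ⟶ Y) (h : p ≫ g = φ ≫ j) :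
    ∃ g' : T ⟶ Y, g' ≫ j = g ∧ p ≫ g' = φ := by
  let e := pullback.snd j g
  let l : X ⟶ pullback j g := pullback.lift φ p h.symm
  have hbot : e.ker = ⊥ := le_bot_iff.mp (by
    rw [← IsSchemeTheoreticallyDominant.ker_eq_bot p, ← show l ≫ e = p from pullback.lift_snd _ _ _]
    exact l.le_ker_comp e)
  haveI : IsIso e := IsClosedImmersion.isIso_of_ker_eq e (𝟙 T) e (Category.comp_id e)
    (hbot.trans (Scheme.Hom.ker_eq_bot_of_isIso _).symm)
  refine ⟨inv e ≫ pullback.fst j g, by rw [Category.assoc, pullback.condition, IsIso.inv_hom_id_assoc], ?_⟩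
  rw [← cancel_mono j, Category.assoc, Category.assoc, pullback.condition, IsIso.inv_hom_id_assoc, h]

variable {S : Scheme.{u}} (D : I ⥤ Over S) (c : Cone D) (hc : IsLimit c)
  [∀ (i j : I) (t : i ⟶ j), IsAffineHom (D.map t).left] [∀ i, CompactSpace (D.obj i).left]
  (Y : Over S) [LocallyOfFiniteType Y.hom]

include hc in
theorem exists_eq_stage (i : I) (φ ψ : D.obj i ⟶ Y) (h : c.π.app i ≫ φ = c.π.app i ≫ ψ) :
    ∃ (j : I) (t : j ⟶ i), D.map t ≫ φ = D.map t ≫ ψ := by
  haveI := IsCofiltered.isConnected I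
  let D' := D ⋙ Over.forget S
  let t : D' ⟶ (Functor.const I).obj S :=
    { app := fun k => (D.obj k).hom
      naturality := fun a b f => by simp [D'] }
  haveI : ∀ k, CompactSpace (D'.obj k) := fun k => inferInstanceAs (CompactSpace (D.obj k).left)
  haveI : ∀ {a b} (f : a ⟶ b), IsAffineHom (D'.map f) := fun f => inferInstanceAs (IsAffineHom (D.map f).left)
  obtain ⟨j, a, ha⟩ := Scheme.exists_hom_comp_eq_comp_of_locallyOfFiniteType D' t Y.hom _
    (isLimitOfPreserves (Over.forget S) hc) φ.left ψ.left (Over.w φ).symm (Over.w ψ).symm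
    (congrArg CommaMorphism.left h)
  exact ⟨j, a, Over.OverMorphism.ext ha⟩

include hc in
theorem exists_stage_of_fp [∀ i, QuasiSeparatedSpace (D.obj i).left] {Y' : Scheme.{u}} (f : Y' ⟶ S)
    [LocallyOfFinitePresentation f] (a : c.pt.left ⟶ Y') (ha : a ≫ f = c.pt.hom) :
    ∃ (i : I) (g : (D.obj i).left ⟶ Y'), (c.π.app i).left ≫ g = a ∧ g ≫ f = (D.obj i).hom := by
  haveI := IsCofiltered.isConnected I
  let D' := D ⋙ Over.forget S
  let t : D' ⟶ (Functor.const I).obj S :=
    { app := fun k => (D.obj k).hom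
      naturality := fun a b f => by simp [D'] }
  haveI : ∀ k, CompactSpace (D'.obj k) := fun k => inferInstanceAs (CompactSpace (D.obj k).left)
  haveI : ∀ k, QuasiSeparatedSpace (D'.obj k) := fun k => inferInstanceAs (QuasiSeparatedSpace (D.obj k).left)
  haveI : ∀ {a b} (f : a ⟶ b), IsAffineHom (D'.map f) := fun f => inferInstanceAs (IsAffineHom (D.map f).left)
  exact Scheme.exists_π_app_comp_eq_of_locallyOfFinitePresentation D' t f _
    (isLimitOfPreserves (Over.forget S) hc) a (by
      ext k
      exact (Over.w (c.π.app k)).trans ha.symm)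

include hc in
theorem exists_stage_of_dominant [QuasiSeparatedSpace S] [∀ i, QuasiSeparatedSpace (D.obj i).left]
    [∀ (i j : I) (t : i ⟶ j), IsSchemeTheoreticallyDominant (D.map t).left]
    [CompactSpace Y.left] [QuasiSeparatedSpace Y.left] (φ : c.pt ⟶ Y) :
    ∃ (i : I) (φi : D.obj i ⟶ Y), c.π.app i ≫ φi = φ := by
  haveI := IsCofiltered.isConnected I
  obtain ⟨Y', f, j, hf, -, -, hj, hjf⟩ := Groth.Agent.S2078.result Y.hom
  obtain ⟨i, g, hg, hgf⟩ := exists_stage_of_fp D c hc f (φ.left ≫ j)
    (by rw [Category.assoc, hjf]; exact Over.w φ)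
  haveI : ∀ (a b : I) (t : a ⟶ b), IsAffineHom ((D ⋙ Over.forget S).map t) := fun a b t =>
    inferInstanceAs (IsAffineHom (D.map t).left)
  haveI : ∀ (a b : I) (t : a ⟶ b), IsSchemeTheoreticallyDominant ((D ⋙ Over.forget S).map t) := fun a b t =>
    inferInstanceAs (IsSchemeTheoreticallyDominant (D.map t).left)
  haveI : IsSchemeTheoreticallyDominant (c.π.app i).left :=
    dominant_π _ _ (isLimitOfPreserves (Over.forget S) hc) i
  obtain ⟨g', hg', hg''⟩ := exists_lift_of_dominant (c.π.app i).left j g φ.left hg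
  exact ⟨i, Over.homMk g' (by rw [← hgf, ← hg', Category.assoc, hjf]), Over.OverMorphism.ext hg''⟩

end ModPairLib

end
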