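import Groth.Agent.ModPairLib.Extra2

/-!
# Ambient products: finiteness, functoriality, fibre products in the localization
-/

set_option autoImplicit false

universe u

open CategoryTheory CategoryTheory.Limits AlgebraicGeometry TopologicalSpace

namespace ModPairLib

variable {X Y Z S T : Scheme.{u}}

theorem isProper_ambProd {I : X.IdealSheafData} {J : T.IdealSheafData}
    (hX : BlowUp.IsEffCartierIdeal I) (hT : BlowUp.IsEffCartierIdeal J) (f : X ⟶ S) (g : T ⟶ S)
    {π : Y ⟶ ModPair.mprod f g I J} {K : Y.IdealSheafData} (hY : ModPair.IsAmbProd f g I J π K) :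
    IsProper π :=
  BlowUpLib.isProper_of_isBlowUp hY.1 (fg_sup (fg_comap_of_isEffCartier hX _) (fg_comap_of_isEffCartier hT _))

theorem ambProd_finiteType {I : X.IdealSheafData} {J : T.IdealSheafData}
    (hX : BlowUp.IsEffCartierIdeal I) (hT : BlowUp.IsEffCartierIdeal J) (f : X ⟶ S) (g : T ⟶ S)
    (π : Y ⟶ ModPair.mprod f g I J) (K : Y.IdealSheafData) (hY : ModPair.IsAmbProd f g I J π K) :
    ((LocallyOfFiniteType f ∧ QuasiCompact f) →
        LocallyOfFiniteType (π ≫ ModPair.mprodι f g I J ≫ pullback.snd f g) ∧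
          QuasiCompact (π ≫ ModPair.mprodι f g I J ≫ pullback.snd f g)) ∧
      (UniversallyClosed f → UniversallyClosed (π ≫ ModPair.mprodι f g I J ≫ pullback.snd f g)) ∧
      (IsProper f → IsProper (π ≫ ModPair.mprodι f g I J ≫ pullback.snd f g)) := by
  have := isProper_ambProd hX hT f g hY
  refine ⟨fun h => ?_, fun h => ?_, fun h => ?_⟩
  · have h1 : LocallyOfFiniteType (pullback.snd f g) := MorphismProperty.pullback_snd _ _ h.1
    have h2 : QuasiCompact (pullback.snd f g) := MorphismProperty.pullback_snd _ _ h.2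
    exact ⟨inferInstance, inferInstance⟩
  · have h1 : UniversallyClosed (pullback.snd f g) := MorphismProperty.pullback_snd _ _ h
    infer_instance
  · have h1 : IsProper (pullback.snd f g) := MorphismProperty.pullback_snd _ _ h
    infer_instance

theorem comap_prodCentre {I : X.IdealSheafData} {J : T.IdealSheafData} {f : X ⟶ S} {g : T ⟶ S}
    (l : Z ⟶ ModPair.mprod f g I J) {a : Z ⟶ X} {b : Z ⟶ T}
    (ha : l ≫ ModPair.mprodι f g I J ≫ pullback.fst f g = a)
    (hb : l ≫ ModPair.mprodι f g I J ≫ pullback.snd f g = b) :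
    (ModPair.prodCentre f g I J).comap l = I.comap a ⊔ J.comap b := by
  rw [ModPair.prodCentre, Scheme.IdealSheafData.comap_sup, ← Scheme.IdealSheafData.comap_comp,
    ← Scheme.IdealSheafData.comap_comp, ha, hb]

theorem exists_mprodDesc {S₀ : Scheme.{u}} (I : X.IdealSheafData) (J : T.IdealSheafData)
    (f : X ⟶ S) (g : T ⟶ S) (σ : S ⟶ S₀) :
    ∃ m : ModPair.mprod f g I J ⟶ ModPair.mprod (f ≫ σ) (g ≫ σ) I J,
      m ≫ ModPair.mprodι (f ≫ σ) (g ≫ σ) I J = ModPair.mprodι f g I J ≫ pullback.mapDesc f g σ := by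
  refine ⟨IsClosedImmersion.lift _ (ModPair.mprodι f g I J ≫ pullback.mapDesc f g σ) ?_,
    IsClosedImmersion.lift_fac _ _ _⟩
  have hr : Set.range ((ModPair.prodInterior f g I J).ι ≫ pullback.mapDesc f g σ) ⊆
      Set.range (ModPair.prodInterior (f ≫ σ) (g ≫ σ) I J).ι := by
    rintro _ ⟨z, rfl⟩
    rw [Scheme.Opens.range_ι]
    refine ⟨?_, ?_⟩
    · change pullback.fst (f ≫ σ) (g ≫ σ) (pullback.mapDesc f g σ z.1) ∈ ModPair.interior I
      rw [← Scheme.Hom.comp_apply, pullback.lift_fst, Category.comp_id]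
      exact z.2.1
    · change pullback.snd (f ≫ σ) (g ≫ σ) (pullback.mapDesc f g σ z.1) ∈ ModPair.interior J
      rw [← Scheme.Hom.comp_apply, pullback.lift_snd, Category.comp_id]
      exact z.2.2
  calc (ModPair.mprodι (f ≫ σ) (g ≫ σ) I J).ker
      = (ModPair.prodInterior (f ≫ σ) (g ≫ σ) I J).ι.ker := Scheme.IdealSheafData.ker_subschemeι _
    _ ≤ ((ModPair.prodInterior f g I J).ι ≫ pullback.mapDesc f g σ).ker := by
        rw [← IsOpenImmersion.lift_fac _ _ hr]
        exact Scheme.Hom.le_ker_comp _ _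
    _ = (ModPair.mprodι f g I J ≫ pullback.mapDesc f g σ).ker := by
        rw [Scheme.Hom.ker_comp, Scheme.Hom.ker_comp, Scheme.IdealSheafData.ker_subschemeι]

theorem ambProd_functorial {S₀ S₁ T X Y₁ Y₀ : Scheme.{u}} (J : T.IdealSheafData) (I : X.IdealSheafData)
    (f : X ⟶ S₁) (g : T ⟶ S₁) (σ : S₁ ⟶ S₀)
    (π₁ : Y₁ ⟶ ModPair.mprod f g I J) (K₁ : Y₁.IdealSheafData) (hY₁ : ModPair.IsAmbProd f g I J π₁ K₁)
    (π₀ : Y₀ ⟶ ModPair.mprod (f ≫ σ) (g ≫ σ) I J) (K₀ : Y₀.IdealSheafData)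
    (hY₀ : ModPair.IsAmbProd (f ≫ σ) (g ≫ σ) I J π₀ K₀) :
    (∃! φ : Y₁ ⟶ Y₀, φ ≫ π₀ ≫ ModPair.mprodι (f ≫ σ) (g ≫ σ) I J =
        π₁ ≫ ModPair.mprodι f g I J ≫ pullback.mapDesc f g σ) ∧
      ∀ φ : Y₁ ⟶ Y₀, φ ≫ π₀ ≫ ModPair.mprodι (f ≫ σ) (g ≫ σ) I J =
          π₁ ≫ ModPair.mprodι f g I J ≫ pullback.mapDesc f g σ →
        ModPair.IsMinimal K₁ K₀ φ := by
  obtain ⟨m, hm⟩ := exists_mprodDesc I J f g σ
  have hcd : (ModPair.prodCentre (f ≫ σ) (g ≫ σ) I J).comap m = ModPair.prodCentre f g I J :=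
    comap_prodCentre m (by rw [reassoc_of% hm, pullback.lift_fst, Category.comp_id])
      (by rw [reassoc_of% hm, pullback.lift_snd, Category.comp_id])
  have hc : BlowUp.IsEffCartierIdeal ((ModPair.prodCentre (f ≫ σ) (g ≫ σ) I J).comap (π₁ ≫ m)) := by
    rw [Scheme.IdealSheafData.comap_comp, hcd]
    exact hY₁.1.1
  obtain ⟨φ, hφ, huniq⟩ := hY₀.1.2 Y₁ (π₁ ≫ m) hc
  have hiff : ∀ ψ : Y₁ ⟶ Y₀, ψ ≫ π₀ ≫ ModPair.mprodι (f ≫ σ) (g ≫ σ) I J =
      π₁ ≫ ModPair.mprodι f g I J ≫ pullback.mapDesc f g σ → ψ ≫ π₀ = π₁ ≫ m := fun ψ h => by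
    rw [← cancel_mono (ModPair.mprodι (f ≫ σ) (g ≫ σ) I J), Category.assoc, Category.assoc, hm]
    exact h
  refine ⟨⟨φ, ?_, fun ψ h => huniq ψ (hiff ψ h)⟩, fun ψ h => ?_⟩
  · change φ ≫ π₀ ≫ _ = _
    rw [← Category.assoc, hφ, Category.assoc, hm]
  · have hψ := hiff ψ h
    refine mul_cancel hY₁.1.1 ?_
    have e : ((ModPair.prodCentre (f ≫ σ) (g ≫ σ) I J).comap π₀).comap ψ = (ModPair.prodCentre f g I J).comap π₁ := by
      rw [← Scheme.IdealSheafData.comap_comp, hψ, Scheme.IdealSheafData.comap_comp, hcd]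
    rw [hY₁.2, ← e, ← BlowUpLib.comap_mul ψ, hY₀.2, BlowUpLib.comap_mul ψ]
    simp only [← Scheme.IdealSheafData.comap_comp, Category.assoc, reassoc_of% hψ, reassoc_of% hm,
      pullback.lift_fst, pullback.lift_snd, Category.comp_id]

open ModPair

/-- An ambient product is a fibre product in the localization at admissible blow-ups. -/
theorem isPullback_ambProd (P T X : Pair.{u}) (f : X ⟶ P) (g : T ⟶ P)
    {Y : Scheme.{u}} (π : Y ⟶ ModPair.mprod f.hom g.hom X.mod T.mod) (K : Y.IdealSheafData)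
    (hY : ModPair.IsAmbProd f.hom g.hom X.mod T.mod π K) (hK : BlowUp.IsEffCartierIdeal K)
    (hX : ModPair.IsAmbient K X.mod (π ≫ ModPair.mprodι f.hom g.hom X.mod T.mod ≫ pullback.fst f.hom g.hom))
    (hT : ModPair.IsAmbient K T.mod (π ≫ ModPair.mprodι f.hom g.hom X.mod T.mod ≫ pullback.snd f.hom g.hom)) :
    IsPullback
      ((Pair.admBlowup.{u}).Q.map
        (Pair.Hom.mk (P := Pair.mk Y K hK) (Q := T)
          (π ≫ ModPair.mprodι f.hom g.hom X.mod T.mod ≫ pullback.snd f.hom g.hom) hT))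
      ((Pair.admBlowup.{u}).Q.map
        (Pair.Hom.mk (P := Pair.mk Y K hK) (Q := X)
          (π ≫ ModPair.mprodι f.hom g.hom X.mod T.mod ≫ pullback.fst f.hom g.hom) hX))
      ((Pair.admBlowup.{u}).Q.map g) ((Pair.admBlowup.{u}).Q.map f) := by
  haveI := hasRightCalculus.{u}
  obtain ⟨hb, hKE⟩ := hY
  refine (LocLimits.isPullback_map (Pair.admBlowup.{u}).Q Pair.admBlowup
    (p₁ := Pair.Hom.mk (P := Pair.mk Y K hK) (Q := X) _ hX) (p₂ := Pair.Hom.mk (P := Pair.mk Y K hK) (Q := T) _ hT)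
    (f := f) (g := g) ?_ ?_ ?_).flip
  · refine Pair.Hom.ext ?_
    change (π ≫ _ ≫ pullback.fst f.hom g.hom) ≫ f.hom = (π ≫ _ ≫ pullback.snd f.hom g.hom) ≫ g.hom
    simp only [Category.assoc, pullback.condition]
  · intro Z a b hab
    let l : Z.total ⟶ pullback f.hom g.hom := pullback.lift a.hom b.hom congr($(hab).hom)
    have hla : l ≫ pullback.fst f.hom g.hom = a.hom := pullback.lift_fst _ _ _
    have hlb : l ≫ pullback.snd f.hom g.hom = b.hom := pullback.lift_snd _ _ _
    have hr : Set.range ((interior Z.mod).ι ≫ l) ⊆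
        Set.range (prodInterior f.hom g.hom X.mod T.mod).ι := by
      rintro _ ⟨z, rfl⟩
      rw [Scheme.Opens.range_ι]
      refine ⟨?_, ?_⟩
      · change pullback.fst f.hom g.hom (l z.1) ∈ interior X.mod
        rw [← Scheme.Hom.comp_apply, hla]
        exact interior_le a.cond z.2
      · change pullback.snd f.hom g.hom (l z.1) ∈ interior T.mod
        rw [← Scheme.Hom.comp_apply, hlb]
        exact interior_le b.cond z.2
    have := isDominant_interior Z.isEffCartier
    have hk : (mprodι f.hom g.hom X.mod T.mod).ker ≤ l.ker := by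
      rw [← ker_comp_dominant (interior Z.mod).ι l, ← IsOpenImmersion.lift_fac _ _ hr]
      exact (le_of_eq (Scheme.IdealSheafData.ker_subschemeι _)).trans (Scheme.Hom.le_ker_comp _ _)
    let n := IsClosedImmersion.lift (mprodι f.hom g.hom X.mod T.mod) l hk
    have hn : n ≫ mprodι f.hom g.hom X.mod T.mod = l := IsClosedImmersion.lift_fac _ _ _
    have hCn := comap_prodCentre n (I := X.mod) (J := T.mod) (a := a.hom) (b := b.hom)
      (by rw [reassoc_of% hn, hla]) (by rw [reassoc_of% hn, hlb])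
    obtain ⟨Z₁, σ, hσ⟩ := BlowUpLib.exists_isBlowUp _ ((prodCentre f.hom g.hom X.mod T.mod).comap n)
    have hσp : IsProper σ := BlowUpLib.isProper_of_isBlowUp hσ (by
      rw [hCn]
      exact fg_sup (fg_comap_of_isEffCartier X.isEffCartier _) (fg_comap_of_isEffCartier T.isEffCartier _))
    let Z' : Pair.{u} := ⟨Z₁, Z.mod.comap σ, BlowUpLib.isEffCartier_comap hσ Z.isEffCartier⟩
    have hσi : IsIso (σ ∣_ interior Z.mod) := by
      refine EffCartLib.isIso_off_center _ σ hσ _ fun y hy hs => ?_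
      rw [hCn, Scheme.IdealSheafData.support_sup] at hs
      exact interior_le a.cond hy (by simpa [Scheme.IdealSheafData.support_comap] using hs.1)
    obtain ⟨k, hk', -⟩ := hb.2 _ (σ ≫ n) (by rw [Scheme.IdealSheafData.comap_comp]; exact hσ.1)
    have hk₁ : k ≫ π ≫ mprodι f.hom g.hom X.mod T.mod ≫ pullback.fst f.hom g.hom = σ ≫ a.hom := by
      rw [reassoc_of% hk', reassoc_of% hn, hla]
    have hk₂ : k ≫ π ≫ mprodι f.hom g.hom X.mod T.mod ≫ pullback.snd f.hom g.hom = σ ≫ b.hom := by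
      rw [reassoc_of% hk', reassoc_of% hn, hlb]
    have hkE : ((prodCentre f.hom g.hom X.mod T.mod).comap π).comap k =
        ((prodCentre f.hom g.hom X.mod T.mod).comap n).comap σ := by
      rw [← Scheme.IdealSheafData.comap_comp, ← Scheme.IdealSheafData.comap_comp, hk']
    have hamb : Z.mod.comap σ ≤ K.comap k := by
      refine le_of_mul_le (E := ((prodCentre f.hom g.hom X.mod T.mod).comap π).comap k) (hkE ▸ hσ.1) ?_
      rw [← BlowUpLib.comap_mul, hKE, hkE, hCn, BlowUpLib.comap_mul]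
      simp only [← Scheme.IdealSheafData.comap_comp, Category.assoc, hk₁, hk₂]
      rw [Scheme.IdealSheafData.comap_sup, Scheme.IdealSheafData.mul_inf, sup_le_iff]
      have hMa : Z.mod.comap σ ≤ X.mod.comap (σ ≫ a.hom) := by
        rw [Scheme.IdealSheafData.comap_comp]; exact Scheme.IdealSheafData.comap_mono σ a.cond
      have hMb : Z.mod.comap σ ≤ T.mod.comap (σ ≫ b.hom) := by
        rw [Scheme.IdealSheafData.comap_comp]; exact Scheme.IdealSheafData.comap_mono σ b.cond
      simp only [← Scheme.IdealSheafData.comap_comp]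
      constructor
      · rw [mul_comm (X.mod.comap (σ ≫ a.hom))]
        intro U
        simp only [Scheme.IdealSheafData.ideal_mul, Pi.mul_apply]
        exact Ideal.mul_mono_left (hMb U)
      · intro U
        simp only [Scheme.IdealSheafData.ideal_mul, Pi.mul_apply]
        exact Ideal.mul_mono_left (hMa U)
    exact ⟨Z', ⟨σ, le_rfl⟩, ⟨rfl, hσp, hσi⟩, ⟨k, hamb⟩, Pair.Hom.ext hk₁, Pair.Hom.ext hk₂⟩
  · intro Z k k' h₁ h₂
    have e₁ : k.hom ≫ π ≫ mprodι f.hom g.hom X.mod T.mod ≫ pullback.fst f.hom g.hom =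
        k'.hom ≫ π ≫ mprodι f.hom g.hom X.mod T.mod ≫ pullback.fst f.hom g.hom := congr($(h₁).hom)
    have e₂ : k.hom ≫ π ≫ mprodι f.hom g.hom X.mod T.mod ≫ pullback.snd f.hom g.hom =
        k'.hom ≫ π ≫ mprodι f.hom g.hom X.mod T.mod ≫ pullback.snd f.hom g.hom := congr($(h₂).hom)
    have e : k.hom ≫ π = k'.hom ≫ π := by
      rw [← cancel_mono (mprodι f.hom g.hom X.mod T.mod)]
      exact pullback.hom_ext (by simpa only [Category.assoc] using e₁) (by simpa only [Category.assoc] using e₂)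
    refine Pair.Hom.ext (BlowUpLib.hom_ext hb (k.hom ≫ π) ?_ rfl e.symm)
    rw [Scheme.IdealSheafData.comap_comp]
    refine isEffCartier_comap_of_le Z.isEffCartier hb.1 fun z hz => ?_
    have h1 : z ∈ k.hom ⁻¹ᵁ interior K := interior_le k.cond hz
    intro hs
    have h2 : k.hom z ∈ interior ((prodCentre f.hom g.hom X.mod T.mod).comap π) := by
      intro hs
      have h3 : k.hom z ∈ (K * (prodCentre f.hom g.hom X.mod T.mod).comap π).support := by
        rw [Scheme.IdealSheafData.support_mul]; exact Or.inr hs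
      rw [hKE, Scheme.IdealSheafData.support_mul] at h3
      rcases h3 with h3 | h3
      · exact h1 (Scheme.IdealSheafData.support_antitone
          ((hX : K ≤ _).trans_eq (Scheme.IdealSheafData.comap_comp _ _ _)) h3)
      · exact h1 (Scheme.IdealSheafData.support_antitone
          ((hT : K ≤ _).trans_eq (Scheme.IdealSheafData.comap_comp _ _ _)) h3)
    exact h2 hs

end ModPairLib
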