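import Groth.Agent.ModPairLib.Extra
import Groth.Agent.ModPairLib.AmbientStage
import Groth.Agent.S0591
import Groth.Agent.BlowUpLib.Exists
import Groth.Agent.BlowUpLib.Props
import Groth.Agent.NoethApproxLib.Systems
import Groth.Agent.NoethApproxLib.Restrict
import Groth.Agent.RGFlatLib.Dominate

/-!
# Pairs over a base as limits of pairs of finite type
-/

set_option autoImplicit false
set_option linter.style.haveILetI false
set_option linter.unusedSectionVars false
set_option backward.isDefEq.respectTransparency false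
set_option backward.isDefEq.respectTransparency.types false
set_option maxHeartbeats 1000000

universe u

open CategoryTheory CategoryTheory.Limits AlgebraicGeometry TopologicalSpace
open RichLib.LimBC

noncomputable section

namespace ModPairLib

variable {K : Type u} [SmallCategory K] [IsCofiltered K] (D : K ⥤ Scheme.{u}) (c : Cone D) (hc : IsLimit c)
  [∀ (i j : K) (t : i ⟶ j), IsAffineHom (D.map t)]

include hc in
/-- The ideal of a morphism to a limit is generated by the ideals at the stages. -/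
theorem ker_le_of_stages [∀ i, CompactSpace (D.obj i)] [∀ i, QuasiSeparatedSpace (D.obj i)] {X T : Scheme.{u}} (q : X ⟶ c.pt) (m : T ⟶ c.pt) [QuasiCompact q]
    (h : ∀ k, (q ≫ c.π.app k).ker ≤ (m ≫ c.π.app k).ker) : q.ker ≤ m.ker := by
  haveI : ∀ {i j : K} (f : i ⟶ j), IsAffineHom (D.map f) := fun f => inferInstance
  refine Scheme.IdealSheafData.le_ofIdeals_iff.mpr fun U a ha ↦ ?_
  obtain ⟨j, O, hO, hOU⟩ := exists_isAffineOpen_preimage_eq D c hc U.1 U.2
  haveI hA : ∀ k, IsAffine ((opensDiagram D j O).obj k) := fun k ↦ hO.preimage (D.map k.hom)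
  have hU' : (U.1 : c.pt.Opens) = c.π.app j ⁻¹ᵁ O := hOU.symm
  obtain ⟨U, hU⟩ := U
  subst hU'
  obtain ⟨k, b, hb⟩ := exists_appTop_π_eq_of_isAffine_of_isLimit (opensDiagram D j O)
    (opensCone D c j O) (isLimitOpensCone D c hc j O) ((c.π.app j ⁻¹ᵁ O).topIso.inv a)
  let O' : (D.obj k.left).Opens := D.map k.hom ⁻¹ᵁ O
  have hle : c.π.app j ⁻¹ᵁ O ≤ c.π.app k.left ⁻¹ᵁ O' := by
    show _ ≤ c.π.app k.left ⁻¹ᵁ (D.map k.hom ⁻¹ᵁ O)
    rw [← Scheme.Hom.comp_preimage, c.w]
  have hge : c.π.app k.left ⁻¹ᵁ O' ≤ c.π.app j ⁻¹ᵁ O := by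
    show c.π.app k.left ⁻¹ᵁ (D.map k.hom ⁻¹ᵁ O) ≤ _
    rw [← Scheme.Hom.comp_preimage, c.w]
  let b' : Γ(D.obj k.left, O') := O'.topIso.hom b
  have hb' : (c.π.app k.left).appLE O' _ hle b' = a := by
    refine (ConcreteCategory.bijective_of_isIso (C := CommRingCat)
      (c.π.app j ⁻¹ᵁ O).topIso.inv).1 ?_
    rw [← hb]
    have e : ((opensCone D c j O).π.app k).appTop = O'.topIso.hom ≫
        (c.π.app k.left).appLE O' _ hle ≫ (c.π.app j ⁻¹ᵁ O).topIso.inv :=
      Scheme.Hom.resLE_app_top _ _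
    rw [e]
    rfl
  haveI := isAffineHom_π_app D c hc k.left
  have key : ∀ {Z : Scheme.{u}} (n : Z ⟶ c.pt) (h1 : n ⁻¹ᵁ (c.π.app j ⁻¹ᵁ O) ≤ (n ≫ c.π.app k.left) ⁻¹ᵁ O'),
      (n ≫ c.π.app k.left).appLE O' _ h1 b' = n.app _ a := fun n h1 => by
    conv_rhs => rw [← hb']
    show _ = ((c.π.app k.left).appLE O' _ hle ≫ n.app _) b'
    rw [Scheme.Hom.app_eq_appLE n, Scheme.Hom.appLE_comp_appLE]
  have hle' : ∀ {Z : Scheme.{u}} (n : Z ⟶ c.pt),
      n ⁻¹ᵁ (c.π.app j ⁻¹ᵁ O) ≤ (n ≫ c.π.app k.left) ⁻¹ᵁ O' := fun n => by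
    rw [Scheme.Hom.comp_preimage]
    exact Scheme.Hom.preimage_mono n hle
  have hge' : (q ≫ c.π.app k.left) ⁻¹ᵁ O' ≤ q ⁻¹ᵁ (c.π.app j ⁻¹ᵁ O) := by
    rw [Scheme.Hom.comp_preimage]
    exact Scheme.Hom.preimage_mono q hge
  rw [Scheme.Hom.ker_apply, RingHom.mem_ker] at ha
  have hmem : b' ∈ (q ≫ c.π.app k.left).ker.ideal ⟨O', hO.preimage (D.map k.hom)⟩ := by
    rw [Scheme.Hom.ker_apply, RingHom.mem_ker, Scheme.Hom.app_eq_appLE,
      ← Scheme.Hom.appLE_map _ (hle' q) (homOfLE hge').op, CommRingCat.comp_apply, key q (hle' q), ha, map_zero]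
  have h2 := (m ≫ c.π.app k.left).ideal_ker_le _ (h k.left _ hmem)
  rw [RingHom.mem_ker] at h2 ⊢
  rw [← key m (hle' m), Scheme.Hom.appLE, CommRingCat.comp_apply, h2, map_zero]

variable {X : Scheme.{u}} (q : X ⟶ c.pt)

/-- The images at the stages. -/
def imgSys : K ⥤ Scheme.{u} where
  obj k := (q ≫ c.π.app k).image
  map {a b} t := IsClosedImmersion.lift (q ≫ c.π.app b).imageι ((q ≫ c.π.app a).imageι ≫ D.map t) (by
    rw [Scheme.Hom.ker_comp]
    show (q ≫ c.π.app b).ker.subschemeι.ker ≤ _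
    rw [Scheme.IdealSheafData.ker_subschemeι]
    show _ ≤ (q ≫ c.π.app a).ker.subschemeι.ker.map _
    rw [Scheme.IdealSheafData.ker_subschemeι, ← Scheme.Hom.ker_comp, Category.assoc, c.w])
  map_id k := by
    rw [← cancel_mono (q ≫ c.π.app k).imageι, IsClosedImmersion.lift_fac, D.map_id, Category.comp_id,
      Category.id_comp]
  map_comp {a b d} t t' := by
    rw [← cancel_mono (q ≫ c.π.app d).imageι]
    simp only [IsClosedImmersion.lift_fac, IsClosedImmersion.lift_fac_assoc, Category.assoc, D.map_comp]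

theorem imgSys_ι {a b : K} (t : a ⟶ b) :
    (imgSys D c q).map t ≫ (q ≫ c.π.app b).imageι = (q ≫ c.π.app a).imageι ≫ D.map t :=
  IsClosedImmersion.lift_fac _ _ _

theorem toImage_imgSys {a b : K} (t : a ⟶ b) :
    (q ≫ c.π.app a).toImage ≫ (imgSys D c q).map t = (q ≫ c.π.app b).toImage := by
  rw [← cancel_mono (q ≫ c.π.app b).imageι, Category.assoc, imgSys_ι, Scheme.Hom.toImage_imageι_assoc,
    Scheme.Hom.toImage_imageι, Category.assoc, c.w]

/-- The cone of images. -/
def imgCone : Cone (imgSys D c q) where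
  pt := X
  π :=
    { app := fun k => (q ≫ c.π.app k).toImage
      naturality := fun a b t => (Category.id_comp _).trans (toImage_imgSys D c q t).symm }

include hc in
theorem nonempty_isLimit_imgCone [∀ i, CompactSpace (D.obj i)] [∀ i, QuasiSeparatedSpace (D.obj i)] [IsClosedImmersion q] : Nonempty (IsLimit (imgCone D c q)) := by
  let s' : Cone (imgSys D c q) → Cone D := fun s =>
    { pt := s.pt
      π :=
        { app := fun k => s.π.app k ≫ (q ≫ c.π.app k).imageι
          naturality := fun a b t => by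
            refine (Category.id_comp _).trans ?_
            rw [Category.assoc, ← imgSys_ι D c q t, ← Category.assoc, s.w] } }
  have hk : ∀ s, q.ker ≤ (hc.lift (s' s)).ker := fun s =>
    ker_le_of_stages D c hc q _ fun k => by
      rw [hc.fac]
      refine le_trans ?_ (Scheme.Hom.le_ker_comp _ _)
      exact le_of_eq (Scheme.IdealSheafData.ker_subschemeι _).symm
  refine ⟨⟨fun s => IsClosedImmersion.lift q (hc.lift (s' s)) (hk s), fun s k => ?_, fun s m hm => ?_⟩⟩
  · rw [← cancel_mono (q ≫ c.π.app k).imageι]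
    show (_ ≫ (q ≫ c.π.app k).toImage) ≫ _ = _
    rw [Category.assoc, Scheme.Hom.toImage_imageι, IsClosedImmersion.lift_fac_assoc, hc.fac]
  · rw [← cancel_mono q, IsClosedImmersion.lift_fac]
    refine hc.uniq (s' s) _ fun k => ?_
    show _ = s.π.app k ≫ _
    rw [← hm k, Category.assoc, Category.assoc]
    exact congrArg (m ≫ ·) (Scheme.Hom.toImage_imageι _).symm

include hc in
/-- An ideal sheaf of finite type on the limit comes from a stage. -/
theorem exists_descend_ideal [∀ i, CompactSpace (D.obj i)] [∀ i, QuasiSeparatedSpace (D.obj i)]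
    (IX : c.pt.IdealSheafData) (hIX : BlowUp.IsFiniteTypeIdeal IX) :
    ∃ (j : K) (J : (D.obj j).IdealSheafData), BlowUp.IsFiniteTypeIdeal J ∧ J.comap (c.π.app j) = IX := by
  haveI : LocallyOfFinitePresentation IX.subschemeι := SmoothStrat.lfp_subschemeι IX hIX
  obtain ⟨i, Xi, fi, g, hfi, hfiq, hfis, hg⟩ := Groth.Agent.S0591.result D c hc _ IX.subschemeι
  haveI := hfi
  haveI := hfiq
  haveI := hfis
  let A := ofStage D c hc i
  have hlim : AtLim A fi @IsClosedImmersion := by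
    show IsClosedImmersion (pullback.snd fi (c.π.app i))
    rw [← hg.isoPullback_inv_snd]
    infer_instance
  obtain ⟨φ, hφ⟩ := exists_at_isClosedImmersion A fi hlim
  haveI : IsClosedImmersion (pullback.snd fi (D.map φ.hom)) := hφ
  let w := pullback.snd fi (D.map φ.hom)
  haveI : LocallyOfFinitePresentation w := inferInstance
  refine ⟨φ.left, w.ker, ?_, ?_⟩
  · exact SmoothStrat.fg_ker w
  · have sq : IsPullback (pullback.lift g (IX.subschemeι ≫ c.π.app φ.left) (by rw [Category.assoc, c.w, hg.w]))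
        IX.subschemeι w (c.π.app φ.left) := by
      refine IsPullback.of_right ?_ (pullback.lift_snd _ _ _) (IsPullback.of_hasPullback _ _)
      rw [pullback.lift_fst, c.w]
      exact hg
    refine (Scheme.IdealSheafData.ker_fst_of_isClosedImmersion w (c.π.app φ.left)).symm.trans ?_
    rw [← sq.flip.isoPullback_inv_fst, Scheme.Hom.ker_comp_of_isIso, Scheme.IdealSheafData.ker_subschemeι]

/-- Quasi-compact separated pairs are limits of pairs of finite type. -/
theorem exists_isLimit_finiteType_pairs {X S : Scheme.{u}} [CompactSpace S] [QuasiSeparatedSpace S]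
    (IS : S.IdealSheafData) (hS : BlowUp.IsEffCartierIdeal IS)
    (IX : X.IdealSheafData) (hX : BlowUp.IsEffCartierIdeal IX)
    (f : X ⟶ S) [QuasiCompact f] [IsSeparated f] (hf : ModPair.IsAmbient IX IS f) :
    ∃ (I : Type u) (_ : SmallCategory I) (_ : IsCofiltered I) (D : I ⥤ Over S) (c : Cone D)
      (_ : IsLimit c) (e : c.pt ≅ Over.mk f) (J : ∀ i, (D.obj i).left.IdealSheafData),
      (∀ i, BlowUp.IsEffCartierIdeal (J i)) ∧
      (∀ i, LocallyOfFiniteType (D.obj i).hom ∧ QuasiCompact (D.obj i).hom ∧ IsSeparated (D.obj i).hom) ∧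
      (∀ i, ModPair.IsAmbient (J i) IS (D.obj i).hom) ∧
      (∀ (i j : I) (t : i ⟶ j), IsAffineHom (D.map t).left ∧ ModPair.IsMinimal (J i) (J j) (D.map t).left ∧
          IsSchemeTheoreticallyDominant (D.map t).left) ∧
      (∀ i, IX = (J i).comap (e.inv.left ≫ (c.π.app i).left)) := by
  haveI : CompactSpace X := QuasiCompact.compactSpace_of_compactSpace f
  haveI : QuasiSeparatedSpace X := quasiSeparatedSpace_of_quasiSeparated f
  obtain ⟨P⟩ := NoethApproxLib.exists_system f
  obtain ⟨i₁, hi₁⟩ := P.exists_isSeparated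
  let D := P.D ⋙ Over.forget S
  let c := P.cone
  let hc : IsLimit c := P.isLimitCone
  haveI : ∀ (i j : P.Jᵒᵖ) (t : i ⟶ j), IsAffineHom (D.map t) := fun i j t => P.affine t
  haveI : ∀ i, CompactSpace (D.obj i) := fun i => P.compactSpace i
  haveI : ∀ i, QuasiSeparatedSpace (D.obj i) := fun i => P.quasiSeparatedSpace i
  obtain ⟨i₂, J₂, hJ₂, hJ₂X⟩ := exists_descend_ideal D c hc IX (fg_of_isEffCartier hX)
  haveI : LocallyOfFinitePresentation J₂.subschemeι := SmoothStrat.lfp_subschemeι _ hJ₂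
  obtain ⟨j, t, ht⟩ := exists_comap_le D c hc i₂ J₂ (IS.comap (P.D.obj i₂).hom) (by
    rw [← Scheme.IdealSheafData.comap_comp, hJ₂X]
    show IX ≤ IS.comap (P.proj i₂ ≫ _)
    rw [P.proj_hom]
    exact hf)
  obtain ⟨k₀, u₁, u₂, -⟩ := IsCofilteredOrEmpty.cone_objs i₁ j
  let J := J₂.comap (D.map (u₂ ≫ t))
  have hJX : J.comap (c.π.app k₀) = IX := by
    rw [← Scheme.IdealSheafData.comap_comp, c.w, hJ₂X]
  have hJS : J ≤ IS.comap (P.D.obj k₀).hom := by
    have := Scheme.IdealSheafData.comap_mono (D.map u₂) ht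
    beta_reduce at this
    rw [← Scheme.IdealSheafData.comap_comp, ← Scheme.IdealSheafData.comap_comp,
      ← Scheme.IdealSheafData.comap_comp, ← D.map_comp] at this
    refine this.trans_eq (congrArg IS.comap ?_)
    exact Over.w (P.D.map (u₂ ≫ t))
  obtain ⟨B, b, hb⟩ := BlowUpLib.exists_isBlowUp _ J
  haveI : IsProper b := BlowUpLib.isProper_of_isBlowUp hb (RGFlatLib.isFiniteTypeIdeal_comap hJ₂ _)
  obtain ⟨a, ha, -⟩ := hb.2 X (c.π.app k₀) (hJX.symm ▸ hX)
  let A := ofStage D c hc k₀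
  let Z := pb A b
  let q : X ⟶ pullback b (c.π.app k₀) := pullback.lift a (𝟙 X) (by rw [ha]; exact (Category.id_comp _).symm)
  haveI : IsClosedImmersion q := by
    haveI : IsClosedImmersion (q ≫ pullback.snd b (c.π.app k₀)) := by
      rw [pullback.lift_snd]; exact (inferInstance : IsClosedImmersion (𝟙 X))
    exact IsClosedImmersion.of_comp q (pullback.snd b (c.π.app k₀))
  let q' : X ⟶ Z.c.pt := q
  haveI : IsClosedImmersion q' := inferInstanceAs (IsClosedImmersion q)
  haveI : ∀ (i j : Over k₀) (f : i ⟶ j), IsAffineHom (Z.D.map f) := fun i j f => Z.affine_map f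
  haveI : ∀ {i j : Over k₀} (f : i ⟶ j), IsAffineHom (Z.D.map f) := fun f => Z.affine_map f
  haveI := fun φ : Over k₀ => isAffineHom_π_app Z.D Z.c Z.hc φ
  haveI := IsCofiltered.isConnected (Over k₀)
  haveI : CompactSpace B := QuasiCompact.compactSpace_of_compactSpace b
  haveI : QuasiSeparatedSpace B := quasiSeparatedSpace_of_quasiSeparated b
  haveI : ∀ φ, CompactSpace (Z.D.obj φ) := fun φ => Z.compactSpace_obj φ
  haveI : ∀ φ, QuasiSeparatedSpace (Z.D.obj φ) := fun φ => Z.quasiSeparatedSpace_obj φ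
  obtain ⟨hl⟩ := nonempty_isLimit_imgCone Z.D Z.c Z.hc q'
  let h : ∀ φ : Over k₀, (imgSys Z.D Z.c q').obj φ ⟶ S := fun φ =>
    (q' ≫ Z.c.π.app φ).imageι ≫ pullback.snd b (D.map φ.hom) ≫ (P.D.obj φ.left).hom
  let m : ∀ φ : Over k₀, (imgSys Z.D Z.c q').obj φ ⟶ B := fun φ =>
    (q' ≫ Z.c.π.app φ).imageι ≫ pullback.fst b (D.map φ.hom)
  have hπb : ∀ φ : Over k₀, Z.c.π.app φ = pbπ A b φ := fun _ => rfl
  have hh : ∀ φ, (q' ≫ Z.c.π.app φ).toImage ≫ h φ = f := fun φ => by
    simp only [h, Scheme.Hom.toImage_imageι_assoc, Category.assoc, hπb]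
    show q ≫ pbπ A b φ ≫ pullback.snd b (A.t φ) ≫ _ = f
    rw [pbπ_snd_assoc]
    show q ≫ pullback.snd b (c.π.app k₀) ≫ P.proj φ.left ≫ _ = f
    rw [pullback.lift_snd_assoc, Category.id_comp, P.proj_hom]
  have hm : ∀ φ, (q' ≫ Z.c.π.app φ).toImage ≫ m φ = a := fun φ => by
    simp only [m, Scheme.Hom.toImage_imageι_assoc, Category.assoc, hπb]
    show q ≫ pbπ A b φ ≫ pullback.fst b (A.t φ) = a
    rw [pbπ_fst]
    exact pullback.lift_fst _ _ _
  have hmap : ∀ {φ ψ : Over k₀} (v : φ ⟶ ψ), (imgSys Z.D Z.c q').map v ≫ h ψ = h φ := fun {φ ψ} v => by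
    simp only [h]
    rw [← Category.assoc, imgSys_ι, Category.assoc]
    refine congrArg ((q' ≫ Z.c.π.app φ).imageι ≫ ·) ?_
    show pbMap A b v ≫ pullback.snd b (A.t ψ) ≫ _ = _
    rw [pbMap_snd_assoc]
    exact congrArg (pullback.snd _ _ ≫ ·) (Over.w (P.D.map v.left))
  have hmap' : ∀ {φ ψ : Over k₀} (v : φ ⟶ ψ), (imgSys Z.D Z.c q').map v ≫ m ψ = m φ := fun {φ ψ} v => by
    simp only [m]
    rw [← Category.assoc, imgSys_ι, Category.assoc]
    exact congrArg ((q' ≫ Z.c.π.app φ).imageι ≫ ·) (pbMap_fst A b v)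
  let DY : Over k₀ ⥤ Over S :=
    { obj := fun φ => Over.mk (h φ)
      map := fun v => Over.homMk ((imgSys Z.D Z.c q').map v) (hmap v)
      map_id := fun φ => Over.OverMorphism.ext ((imgSys Z.D Z.c q').map_id φ)
      map_comp := fun v w => Over.OverMorphism.ext ((imgSys Z.D Z.c q').map_comp v w) }
  let cY : Cone DY :=
    { pt := Over.mk f
      π :=
        { app := fun φ => Over.homMk (q' ≫ Z.c.π.app φ).toImage (hh φ)
          naturality := fun φ ψ v => Over.OverMorphism.ext ((imgCone Z.D Z.c q').π.naturality v) } }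
  refine ⟨Over k₀, inferInstance, inferInstance, DY, cY, isLimitOfReflects (Over.forget S) hl, Iso.refl _,
    fun φ => (J.comap b).comap (m φ), fun φ => ?_, fun φ => ?_, fun φ => ?_, fun φ ψ v => ⟨?_, ?_, ?_⟩,
    fun φ => ?_⟩
  · haveI : QuasiCompact (q' ≫ Z.c.π.app φ) := inferInstance
    haveI := isDominant_toImage (f := q' ≫ Z.c.π.app φ)
    haveI := isDominant_interior hX
    haveI := isAffineHom_interior hX
    refine isEffCartier_comap_of_dominant hb.1 (m φ)
      ((ModPair.interior IX).ι ≫ (q' ≫ Z.c.π.app φ).toImage) fun z => ?_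
    show ((q' ≫ Z.c.π.app φ).toImage ≫ m φ) ((ModPair.interior IX).ι z) ∈ ModPair.interior (J.comap b)
    rw [hm, interior_comap]
    show (a ≫ b) ((ModPair.interior IX).ι z) ∈ ModPair.interior J
    rw [ha]
    have := z.2
    exact (le_of_eq (by rw [← interior_comap, hJX] :
      ModPair.interior IX = c.π.app k₀ ⁻¹ᵁ ModPair.interior J)) this
  · haveI := hi₁ φ.left (φ.hom ≫ u₁)
    haveI := P.lfp φ.left
    haveI := P.qc φ.left
    exact ⟨inferInstanceAs (LocallyOfFiniteType (h φ)), inferInstanceAs (QuasiCompact (h φ)),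
      inferInstanceAs (IsSeparated (h φ))⟩
  · show (J.comap b).comap (m φ) ≤ IS.comap (h φ)
    rw [← Scheme.IdealSheafData.comap_comp]
    have e : m φ ≫ b = ((q' ≫ Z.c.π.app φ).imageι ≫ pullback.snd b (D.map φ.hom)) ≫ D.map φ.hom := by
      simp only [m, Category.assoc, pullback.condition]
    rw [e, Scheme.IdealSheafData.comap_comp]
    refine (Scheme.IdealSheafData.comap_mono _ (Scheme.IdealSheafData.comap_mono (D.map φ.hom) hJS)).trans_eq ?_
    beta_reduce
    rw [← Scheme.IdealSheafData.comap_comp, ← Scheme.IdealSheafData.comap_comp]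
    simp only [h, Category.assoc]
    exact congrArg IS.comap (congrArg (fun x => (q' ≫ Z.c.π.app φ).imageι ≫ pullback.snd b (D.map φ.hom) ≫ x)
      (Over.w (P.D.map φ.hom)))
  · show IsAffineHom ((imgSys Z.D Z.c q').map v)
    haveI : IsAffineHom ((imgSys Z.D Z.c q').map v ≫ (q' ≫ Z.c.π.app ψ).imageι) := by
      rw [imgSys_ι]; infer_instance
    exact IsAffineHom.of_comp _ (q' ≫ Z.c.π.app ψ).imageι
  · show (J.comap b).comap (m φ) = ((J.comap b).comap (m ψ)).comap ((imgSys Z.D Z.c q').map v)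
    rw [← hmap' v, Scheme.IdealSheafData.comap_comp]
  · show IsSchemeTheoreticallyDominant ((imgSys Z.D Z.c q').map v)
    haveI : QuasiCompact (q' ≫ Z.c.π.app ψ) := inferInstance
    haveI := isDominant_toImage (f := q' ≫ Z.c.π.app ψ)
    refine ⟨eq_bot_iff.2 ?_⟩
    rw [← (q' ≫ Z.c.π.app ψ).toImage.ker_eq_bot, ← toImage_imgSys Z.D Z.c q' v]
    exact Scheme.Hom.le_ker_comp _ _
  · show IX = ((J.comap b).comap (m φ)).comap (𝟙 X ≫ (q' ≫ Z.c.π.app φ).toImage)
    rw [Category.id_comp, ← Scheme.IdealSheafData.comap_comp, hm, ← Scheme.IdealSheafData.comap_comp, ha, hJX]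

end ModPairLib

end
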