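import Groth.Agent.ModPairLib.Extra2
import Groth.Agent.ModPairLib.DescendBlowup
import Groth.Agent.S18745
import Groth.Agent.SweepSix.AffLimit
import Groth.Agent.CatLib.LocLimits

/-!
# Morphisms in the localization at admissible blow-ups out of a limit
-/

set_option autoImplicit false
set_option linter.style.haveILetI false
set_option linter.unusedSectionVars false
set_option backward.isDefEq.respectTransparency false
set_option backward.isDefEq.respectTransparency.types false
set_option maxHeartbeats 1000000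

universe u

open CategoryTheory CategoryTheory.Limits AlgebraicGeometry TopologicalSpace
open ModPair

noncomputable section

namespace ModPairLib

/-- An admissible blow-up is an epimorphism of modulus pairs. -/
theorem eq_of_admBlowup_comp {W' W Y : Pair.{u}} {t : W' ⟶ W} (ht : Pair.admBlowup t) {a b : W ⟶ Y}
    (h : t ≫ a = t ≫ b) : a = b := by
  obtain ⟨-, hp, hiso⟩ := ht
  haveI := hp
  haveI := hiso
  refine Pair.Hom.ext ?_
  have h' : t.hom ≫ a.hom = t.hom ≫ b.hom := congr($(h).hom)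
  haveI := isAffineHom_interior W.isEffCartier
  haveI := isDominant_interior W.isEffCartier
  let U := interior W.mod
  let sec : (U : Scheme.{u}) ⟶ W'.total := inv (t.hom ∣_ U) ≫ (t.hom ⁻¹ᵁ U).ι
  have hsec : sec ≫ t.hom = U.ι := by
    rw [Category.assoc, ← morphismRestrict_ι, IsIso.inv_hom_id_assoc]
  let e := equalizer.ι a.hom b.hom
  let l := equalizer.lift t.hom h'
  have hl : l ≫ e = t.hom := equalizer.lift_ι _ _
  have hd : closure (Set.range t.hom) = Set.univ := by
    rw [← Set.univ_subset_iff]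
    refine le_trans (le_of_eq U.ι.denseRange.closure_range.symm) (closure_mono ?_)
    rw [← hsec]
    rintro _ ⟨z, rfl⟩
    exact ⟨sec z, rfl⟩
  have hr : Set.range t.hom = Set.univ := by
    rw [← hd, t.hom.isClosedMap.isClosed_range.closure_eq]
  haveI : IsClosedImmersion e := by
    refine IsClosedImmersion.of_isPreimmersion _ ?_
    have : Set.range e = Set.univ := by
      rw [← Set.univ_subset_iff, ← hr, ← hl]
      rintro _ ⟨z, rfl⟩
      exact ⟨l z, rfl⟩
    rw [this]
    exact isClosed_univ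
  have hbot : e.ker = ⊥ := by
    rw [eq_bot_iff, ← U.ι.ker_eq_bot, ← hsec, ← hl, ← Category.assoc]
    exact Scheme.Hom.le_ker_comp _ _
  haveI : IsIso e := IsClosedImmersion.isIso_of_ker_eq e (𝟙 _) e (Category.comp_id e)
    (hbot.trans (Scheme.Hom.ker_eq_bot_of_isIso _).symm)
  exact (cancel_epi e).1 (equalizer.condition a.hom b.hom)

/-- The localization functor at admissible blow-ups is faithful. -/
theorem map_injective {A B : Pair.{u}} {f g : A ⟶ B}
    (h : (Pair.admBlowup.{u}).Q.map f = (Pair.admBlowup.{u}).Q.map g) : f = g := by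
  haveI := hasRightCalculus.{u}
  obtain ⟨Z, t, ht, e⟩ := (MorphismProperty.map_eq_iff_precomp (Pair.admBlowup.{u}).Q Pair.admBlowup f g).mp h
  exact eq_of_admBlowup_comp ht e

theorem isMinimal_of_isIso {A B : Pair.{u}} (e : A ≅ B) : IsMinimal A.mod B.mod e.hom.hom := by
  refine le_antisymm e.hom.cond ?_
  refine (Scheme.IdealSheafData.comap_mono e.hom.hom e.inv.cond).trans_eq ?_
  beta_reduce
  rw [← Scheme.IdealSheafData.comap_comp, show e.hom.hom ≫ e.inv.hom = 𝟙 A.total from congr($(e.hom_inv_id).hom),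
    Scheme.IdealSheafData.comap_id]

theorem isIso_hom {A B : Pair.{u}} (e : A ≅ B) : IsIso e.hom.hom :=
  ⟨e.inv.hom, congr($(e.hom_inv_id).hom), congr($(e.inv_hom_id).hom)⟩

theorem admBlowup_of_iso {A B : Pair.{u}} (e : A ≅ B) : Pair.admBlowup e.hom :=
  haveI := isIso_hom e
  ⟨isMinimal_of_isIso e, inferInstanceAs (IsProper e.hom.hom), inferInstanceAs (IsIso (e.hom.hom ∣_ _))⟩

/-! ### Fibre products along minimal morphisms -/

/-- The fibre product of modulus pairs along a minimal morphism. -/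
def mp {X T S : Pair.{u}} (p : X ⟶ S) (f : T ⟶ S) (hf : IsMinimal T.mod S.mod f.hom) : Pair.{u} :=
  ⟨ModPair.mprod p.hom f.hom X.mod T.mod, X.mod.comap (ModPair.mprodι p.hom f.hom X.mod T.mod ≫ pullback.fst _ _),
    (mprod_universal S.mod T.mod X.mod T.isEffCartier X.isEffCartier p.hom p.cond f.hom hf).1⟩

def mpFst {X T S : Pair.{u}} (p : X ⟶ S) (f : T ⟶ S) (hf : IsMinimal T.mod S.mod f.hom) : mp p f hf ⟶ X :=
  ⟨ModPair.mprodι p.hom f.hom X.mod T.mod ≫ pullback.fst _ _, le_rfl⟩

def mpSnd {X T S : Pair.{u}} (p : X ⟶ S) (f : T ⟶ S) (hf : IsMinimal T.mod S.mod f.hom) : mp p f hf ⟶ T :=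
  ⟨ModPair.mprodι p.hom f.hom X.mod T.mod ≫ pullback.snd _ _,
    (mprod_universal S.mod T.mod X.mod T.isEffCartier X.isEffCartier p.hom p.cond f.hom hf).2.1⟩

theorem mp_isPullback {X T S : Pair.{u}} (p : X ⟶ S) (f : T ⟶ S) (hf : IsMinimal T.mod S.mod f.hom) :
    IsPullback (mpFst p f hf) (mpSnd p f hf) p f := by
  have w : mpFst p f hf ≫ p = mpSnd p f hf ≫ f := Pair.Hom.ext (by
    show (ModPair.mprodι p.hom f.hom X.mod T.mod ≫ pullback.fst _ _) ≫ p.hom =
      (ModPair.mprodι p.hom f.hom X.mod T.mod ≫ pullback.snd _ _) ≫ f.hom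
    rw [Category.assoc, Category.assoc, pullback.condition])
  refine ⟨⟨w⟩, ⟨PullbackCone.isLimitAux' _ fun s => ?_⟩⟩
  have h := ((mprod_universal S.mod T.mod X.mod T.isEffCartier X.isEffCartier p.hom p.cond f.hom hf).2.2
    s.pt.total s.pt.mod s.pt.isEffCartier s.snd.hom s.fst.hom s.snd.cond s.fst.cond
    congr($(s.condition).hom).symm).exists.choose_spec
  refine ⟨⟨_, h.2.2⟩, Pair.Hom.ext h.2.1, Pair.Hom.ext h.1, fun {m} hm₁ hm₂ => Pair.Hom.ext ?_⟩
  exact ((mprod_universal S.mod T.mod X.mod T.isEffCartier X.isEffCartier p.hom p.cond f.hom hf).2.2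
    s.pt.total s.pt.mod s.pt.isEffCartier s.snd.hom s.fst.hom s.snd.cond s.fst.cond
    congr($(s.condition).hom).symm).unique ⟨congr($(hm₂).hom), congr($(hm₁).hom), m.cond⟩ h

theorem hasPullbacksAlong {V X : Pair.{u}} {s : V ⟶ X} (hs : IsMinimal V.mod X.mod s.hom) :
    HasPullbacksAlong s := fun h => (mp_isPullback h s hs).hasPullback

theorem pullback_facts {X T S : Pair.{u}} (p : X ⟶ S) (f : T ⟶ S) (hf : IsMinimal T.mod S.mod f.hom)
    [HasPullback p f] :
    (pullback p f).mod = X.mod.comap (pullback.fst p f).hom ∧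
      ∃ ι : (pullback p f).total ⟶ pullback p.hom f.hom, IsClosedImmersion ι ∧
        ι ≫ pullback.fst _ _ = (pullback.fst p f).hom ∧ ι ≫ pullback.snd _ _ = (pullback.snd p f).hom := by
  let e := (mp_isPullback p f hf).isoPullback.symm
  have h₁ : e.hom ≫ mpFst p f hf = pullback.fst p f := by simp [e]
  have h₂ : e.hom ≫ mpSnd p f hf = pullback.snd p f := by simp [e]
  haveI := isIso_hom e
  refine ⟨?_, e.hom.hom ≫ ModPair.mprodι p.hom f.hom X.mod T.mod,
    inferInstanceAs (IsClosedImmersion (e.hom.hom ≫ ModPair.mprodι p.hom f.hom X.mod T.mod)), ?_, ?_⟩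
  · rw [← h₁]
    show _ = X.mod.comap (e.hom.hom ≫ (mpFst p f hf).hom)
    rw [Scheme.IdealSheafData.comap_comp]
    exact isMinimal_of_isIso e
  · rw [Category.assoc, ← h₁]; rfl
  · rw [Category.assoc, ← h₂]; rfl

theorem admBlowup_fst {X T S : Pair.{u}} (p : X ⟶ S) (f : T ⟶ S) (hp : IsMinimal X.mod S.mod p.hom)
    (hf : Pair.admBlowup f) [HasPullback p f] : Pair.admBlowup (pullback.fst p f) := by
  let e := (mp_isPullback f p hp).flip.isoPullback.symm
  have h₁ : e.hom ≫ mpSnd f p hp = pullback.fst p f := by simp [e]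
  rw [← h₁]
  refine MorphismProperty.comp_mem _ _ _ (admBlowup_of_iso e) ?_
  obtain ⟨-, h, -⟩ := admBlowup_mprod S.mod X.mod T.mod X.isEffCartier T.isEffCartier p.hom p.cond f.hom hf
  have hmod : (mp f p hp).mod = X.mod.comap (mpSnd f p hp).hom := by
    show T.mod.comap (mpFst f p hp).hom = _
    rw [(hf.1 : T.mod = _), (hp : X.mod = _), ← Scheme.IdealSheafData.comap_comp, ← Scheme.IdealSheafData.comap_comp]
    exact congrArg S.mod.comap congr($((mp_isPullback f p hp).w).hom)
  show IsAdmBlowup (mp f p hp).mod X.mod (mpSnd f p hp).hom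
  rw [hmod]
  exact h

/-- A scheme-theoretically dominant minimal morphism stays dominant on admissible blow-ups. -/
theorem dominant_of_admBlowup {W' W X' X : Pair.{u}} (a : W' ⟶ W) (b : X' ⟶ X) (p' : W' ⟶ X') (p : W ⟶ X)
    (sq : a ≫ p = p' ≫ b) (hb : IsMinimal X'.mod X.mod b.hom) (hp' : Pair.admBlowup p') (hp : Pair.admBlowup p)
    [IsSchemeTheoreticallyDominant b.hom] [QuasiCompact b.hom] : IsSchemeTheoreticallyDominant a.hom := by
  obtain ⟨hm, hpp, hiso⟩ := hp
  obtain ⟨-, hpp', hiso'⟩ := hp'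
  let U := interior X.mod
  let U' := b.hom ⁻¹ᵁ U
  have hU : interior X'.mod = U' := by rw [(hb : X'.mod = _), interior_comap]
  haveI : IsIso (p.hom ∣_ U) := hiso
  haveI : IsIso (p'.hom ∣_ U') := hU ▸ hiso'
  let u : (U : Scheme.{u}) ⟶ W.total := inv (p.hom ∣_ U) ≫ (p.hom ⁻¹ᵁ U).ι
  let u' : (U' : Scheme.{u}) ⟶ W'.total := inv (p'.hom ∣_ U') ≫ (p'.hom ⁻¹ᵁ U').ι
  have hu : u ≫ p.hom = U.ι := by
    rw [Category.assoc, ← morphismRestrict_ι, IsIso.inv_hom_id_assoc]
  have hu' : u' ≫ p'.hom = U'.ι := by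
    rw [Category.assoc, ← morphismRestrict_ι, IsIso.inv_hom_id_assoc]
  have sq' : a.hom ≫ p.hom = p'.hom ≫ b.hom := congr($(sq).hom)
  have e : u' ≫ a.hom = (b.hom ∣_ U) ≫ u := by
    refine eq_of_isIso_restrict (s := p.hom) (V := U) ?_ fun w => ?_
    · rw [Category.assoc, sq', reassoc_of% hu', Category.assoc, hu, morphismRestrict_ι]
    · rw [← Scheme.Hom.comp_apply, Category.assoc, sq', reassoc_of% hu', Scheme.Hom.comp_apply]
      exact w.2
  haveI : IsSchemeTheoreticallyDominant (b.hom ∣_ U) :=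
    IsSchemeTheoreticallyDominant.of_isPullback (isPullback_morphismRestrict b.hom U).flip
  haveI : IsSchemeTheoreticallyDominant u := by
    haveI : IsSchemeTheoreticallyDominant (p.hom ⁻¹ᵁ U).ι := by
      have := isDominant_interior W.isEffCartier
      rw [(hm : W.mod = _), interior_comap] at this
      exact this
    infer_instance
  refine ⟨eq_bot_iff.2 ?_⟩
  rw [← ((b.hom ∣_ U) ≫ u).ker_eq_bot, ← e]
  exact Scheme.Hom.le_ker_comp _ _

/-! ### Limits of modulus pairs -/

theorem isLimit_forget {K : Type u} [SmallCategory K] [IsCofiltered K] (F : K ⥤ Pair.{u})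
    [∀ (a b : K) (t : a ⟶ b), IsAffineHom ((F ⋙ Pair.forget).map t)]
    (hmin : ∀ (a b : K) (t : a ⟶ b), IsMinimal (F.obj a).mod (F.obj b).mod (F.map t).hom)
    (c : Cone F) (hc : IsLimit c) :
    Nonempty (IsLimit (Pair.forget.mapCone c)) ∧ ∀ k, c.pt.mod = (F.obj k).mod.comap (c.π.app k).hom := by
  obtain ⟨d, ⟨hd⟩⟩ := SweepSix.AffLimit.exists_isLimit (F ⋙ Pair.forget)
  obtain ⟨k₀⟩ := IsCofiltered.nonempty (C := K)
  have hind : ∀ k, (F.obj k₀).mod.comap (d.π.app k₀) = (F.obj k).mod.comap (d.π.app k) := fun k => by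
    obtain ⟨l, f, g, -⟩ := IsCofilteredOrEmpty.cone_objs k₀ k
    rw [← d.w f, ← d.w g]
    show (F.obj k₀).mod.comap (d.π.app l ≫ (F.map f).hom) = (F.obj k).mod.comap (d.π.app l ≫ (F.map g).hom)
    rw [Scheme.IdealSheafData.comap_comp, Scheme.IdealSheafData.comap_comp, ← (hmin l k₀ f : _ = _),
      ← (hmin l k g : _ = _)]
  let P : Pair.{u} := ⟨d.pt, (F.obj k₀).mod.comap (d.π.app k₀),
    limit_cartier (F ⋙ Pair.forget) d hd (fun k => (F.obj k).mod) (fun k => (F.obj k).isEffCartier)
      hmin k₀⟩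
  let d' : Cone F :=
    { pt := P
      π := { app := fun k => ⟨d.π.app k, (hind k).le⟩
             naturality := fun a b f => Pair.Hom.ext (d.π.naturality f) } }
  let hd' : IsLimit d' :=
    { lift := fun s => ⟨hd.lift (Pair.forget.mapCone s), by
        show s.pt.mod ≤ ((F.obj k₀).mod.comap (d.π.app k₀)).comap _
        rw [← Scheme.IdealSheafData.comap_comp, hd.fac]
        exact (s.π.app k₀).cond⟩
      fac := fun s k => Pair.Hom.ext (hd.fac (Pair.forget.mapCone s) k)
      uniq := fun s m hm => Pair.Hom.ext (hd.uniq (Pair.forget.mapCone s) m.hom fun k => congr($(hm k).hom)) }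
  refine ⟨⟨IsLimit.ofIsoLimit hd ((Cone.functoriality F Pair.forget).mapIso (hd'.uniqueUpToIso hc))⟩, fun k => ?_⟩
  let e := hc.conePointUniqueUpToIso hd'
  have h : e.hom ≫ d'.π.app k = c.π.app k := hc.conePointUniqueUpToIso_hom_comp hd' k
  rw [← h]
  show _ = (F.obj k).mod.comap (e.hom.hom ≫ d.π.app k)
  rw [Scheme.IdealSheafData.comap_comp, ← hind k]
  exact isMinimal_of_isIso e

section descent

variable {K : Type u} [SmallCategory K] [IsCofiltered K] {S : Pair.{u}} (G : K ⥤ Pair.{u})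
  (σ : ∀ k, G.obj k ⟶ S) (hσ : ∀ {a b : K} (t : a ⟶ b), G.map t ≫ σ b = σ a)

/-- The underlying system over the base. -/
def overSys : K ⥤ Over S.total where
  obj k := Over.mk (σ k).hom
  map t := Over.homMk (G.map t).hom congr($(hσ t).hom)
  map_id k := Over.OverMorphism.ext congr($(G.map_id k).hom)
  map_comp f g := Over.OverMorphism.ext congr($(G.map_comp f g).hom)

variable (c : Cone G) (τ : c.pt ⟶ S) (hτ : ∀ k, c.π.app k ≫ σ k = τ)

/-- The underlying cone over the base. -/
def overCone : Cone (overSys G σ hσ) where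
  pt := Over.mk τ.hom
  π :=
    { app := fun k => Over.homMk (c.π.app k).hom congr($(hτ k).hom)
      naturality := fun a b f => Over.OverMorphism.ext congr($(c.π.naturality f).hom) }

def isLimitOverCone (hl : IsLimit (Pair.forget.mapCone c)) : IsLimit (overCone G σ hσ c τ hτ) :=
  haveI := IsCofiltered.isConnected K
  isLimitOfReflects (Over.forget S.total) hl

variable [∀ (a b : K) (t : a ⟶ b), IsAffineHom ((G ⋙ Pair.forget).map t)]
  [∀ k, CompactSpace (G.obj k).total] [∀ k, QuasiSeparatedSpace (G.obj k).total]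
  (Y : Over S) [LocallyOfFiniteType Y.hom.hom]

include hτ hσ in
theorem exists_eq_pair (hl : IsLimit (Pair.forget.mapCone c)) (o : K) (f g : G.obj o ⟶ Y.left)
    (hf : f ≫ Y.hom = σ o) (hg : g ≫ Y.hom = σ o) (h : c.π.app o ≫ f = c.π.app o ≫ g) :
    ∃ (k : K) (t : k ⟶ o), G.map t ≫ f = G.map t ≫ g := by
  haveI : ∀ (i j : K) (t : i ⟶ j), IsAffineHom ((overSys G σ hσ).map t).left := fun i j t =>
    inferInstanceAs (IsAffineHom ((G ⋙ Pair.forget).map t))
  haveI : ∀ k, CompactSpace ((overSys G σ hσ).obj k).left := fun k => inferInstanceAs (CompactSpace (G.obj k).total)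
  haveI : LocallyOfFiniteType (Over.mk Y.hom.hom).hom := inferInstanceAs (LocallyOfFiniteType Y.hom.hom)
  obtain ⟨k, t, ht⟩ := exists_eq_stage _ _ (isLimitOverCone G σ hσ c τ hτ hl) (Over.mk Y.hom.hom) o
    (Over.homMk f.hom congr($(hf).hom)) (Over.homMk g.hom congr($(hg).hom))
    (Over.OverMorphism.ext congr($(h).hom))
  exact ⟨k, t, Pair.Hom.ext congr($(ht).left)⟩

include hτ hσ in
theorem exists_descend_pair [CompactSpace S.total] [QuasiSeparatedSpace S.total]
    [CompactSpace Y.left.total] [QuasiSeparatedSpace Y.left.total]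
    (hl : IsLimit (Pair.forget.mapCone c)) (hmod : ∀ k, c.pt.mod = (G.obj k).mod.comap (c.π.app k).hom)
    (hmin : ∀ (a b : K) (t : a ⟶ b), IsMinimal (G.obj a).mod (G.obj b).mod (G.map t).hom)
    (h : (∀ (a b : K) (t : a ⟶ b), IsSchemeTheoreticallyDominant (G.map t).hom) ∨
      LocallyOfFinitePresentation Y.hom.hom)
    (f : c.pt ⟶ Y.left) (hf : f ≫ Y.hom = τ) :
    ∃ (k : K) (g : G.obj k ⟶ Y.left), c.π.app k ≫ g = f ∧ g ≫ Y.hom = σ k := by
  haveI : ∀ (i j : K) (t : i ⟶ j), IsAffineHom ((overSys G σ hσ).map t).left := fun i j t =>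
    inferInstanceAs (IsAffineHom ((G ⋙ Pair.forget).map t))
  haveI : ∀ k, CompactSpace ((overSys G σ hσ).obj k).left := fun k => inferInstanceAs (CompactSpace (G.obj k).total)
  haveI : ∀ k, QuasiSeparatedSpace ((overSys G σ hσ).obj k).left := fun k =>
    inferInstanceAs (QuasiSeparatedSpace (G.obj k).total)
  haveI : LocallyOfFiniteType (Over.mk Y.hom.hom).hom := inferInstanceAs (LocallyOfFiniteType Y.hom.hom)
  haveI : CompactSpace (Over.mk Y.hom.hom).left := inferInstanceAs (CompactSpace Y.left.total)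
  haveI : QuasiSeparatedSpace (Over.mk Y.hom.hom).left := inferInstanceAs (QuasiSeparatedSpace Y.left.total)
  obtain ⟨k, g, hg, hgf⟩ := Groth.Agent.S18745.result _ _ (isLimitOverCone G σ hσ c τ hτ hl)
    (fun k => (G.obj k).mod) (fun k => (G.obj k).isEffCartier) hmin c.pt.mod hmod (Over.mk Y.hom.hom)
    Y.left.mod Y.left.isEffCartier h (Over.homMk f.hom congr($(hf).hom)) f.cond
  exact ⟨k, ⟨g.left, hg⟩, Pair.Hom.ext congr($(hgf).left), Pair.Hom.ext (Over.w g)⟩

end descent

section system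

variable {I : Type u} [SmallCategory I] [IsCofiltered I]
  (F : I ⥤ Pair.{u}) (i : I) {V : Pair.{u}} (s : V ⟶ F.obj i) [HasPullbacksAlong s]

/-- The base changes of the system along `s`. -/
abbrev bcSys : Over i ⥤ Pair.{u} := Over.post F ⋙ Over.pullback s ⋙ Over.forget V

variable (c : Cone F)

/-- The cone over the system over the stage `i`. -/
def postCone : Cone (Over.post (X := i) F) where
  pt := Over.mk (c.π.app i)
  π :=
    { app := fun φ => Over.homMk (c.π.app φ.left) (c.w φ.hom)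
      naturality := fun a b f => Over.OverMorphism.ext (by
        show 𝟙 _ ≫ c.π.app b.left = c.π.app a.left ≫ F.map f.left
        rw [Category.id_comp, c.w]) }

/-- The base change of the limit. -/
abbrev bcCone : Cone (bcSys F i s) := (Over.forget V).mapCone ((Over.pullback s).mapCone (postCone F i c))

def isLimitBcCone (hc : IsLimit c) : IsLimit (bcCone F i s c) :=
  haveI := IsCofiltered.isConnected (Over i)
  isLimitOfPreserves (Over.forget V) (isLimitOfPreserves (Over.pullback s)
    ((isLimitOfReflects (Over.forget (F.obj i))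
      ((Functor.Initial.isLimitWhiskerEquiv (Over.forget i) c).symm hc)) : IsLimit (postCone F i c)))

theorem bcCone_fst (φ : Over i) :
    (bcCone F i s c).π.app φ ≫ pullback.fst (F.map φ.hom) s = pullback.fst (c.π.app i) s ≫ c.π.app φ.left :=
  pullback.lift_fst _ _ _

theorem bcCone_snd (φ : Over i) :
    (bcCone F i s c).π.app φ ≫ pullback.snd (F.map φ.hom) s = pullback.snd (c.π.app i) s :=
  pullback.lift_snd _ _ _

theorem bcSys_fst {a b : Over i} (t : a ⟶ b) :
    (bcSys F i s).map t ≫ pullback.fst (F.map b.hom) s = pullback.fst (F.map a.hom) s ≫ F.map t.left :=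
  pullback.lift_fst _ _ _

theorem bcSys_snd {a b : Over i} (t : a ⟶ b) :
    (bcSys F i s).map t ≫ pullback.snd (F.map b.hom) s = pullback.snd (F.map a.hom) s :=
  pullback.lift_snd _ _ _

variable (hmin : ∀ (a b : I) (t : a ⟶ b), IsMinimal (F.obj a).mod (F.obj b).mod (F.map t).hom)
  (hs : Pair.admBlowup s)

include hmin hs

theorem bcSys_mod (φ : Over i) :
    ((bcSys F i s).obj φ).mod = V.mod.comap (pullback.snd (F.map φ.hom) s).hom := by
  refine (pullback_facts (F.map φ.hom) s hs.1).1.trans ?_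
  rw [(hs.1 : V.mod = _), (hmin _ _ φ.hom : _ = _), ← Scheme.IdealSheafData.comap_comp,
    ← Scheme.IdealSheafData.comap_comp]
  exact congrArg _ congr($(pullback.condition (f := F.map φ.hom) (g := s)).hom)

theorem bcSys_min (a b : Over i) (t : a ⟶ b) :
    IsMinimal ((bcSys F i s).obj a).mod ((bcSys F i s).obj b).mod ((bcSys F i s).map t).hom := by
  show _ = _
  rw [bcSys_mod F i s hmin hs a, bcSys_mod F i s hmin hs b, ← Scheme.IdealSheafData.comap_comp, ← bcSys_snd F i s t]
  rfl

theorem bcSys_compact [∀ j, CompactSpace (F.obj j).total] (φ : Over i) :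
    CompactSpace ((bcSys F i s).obj φ).total :=
  haveI : IsProper (pullback.fst (F.map φ.hom) s).hom := (admBlowup_fst _ _ (hmin _ _ φ.hom) hs).2.1
  haveI : CompactSpace (F.obj φ.left).total := inferInstance
  QuasiCompact.compactSpace_of_compactSpace (pullback.fst (F.map φ.hom) s).hom

theorem bcSys_qs [∀ j, QuasiSeparatedSpace (F.obj j).total] (φ : Over i) :
    QuasiSeparatedSpace ((bcSys F i s).obj φ).total :=
  haveI : IsProper (pullback.fst (F.map φ.hom) s).hom := (admBlowup_fst _ _ (hmin _ _ φ.hom) hs).2.1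
  quasiSeparatedSpace_of_quasiSeparated (pullback.fst (F.map φ.hom) s).hom

theorem bcSys_affine [∀ (a b : I) (t : a ⟶ b), IsAffineHom ((F ⋙ Pair.forget).map t)] (a b : Over i)
    (t : a ⟶ b) : IsAffineHom ((bcSys F i s ⋙ Pair.forget).map t) := by
  obtain ⟨-, ιa, hιa, ha₁, ha₂⟩ := pullback_facts (F.map a.hom) s hs.1
  obtain ⟨-, ιb, hιb, hb₁, hb₂⟩ := pullback_facts (F.map b.hom) s hs.1
  let m : pullback (F.map a.hom).hom s.hom ⟶ pullback (F.map b.hom).hom s.hom :=
    pullback.lift (pullback.fst _ _ ≫ (F.map t.left).hom) (pullback.snd _ _) (by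
      rw [Category.assoc, ← pullback.condition]
      refine congrArg (pullback.fst _ _ ≫ ·) ?_
      exact congr($((F.map_comp _ _).symm.trans (congrArg F.map (Over.w t))).hom))
  haveI : IsAffineHom (F.map t.left).hom := inferInstanceAs (IsAffineHom ((F ⋙ Pair.forget).map t.left))
  haveI : IsAffineHom m := MorphismProperty.of_isPullback (P := @IsAffineHom)
    (IsPullback.of_right (h₁₁ := m) (h₂₁ := (F.map t.left).hom) (h₁₂ := pullback.snd _ _)
      (h₂₂ := (F.map b.hom).hom)
      (v₁₁ := pullback.fst _ _) (v₁₂ := pullback.fst _ _) (v₁₃ := s.hom) (by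
        rw [pullback.lift_snd, show (F.map t.left).hom ≫ (F.map b.hom).hom = (F.map a.hom).hom from
          congr($((F.map_comp _ _).symm.trans (congrArg F.map (Over.w t))).hom)]
        exact (IsPullback.of_hasPullback _ _).flip) (pullback.lift_fst _ _ _)
      (IsPullback.of_hasPullback _ _).flip).flip inferInstance
  have e : ((bcSys F i s).map t).hom ≫ ιb = ιa ≫ m := by
    apply pullback.hom_ext
    · rw [Category.assoc, hb₁, Category.assoc, pullback.lift_fst, reassoc_of% ha₁]
      exact congr($(bcSys_fst F i s t).hom)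
    · rw [Category.assoc, hb₂, Category.assoc, pullback.lift_snd, ha₂]
      exact congr($(bcSys_snd F i s t).hom)
  haveI : IsAffineHom (((bcSys F i s).map t).hom ≫ ιb) := by rw [e]; infer_instance
  show IsAffineHom ((bcSys F i s).map t).hom
  exact IsAffineHom.of_comp ((bcSys F i s).map t).hom ιb

theorem bcSys_dominant [∀ (a b : I) (t : a ⟶ b), IsAffineHom ((F ⋙ Pair.forget).map t)]
    (hd : ∀ (a b : I) (t : a ⟶ b), IsSchemeTheoreticallyDominant (F.map t).hom) (a b : Over i) (t : a ⟶ b) :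
    IsSchemeTheoreticallyDominant ((bcSys F i s).map t).hom :=
  haveI := hd _ _ t.left
  haveI : IsAffineHom (F.map t.left).hom := inferInstanceAs (IsAffineHom ((F ⋙ Pair.forget).map t.left))
  dominant_of_admBlowup _ _ _ _ (bcSys_fst F i s t) (hmin _ _ t.left)
    (admBlowup_fst _ _ (hmin _ _ a.hom) hs) (admBlowup_fst _ _ (hmin _ _ b.hom) hs)

end system

/-- **Morphisms in the localization out of a limit come from a stage, uniquely up to the transitions.** -/
theorem hom_colimit_bijective (S : Pair.{u}) [CompactSpace S.total] [QuasiSeparatedSpace S.total]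
    {I : Type u} [SmallCategory I] [IsCofiltered I] (D : I ⥤ Over S) (c : Cone D) (hc : IsLimit c)
    [∀ (i j : I) (t : i ⟶ j), IsAffineHom (D.map t).left.hom]
    (hmin : ∀ (i j : I) (t : i ⟶ j),
      IsMinimal (D.obj i).left.mod (D.obj j).left.mod (D.map t).left.hom)
    [∀ i, CompactSpace (D.obj i).left.total] [∀ i, QuasiSeparatedSpace (D.obj i).left.total]
    (Y : Over S) [CompactSpace Y.left.total] [QuasiSeparatedSpace Y.left.total]
    [LocallyOfFiniteType Y.hom.hom]
    (h : (∀ (i j : I) (t : i ⟶ j), IsSchemeTheoreticallyDominant (D.map t).left.hom) ∨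
      LocallyOfFinitePresentation Y.hom.hom) :
    (∀ φ : (Pair.admBlowup.{u}).Q.obj c.pt.left ⟶ (Pair.admBlowup.{u}).Q.obj Y.left,
        φ ≫ (Pair.admBlowup.{u}).Q.map Y.hom = (Pair.admBlowup.{u}).Q.map c.pt.hom →
        ∃ (i : I) (φi : (Pair.admBlowup.{u}).Q.obj (D.obj i).left ⟶
            (Pair.admBlowup.{u}).Q.obj Y.left),
          φi ≫ (Pair.admBlowup.{u}).Q.map Y.hom = (Pair.admBlowup.{u}).Q.map (D.obj i).hom ∧
            (Pair.admBlowup.{u}).Q.map (c.π.app i).left ≫ φi = φ) ∧
      ∀ (i : I) (φ ψ : (Pair.admBlowup.{u}).Q.obj (D.obj i).left ⟶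
          (Pair.admBlowup.{u}).Q.obj Y.left),
        φ ≫ (Pair.admBlowup.{u}).Q.map Y.hom = (Pair.admBlowup.{u}).Q.map (D.obj i).hom →
        ψ ≫ (Pair.admBlowup.{u}).Q.map Y.hom = (Pair.admBlowup.{u}).Q.map (D.obj i).hom →
        (Pair.admBlowup.{u}).Q.map (c.π.app i).left ≫ φ =
            (Pair.admBlowup.{u}).Q.map (c.π.app i).left ≫ ψ →
          ∃ (j : I) (t : j ⟶ i), (Pair.admBlowup.{u}).Q.map (D.map t).left ≫ φ =
            (Pair.admBlowup.{u}).Q.map (D.map t).left ≫ ψ := by
  haveI := hasRightCalculus.{u}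
  haveI := IsCofiltered.isConnected I
  let Q := (Pair.admBlowup.{u}).Q
  let F := D ⋙ Over.forget S
  let cF := (Over.forget S).mapCone c
  let hcF : IsLimit cF := isLimitOfPreserves (Over.forget S) hc
  haveI : ∀ (a b : I) (t : a ⟶ b), IsAffineHom ((F ⋙ Pair.forget).map t) := fun a b t =>
    inferInstanceAs (IsAffineHom (D.map t).left.hom)
  haveI : ∀ j, CompactSpace (F.obj j).total := fun j => inferInstanceAs (CompactSpace (D.obj j).left.total)
  haveI : ∀ j, QuasiSeparatedSpace (F.obj j).total := fun j => inferInstanceAs (QuasiSeparatedSpace (D.obj j).left.total)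
  obtain ⟨⟨hlim⟩, hmodX⟩ := isLimit_forget F hmin cF hcF
  refine ⟨fun φ hφ => ?_, fun i φ ψ hφ hψ hpq => ?_⟩
  · obtain ⟨Z, r, hr, f, hrf⟩ := LocLimits.exists_frac Q Pair.admBlowup φ
    have hf : f ≫ Y.hom = r ≫ c.pt.hom := map_injective (by
      rw [Functor.map_comp, Functor.map_comp, ← hrf, Category.assoc, hφ])
    haveI : ∀ (a b : I) (t : a ⟶ b), IsAffineHom ((F ⋙ Pair.forget).map t) := inferInstance
    haveI : ∀ j, CompactSpace ((F ⋙ Pair.forget).obj j) := fun j => inferInstanceAs (CompactSpace (F.obj j).total)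
    haveI : ∀ j, QuasiSeparatedSpace ((F ⋙ Pair.forget).obj j) := fun j =>
      inferInstanceAs (QuasiSeparatedSpace (F.obj j).total)
    have hZ : Z.mod = c.pt.left.mod.comap r.hom := hr.1
    obtain ⟨i, Yi, IYi, si, hIYi, hsi, e, he⟩ := exists_descend_admBlowup (F ⋙ Pair.forget) _ hlim
      (fun j => (F.obj j).mod) (fun j => (F.obj j).isEffCartier) hmin c.pt.left.mod hmodX r.hom
      (hZ ▸ Z.isEffCartier) ⟨rfl, hr.2⟩
    let V : Pair.{u} := ⟨Yi, IYi, hIYi⟩
    let sV : V ⟶ F.obj i := ⟨si, le_of_eq hsi.1⟩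
    have hsV : Pair.admBlowup sV := hsi
    haveI : HasPullbacksAlong sV := fun h => hasPullbacksAlong hsV.1 h
    let G := bcSys F i sV
    let W := bcCone F i sV cF
    haveI := bcSys_affine F i sV hmin hsV
    haveI := bcSys_compact F i sV hmin hsV
    haveI := bcSys_qs F i sV hmin hsV
    obtain ⟨⟨hlW⟩, hmodW⟩ := isLimit_forget G (bcSys_min F i sV hmin hsV) W (isLimitBcCone F i sV cF hcF)
    let P := mp (cF.π.app i) sV hsV.1
    let e₁ : Z ≅ P :=
      { hom := ⟨e.hom, by
          show Z.mod ≤ (c.pt.left.mod.comap _).comap e.hom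
          rw [← Scheme.IdealSheafData.comap_comp, hZ]
          exact le_of_eq (congrArg _ he.symm)⟩
        inv := ⟨e.inv, by
          show c.pt.left.mod.comap _ ≤ Z.mod.comap e.inv
          rw [hZ, ← Scheme.IdealSheafData.comap_comp]
          refine le_of_eq (congrArg _ ?_)
          rw [← he, e.inv_hom_id_assoc]
          rfl⟩
        hom_inv_id := Pair.Hom.ext e.hom_inv_id
        inv_hom_id := Pair.Hom.ext e.inv_hom_id }
    let e₂ : Z ≅ W.pt := e₁ ≪≫ (mp_isPullback (cF.π.app i) sV hsV.1).isoPullback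
    have he₂ : e₂.hom ≫ pullback.fst (cF.π.app i) sV = r := by
      rw [Iso.trans_hom, Category.assoc, IsPullback.isoPullback_hom_fst]
      exact Pair.Hom.ext he
    have he₂' : pullback.fst (cF.π.app i) sV = e₂.inv ≫ r := by rw [← he₂, e₂.inv_hom_id_assoc]
    have h1 : Q.map (pullback.fst (cF.π.app i) sV) ≫ φ = Q.map (e₂.inv ≫ f) := by
      rw [he₂', Functor.map_comp, Category.assoc, hrf, Functor.map_comp]
    let σ : ∀ a : Over i, G.obj a ⟶ S := fun a => pullback.fst (F.map a.hom) sV ≫ (D.obj a.left).hom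
    have hσ : ∀ {a b : Over i} (t : a ⟶ b), G.map t ≫ σ b = σ a := fun {a b} t => by
      rw [← Category.assoc, bcSys_fst, Category.assoc]
      exact congrArg (pullback.fst _ _ ≫ ·) (Over.w (D.map t.left))
    have hτ : ∀ a, W.π.app a ≫ σ a = pullback.fst (cF.π.app i) sV ≫ c.pt.hom := fun a => by
      rw [← Category.assoc, bcCone_fst, Category.assoc]
      exact congrArg (pullback.fst _ _ ≫ ·) (Over.w (c.π.app a.left))
    obtain ⟨a, g, hg, hgS⟩ := exists_descend_pair G σ hσ W _ hτ Y hlW hmodW (bcSys_min F i sV hmin hsV)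
      (h.imp (fun hd => bcSys_dominant F i sV hmin hsV hd) id) (e₂.inv ≫ f)
      (by rw [Category.assoc, hf, ← Category.assoc, ← he₂'])
    haveI : IsIso (Q.map (pullback.fst (F.map a.hom) sV)) :=
      Localization.inverts Q Pair.admBlowup _ (admBlowup_fst _ _ (hmin _ _ a.hom) hsV)
    haveI : IsIso (Q.map (pullback.fst (cF.π.app i) sV)) :=
      Localization.inverts Q Pair.admBlowup _ (admBlowup_fst _ _ (hmodX i) hsV)
    refine ⟨a.left, inv (Q.map (pullback.fst (F.map a.hom) sV)) ≫ Q.map g, ?_, ?_⟩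
    · rw [Category.assoc, ← Functor.map_comp, hgS, IsIso.inv_comp_eq, ← Functor.map_comp]
    · rw [← cancel_epi (Q.map (pullback.fst (cF.π.app i) sV)), h1, ← hg, Functor.map_comp,
        ← Category.assoc, ← Functor.map_comp]
      show Q.map (pullback.fst (cF.π.app i) sV ≫ cF.π.app a.left) ≫ _ = _
      rw [← bcCone_fst F i sV cF a, Functor.map_comp, Category.assoc, IsIso.hom_inv_id_assoc]
  · obtain ⟨V, s, hs, k, l, hk, hl⟩ := LocLimits.exists_frac₂ Q Pair.admBlowup φ ψ
    have hkY : k ≫ Y.hom = s ≫ (D.obj i).hom := map_injective (by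
      rw [Functor.map_comp, Functor.map_comp, ← hk, Category.assoc, hφ])
    have hlY : l ≫ Y.hom = s ≫ (D.obj i).hom := map_injective (by
      rw [Functor.map_comp, Functor.map_comp, ← hl, Category.assoc, hψ])
    let s' : V ⟶ F.obj i := s
    have hs' : Pair.admBlowup s' := hs
    haveI : HasPullbacksAlong s' := fun h => hasPullbacksAlong hs'.1 h
    let G := bcSys F i s'
    let W := bcCone F i s' cF
    haveI := bcSys_affine F i s' hmin hs'
    haveI := bcSys_compact F i s' hmin hs'
    haveI := bcSys_qs F i s' hmin hs'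
    obtain ⟨⟨hlW⟩, -⟩ := isLimit_forget G (bcSys_min F i s' hmin hs') W (isLimitBcCone F i s' cF hcF)
    let σ : ∀ a : Over i, G.obj a ⟶ S := fun a => pullback.fst (F.map a.hom) s' ≫ (D.obj a.left).hom
    have hσ : ∀ {a b : Over i} (t : a ⟶ b), G.map t ≫ σ b = σ a := fun {a b} t => by
      rw [← Category.assoc, bcSys_fst, Category.assoc]
      exact congrArg (pullback.fst _ _ ≫ ·) (Over.w (D.map t.left))
    have hτ : ∀ a, W.π.app a ≫ σ a = pullback.fst (cF.π.app i) s' ≫ c.pt.hom := fun a => by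
      rw [← Category.assoc, bcCone_fst, Category.assoc]
      exact congrArg (pullback.fst _ _ ≫ ·) (Over.w (c.π.app a.left))
    let o : Over i := Over.mk (𝟙 i)
    have hw : ∀ {a : Over i}, pullback.snd (F.map a.hom) s' ≫ (s' ≫ (D.obj i).hom) = σ a := fun {a} => by
      rw [← Category.assoc, ← pullback.condition, Category.assoc]
      exact congrArg (pullback.fst _ _ ≫ ·) (Over.w (D.map a.hom))
    have hinf : pullback.snd (cF.π.app i) s' ≫ k = pullback.snd (cF.π.app i) s' ≫ l := map_injective (by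
      rw [Functor.map_comp, Functor.map_comp, ← hk, ← hl, ← Category.assoc, ← Category.assoc,
        ← Functor.map_comp]
      show Q.map (pullback.snd (cF.π.app i) s' ≫ s') ≫ φ = Q.map (pullback.snd (cF.π.app i) s' ≫ s') ≫ ψ
      rw [← pullback.condition, Functor.map_comp, Category.assoc, Category.assoc]
      exact congrArg (_ ≫ ·) hpq)
    obtain ⟨a, t, ht⟩ := exists_eq_pair G σ hσ W _ hτ Y hlW o (pullback.snd (F.map o.hom) s' ≫ k) (pullback.snd (F.map o.hom) s' ≫ l)
      (by rw [Category.assoc, hkY]; exact hw) (by rw [Category.assoc, hlY]; exact hw)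
      (by rw [← Category.assoc, ← Category.assoc, bcCone_snd]; exact hinf)
    rw [← Category.assoc, ← Category.assoc, bcSys_snd] at ht
    haveI : IsIso (Q.map (pullback.fst (F.map a.hom) s')) :=
      Localization.inverts Q Pair.admBlowup _ (admBlowup_fst _ _ (hmin _ _ a.hom) hs')
    refine ⟨a.left, a.hom, ?_⟩
    rw [← cancel_epi (Q.map (pullback.fst (F.map a.hom) s')), ← Category.assoc, ← Category.assoc,
      ← Functor.map_comp]
    show Q.map (pullback.fst (F.map a.hom) s' ≫ F.map a.hom) ≫ φ =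
      Q.map (pullback.fst (F.map a.hom) s' ≫ F.map a.hom) ≫ ψ
    rw [pullback.condition, Functor.map_comp, Category.assoc, Category.assoc]
    show _ ≫ Q.map s ≫ φ = _ ≫ Q.map s ≫ ψ
    rw [hk, hl, ← Functor.map_comp, ← Functor.map_comp, ht]

end ModPairLib

end
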