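import Groth.Agent.ModPairLib.Extra2
import Groth.Agent.BlowUpLib.Exists
import Groth.Agent.BlowUpLib.Props
import Groth.Agent.S4666

/-!
# Pairs which are local for Zariski coverings and admissible blow-ups
-/

set_option autoImplicit false
set_option linter.style.haveILetI false
set_option linter.unusedSectionVars false
set_option backward.isDefEq.respectTransparency false
set_option backward.isDefEq.respectTransparency.types false
set_option maxHeartbeats 1000000

universe u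

open CategoryTheory CategoryTheory.Limits AlgebraicGeometry TopologicalSpace IsLocalRing
open ModPair

noncomputable section

namespace ModPairLib

/-- Locality for Zariski coverings of pairs. -/
def IsZarLocal (P : Pair.{u}) : Prop :=
  ∀ (X : Pair.{u}) (ι : Type u) (U : ι → Pair.{u}) (v : ∀ i, U i ⟶ X),
    (∀ i, IsMinimal (U i).mod X.mod (v i).hom ∧ IsOpenImmersion (v i).hom ∧ QuasiCompact (v i).hom) →
    (∀ x : X.total, ∃ (i : ι) (y : (U i).total), (v i).hom.base y = x) →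
    ∀ g : P ⟶ X, ∃ (i : ι) (h : P ⟶ U i), h ≫ v i = g

/-- Locality for admissible blow-ups. -/
def IsBlowupLocal (P : Pair.{u}) : Prop :=
  ∀ (Q X : Pair.{u}) (q : Q ⟶ X), Pair.admBlowup q → ∀ g : P ⟶ X, ∃ h : P ⟶ Q, h ≫ q = g

variable {X : Scheme.{u}}

theorem mem_basicOpen_iff_notMem (a : Γ(X, ⊤)) (x : X) :
    x ∈ X.basicOpen a ↔ a ∉ (X.toSpecΓ x).asIdeal := by
  rw [← Scheme.toSpecΓ_preimage_basicOpen]
  rfl

/-- Every point of an affine scheme with local ring of functions specializes to any closed point. -/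
theorem specializes_of_isClosed [IsAffine X] [IsLocalRing Γ(X, ⊤)] {p : X} (hp : IsClosed ({p} : Set X))
    (y : X) : y ⤳ p := by
  let c := X.isoSpec.inv (closedPoint Γ(X, ⊤))
  have h : ∀ z : X, z ⤳ c := fun z => by
    have h1 : X.isoSpec.hom z ⤳ closedPoint Γ(X, ⊤) := specializes_closedPoint _
    have h2 := h1.map X.isoSpec.inv.continuous
    rw [← Scheme.Hom.comp_apply, Iso.hom_inv_id] at h2
    exact h2
  have hc : c = p := by
    have := (h p).mem_closed hp rfl
    exact this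
  exact hc ▸ h y

/-- An open containing a closed point of a local affine scheme is everything. -/
theorem eq_top_of_isClosed [IsAffine X] [IsLocalRing Γ(X, ⊤)] {p : X} (hp : IsClosed ({p} : Set X))
    {V : X.Opens} (h : p ∈ V) : V = ⊤ :=
  top_le_iff.mp fun y _ => (specializes_of_isClosed hp y).mem_open V.2 h

theorem exists_closed_point [IsAffine X] [IsLocalRing Γ(X, ⊤)] : ∃ p : X, IsClosed ({p} : Set X) := by
  refine ⟨X.isoSpec.inv (closedPoint Γ(X, ⊤)), ?_⟩
  have h := (Scheme.homeoOfIso X.isoSpec.symm).isClosedMap _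
    (isClosed_singleton_closedPoint (R := Γ(X, ⊤)))
  rw [Set.image_singleton] at h
  exact h

theorem exists_dvd_pow_of_le [IsAffine X] {f a : Γ(X, ⊤)} (h : X.basicOpen f ≤ X.basicOpen a) :
    ∃ n : ℕ, a ∣ f ^ n := by
  have h' : PrimeSpectrum.basicOpen f ≤ PrimeSpectrum.basicOpen a := fun q hq => by
    have h1 : X.isoSpec.inv q ∈ X.basicOpen f := by
      rw [mem_basicOpen_iff_notMem, ← Scheme.Hom.comp_apply, Scheme.isoSpec_inv_toSpecΓ]
      exact hq
    have h2 := h h1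
    rw [mem_basicOpen_iff_notMem, ← Scheme.Hom.comp_apply, Scheme.isoSpec_inv_toSpecΓ] at h2
    exact h2
  obtain ⟨n, hn⟩ := (PrimeSpectrum.basicOpen_le_basicOpen_iff f a).mp h'
  exact ⟨n, Ideal.mem_span_singleton.mp hn⟩

/-- The modulus of a pair with local affine total space is principal. -/
theorem exists_gen_of_local (P : Pair.{u}) [IsAffine P.total] [IsLocalRing Γ(P.total, ⊤)] :
    ∃ f : Γ(P.total, ⊤), f ∈ nonZeroDivisors Γ(P.total, ⊤) ∧
      P.mod.ideal ⟨⊤, isAffineOpen_top _⟩ = Ideal.span {f} ∧ interior P.mod = P.total.basicOpen f := by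
  obtain ⟨p, hp⟩ := exists_closed_point (X := P.total)
  obtain ⟨U, hU, f, hf, hI, hb⟩ := exists_gen_basicOpen P.isEffCartier p
  have hU' := eq_top_of_isClosed hp hU
  obtain ⟨U, hUa⟩ := U
  subst hU'
  exact ⟨f, hf, hI, by rw [← hb, inf_top_eq]⟩

theorem mem_iff_exists_dvd [IsAffine X] {V : X.Opens} [IsAffine (V : Scheme.{u})]
    [IsLocalRing Γ((V : Scheme.{u}), ⊤)] {f : Γ(X, ⊤)} (hV : V = X.basicOpen f)
    {p : (V : Scheme.{u})} (hp : IsClosed ({p} : Set (V : Scheme.{u}))) (a : Γ(X, ⊤)) :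
    a ∉ (X.toSpecΓ (V.ι p)).asIdeal ↔ ∃ n : ℕ, a ∣ f ^ n := by
  constructor
  · intro ha
    refine exists_dvd_pow_of_le fun y hy => ?_
    rw [← hV] at hy
    have h := eq_top_of_isClosed hp (V := V.ι ⁻¹ᵁ X.basicOpen a) ((mem_basicOpen_iff_notMem a _).mpr ha)
    have : (⟨y, hy⟩ : (V : Scheme.{u})) ∈ V.ι ⁻¹ᵁ X.basicOpen a := h ▸ trivial
    exact this
  · rintro ⟨n, hn⟩ ha
    have h1 : f ^ n ∈ (X.toSpecΓ (V.ι p)).asIdeal := Ideal.mem_of_dvd _ hn ha
    have h2 : V.ι p ∈ X.basicOpen f := hV ▸ p.2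
    exact (mem_basicOpen_iff_notMem f _).mp h2 ((X.toSpecΓ (V.ι p)).isPrime.mem_of_pow_mem n h1)

theorem zarLocal_of_local (P : Pair.{u}) [IsAffine P.total] [IsLocalRing Γ(P.total, ⊤)] : IsZarLocal P := by
  intro X ι U v hv hcov g
  obtain ⟨p, hp⟩ := exists_closed_point (X := P.total)
  obtain ⟨i, y, hy⟩ := hcov (g.hom p)
  obtain ⟨hm, ho, -⟩ := hv i
  haveI := ho
  have hr : Set.range g.hom ⊆ Set.range (v i).hom := by
    have h := eq_top_of_isClosed hp (V := g.hom ⁻¹ᵁ (v i).hom.opensRange) ⟨y, hy⟩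
    rintro _ ⟨z, rfl⟩
    exact (h ▸ trivial : z ∈ g.hom ⁻¹ᵁ (v i).hom.opensRange)
  refine ⟨i, ⟨IsOpenImmersion.lift (v i).hom g.hom hr, ?_⟩, Pair.Hom.ext (IsOpenImmersion.lift_fac _ _ _)⟩
  show P.mod ≤ _
  rw [(hm : (U i).mod = _), ← Scheme.IdealSheafData.comap_comp, IsOpenImmersion.lift_fac]
  exact g.cond

/-- A pair glued from a valuation ring and a local interior is local for admissible blow-ups. -/
theorem blowupLocal_of_glued (P : Pair.{u}) [IsAffine P.total] [IsLocalRing Γ(P.total, ⊤)]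
    [IsAffine (interior P.mod : Scheme.{u})] [IsLocalRing Γ((interior P.mod : Scheme.{u}), ⊤)]
    (h : ∀ p : (interior P.mod : Scheme.{u}), IsClosed ({p} : Set (interior P.mod : Scheme.{u})) →
          ValuationRing (Γ(P.total, ⊤) ⧸ (P.total.toSpecΓ.base ((interior P.mod).ι.base p)).asIdeal) ∧
          Set.BijOn (algebraMap Γ(P.total, ⊤) (Localization.AtPrime
              (P.total.toSpecΓ.base ((interior P.mod).ι.base p)).asIdeal))
            ((P.total.toSpecΓ.base ((interior P.mod).ι.base p)).asIdeal : Set Γ(P.total, ⊤))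
            (maximalIdeal (Localization.AtPrime
              (P.total.toSpecΓ.base ((interior P.mod).ι.base p)).asIdeal) :
              Set (Localization.AtPrime
                (P.total.toSpecΓ.base ((interior P.mod).ι.base p)).asIdeal))) :
    IsBlowupLocal P := by
  intro Q₀ X₀ q₀ hq₀ g
  obtain ⟨Q, t, g', ht, hsq⟩ := exists_pullback q₀ hq₀ g
  suffices ∃ s : P.total ⟶ Q.total, s ≫ t.hom = 𝟙 _ by
    obtain ⟨s, hs⟩ := this
    have hc : IsAmbient P.mod Q.mod s := by
      show P.mod ≤ Q.mod.comap s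
      rw [(ht.1 : Q.mod = _), ← Scheme.IdealSheafData.comap_comp, hs, Scheme.IdealSheafData.comap_id]
    let s' : P ⟶ Q := ⟨s, hc⟩
    refine ⟨s' ≫ g', ?_⟩
    rw [Category.assoc, ← hsq, ← Category.assoc, show s' ≫ t = 𝟙 P from Pair.Hom.ext hs, Category.id_comp]
  obtain ⟨-, hpr, hiso⟩ := ht
  haveI := hpr
  haveI := hiso
  obtain ⟨f, hf, -, hV⟩ := exists_gen_of_local P
  obtain ⟨p, hp⟩ := exists_closed_point (X := (interior P.mod : Scheme.{u}))
  obtain ⟨hval, hbij⟩ := h p hp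
  let A := Γ(P.total, ⊤)
  let q : Ideal A := (P.total.toSpecΓ.base ((interior P.mod).ι.base p)).asIdeal
  haveI : ValuationRing (A ⧸ q) := hval
  have hfq : f ∉ q := (mem_basicOpen_iff_notMem f _).mp (hV ▸ p.2)
  let L := Localization.AtPrime q
  let al : A →+* L := algebraMap A L
  have hinj : Function.Injective al := by
    rw [injective_iff_map_eq_zero]
    intro a ha
    have haq : a ∈ q := by
      by_contra haq
      exact (IsLocalization.map_units L (⟨a, haq⟩ : q.primeCompl)).ne_zero ha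
    exact hbij.injOn haq q.zero_mem (ha.trans (map_zero al).symm)
  -- the lift over the interior
  let g₁ : Spec (CommRingCat.of L) ⟶ P.total := Spec.map (CommRingCat.ofHom al) ≫ P.total.isoSpec.inv
  have hg₁ : Set.range g₁ ⊆ Set.range (interior P.mod).ι := by
    rintro _ ⟨y, rfl⟩
    rw [Scheme.Opens.range_ι]
    refine (SetLike.ext_iff.mp hV (g₁ y)).mpr ?_
    rw [mem_basicOpen_iff_notMem, ← Scheme.Hom.comp_apply, Category.assoc, Scheme.isoSpec_inv_toSpecΓ]
    intro hy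
    exact y.isPrime.ne_top (Ideal.eq_top_of_isUnit_mem _ hy
      (IsLocalization.map_units L (⟨f, hfq⟩ : q.primeCompl)))
  let l₁ : Spec (CommRingCat.of L) ⟶ Q.total :=
    IsOpenImmersion.lift (interior P.mod).ι g₁ hg₁ ≫ inv (t.hom ∣_ interior P.mod) ≫
      (t.hom ⁻¹ᵁ interior P.mod).ι
  have hl₁ : l₁ ≫ t.hom = g₁ := by
    simp only [l₁, Category.assoc, ← morphismRestrict_ι, IsIso.inv_hom_id_assoc, IsOpenImmersion.lift_fac]
  -- the lift along the valuation ring
  let ρ : L →+* ResidueField L := residue L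
  have hρ : (algebraMap (A ⧸ q) q.ResidueField).comp (Ideal.Quotient.mk q) = ρ.comp al := by
    ext a
    rfl
  let i₁ : Spec (CommRingCat.of q.ResidueField) ⟶ Q.total := Spec.map (CommRingCat.ofHom ρ) ≫ l₁
  let i₂ : Spec (CommRingCat.of (A ⧸ q)) ⟶ P.total :=
    Spec.map (CommRingCat.ofHom (Ideal.Quotient.mk q)) ≫ P.total.isoSpec.inv
  have hcomm : CommSq i₁ (Spec.map (CommRingCat.ofHom (algebraMap (A ⧸ q) q.ResidueField))) t.hom i₂ := by
    constructor
    show (Spec.map (CommRingCat.ofHom ρ) ≫ l₁) ≫ t.hom = _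
    rw [Category.assoc, hl₁]
    show Spec.map _ ≫ Spec.map _ ≫ _ = Spec.map _ ≫ Spec.map _ ≫ _
    rw [← Spec.map_comp_assoc, ← Spec.map_comp_assoc, ← CommRingCat.ofHom_comp, ← CommRingCat.ofHom_comp, hρ]
  have hex : ValuativeCriterion.Existence t.hom := by
    have : (ValuativeCriterion.Existence ⊓ @QuasiCompact) t.hom := by
      rw [← UniversallyClosed.eq_valuativeCriterion]
      infer_instance
    exact this.1
  obtain ⟨⟨l₂, hl₂₁, hl₂₂⟩⟩ := (hex ⟨A ⧸ q, q.ResidueField, i₁, i₂, hcomm⟩).exists_lift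
  -- both lifts land in an affine open
  obtain ⟨W, hW, hxW⟩ : ∃ W : Q.total.Opens, IsAffineOpen W ∧ l₂ (closedPoint (A ⧸ q)) ∈ W := by
    obtain ⟨_, ⟨W, hW, rfl⟩, hxW, -⟩ := Q.total.isBasis_affineOpens.exists_subset_of_mem_open
      (Set.mem_univ (l₂ (closedPoint (A ⧸ q)))) isOpen_univ
    exact ⟨W, hW, hxW⟩
  have hr₂ : Set.range l₂ ⊆ Set.range W.ι := by
    rintro _ ⟨y, rfl⟩
    rw [Scheme.Opens.range_ι]
    exact ((specializes_closedPoint y).map l₂.continuous).mem_open W.2 hxW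
  have hc₁ : l₁ (closedPoint L) ∈ W := by
    let o : Spec (CommRingCat.of q.ResidueField) := closedPoint q.ResidueField
    have e : Spec.map (CommRingCat.ofHom ρ) o = closedPoint L := IsLocalRing.comap_closedPoint ρ
    rw [← e, ← Scheme.Hom.comp_apply]
    show i₁ o ∈ W
    rw [show i₁ = Spec.map (CommRingCat.ofHom (algebraMap (A ⧸ q) q.ResidueField)) ≫ l₂ from hl₂₁.symm,
      Scheme.Hom.comp_apply]
    have := hr₂ ⟨Spec.map (CommRingCat.ofHom (algebraMap (A ⧸ q) q.ResidueField)) o, rfl⟩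
    rwa [Scheme.Opens.range_ι] at this
  have hr₁ : Set.range l₁ ⊆ Set.range W.ι := by
    rintro _ ⟨y, rfl⟩
    rw [Scheme.Opens.range_ι]
    exact ((specializes_closedPoint y).map l₁.continuous).mem_open W.2 hc₁
  let φ₁ := Spec.preimage (IsOpenImmersion.lift W.ι l₁ hr₁ ≫ hW.isoSpec.hom)
  let φ₂ := Spec.preimage (IsOpenImmersion.lift W.ι l₂ hr₂ ≫ hW.isoSpec.hom)
  have hφ₁ : Spec.map φ₁ ≫ hW.fromSpec = l₁ := by
    rw [Spec.map_preimage, Category.assoc, hW.isoSpec_hom, hW.toSpecΓ_fromSpec, IsOpenImmersion.lift_fac]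
  have hφ₂ : Spec.map φ₂ ≫ hW.fromSpec = l₂ := by
    rw [Spec.map_preimage, Category.assoc, hW.isoSpec_hom, hW.toSpecΓ_fromSpec, IsOpenImmersion.lift_fac]
  have hcompat : φ₁ ≫ CommRingCat.ofHom ρ =
      φ₂ ≫ CommRingCat.ofHom (algebraMap (A ⧸ q) q.ResidueField) := by
    apply Spec.map_injective
    rw [← cancel_mono hW.fromSpec, Spec.map_comp, Spec.map_comp, Category.assoc, Category.assoc, hφ₁, hφ₂]
    exact hl₂₁.symm
  have hmem : ∀ b, φ₁.hom b ∈ al.range := fun b => by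
    obtain ⟨a, ha⟩ := Ideal.Quotient.mk_surjective (φ₂.hom b)
    have h1 : ρ (φ₁.hom b) = ρ (al a) := by
      have h3 : ρ (φ₁.hom b) = algebraMap (A ⧸ q) q.ResidueField (φ₂.hom b) := congr($(hcompat).hom b)
      rw [h3, ← ha]
      exact congr($hρ a)
    have h2 : φ₁.hom b - al a ∈ maximalIdeal L := by
      rw [← IsLocalRing.residue_eq_zero_iff, map_sub, sub_eq_zero]
      exact h1
    obtain ⟨c, -, hc⟩ := hbij.surjOn h2
    exact ⟨a + c, by rw [map_add]; exact (congrArg (al a + ·) hc).trans (by abel)⟩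
  let e := RingEquiv.ofBijective al.rangeRestrict ⟨fun a b hab => hinj (congrArg Subtype.val hab), al.rangeRestrict_surjective⟩
  let ψ : Γ(Q.total, W) →+* A := e.symm.toRingHom.comp (φ₁.hom.codRestrict al.range hmem)
  have hψ : al.comp ψ = φ₁.hom := RingHom.ext fun b =>
    congr(($(e.apply_symm_apply (φ₁.hom.codRestrict al.range hmem b))).1)
  refine ⟨P.total.isoSpec.hom ≫ Spec.map (CommRingCat.ofHom ψ) ≫ hW.fromSpec, ?_⟩
  let m := (Spec.map (CommRingCat.ofHom ψ) ≫ hW.fromSpec) ≫ t.hom ≫ P.total.isoSpec.hom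
  have hm : Spec.map (CommRingCat.ofHom al) ≫ m = Spec.map (CommRingCat.ofHom al) := by
    show Spec.map _ ≫ (Spec.map _ ≫ _) ≫ _ = _
    rw [Category.assoc, ← Spec.map_comp_assoc, ← CommRingCat.ofHom_comp, hψ, CommRingCat.ofHom_hom, reassoc_of% hφ₁,
      reassoc_of% hl₁]
    simp only [g₁, Category.assoc, Iso.inv_hom_id]
    exact Category.comp_id _
  have hid : Spec.preimage m = 𝟙 _ := by
    have h1 : Spec.preimage m ≫ CommRingCat.ofHom al = CommRingCat.ofHom al := by
      apply Spec.map_injective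
      rw [Spec.map_comp, Spec.map_preimage, hm]
    exact CommRingCat.hom_ext (RingHom.ext fun a => hinj congr($(h1).hom a))
  have hm1 : m = 𝟙 _ := by rw [← Spec.map_preimage m, hid, Spec.map_id]; rfl
  rw [← cancel_mono P.total.isoSpec.hom, Category.id_comp, Category.assoc, Category.assoc, Category.assoc]
  show P.total.isoSpec.hom ≫ Spec.map _ ≫ hW.fromSpec ≫ t.hom ≫ _ = _
  rw [show Spec.map (CommRingCat.ofHom ψ) ≫ hW.fromSpec ≫ t.hom ≫ P.total.isoSpec.hom = m from
    (Category.assoc _ _ _).symm, hm1]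
  exact Category.comp_id _

/-! ### The converse -/

theorem isAffine_of_zarLocal (P : Pair.{u}) [QuasiSeparatedSpace P.total] (hz : IsZarLocal P) :
    IsAffine P.total ∧ IsLocalRing Γ(P.total, ⊤) := by
  classical
  let mk : P.total.Opens → Pair.{u} := fun V =>
    ⟨V, P.mod.comap V.ι, BlowUpLib.isEffCartier_comap_of_flat V.ι P.isEffCartier⟩
  let incl : ∀ V, mk V ⟶ P := fun V => ⟨V.ι, le_rfl⟩
  have key : ∀ {ι : Type u} (V : ι → P.total.Opens), (∀ i, IsAffineOpen (V i)) → (∀ x, ∃ i, x ∈ V i) →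
      ∃ i, V i = ⊤ := fun {ι} V hV hcov => by
    obtain ⟨i, h, hh⟩ := hz P ι (fun i => mk (V i)) (fun i => incl (V i))
      (fun i => ⟨rfl, inferInstanceAs (IsOpenImmersion (V i).ι), by
        haveI : CompactSpace (V i : Scheme.{u}) := isCompact_iff_compactSpace.mp (hV i).isCompact
        exact (inferInstanceAs (QuasiCompact (V i).ι))⟩)
      (fun x => let ⟨i, hi⟩ := hcov x; ⟨i, ⟨x, hi⟩, rfl⟩) (𝟙 P)
    refine ⟨i, top_le_iff.mp fun x _ => ?_⟩
    have hx : x = (V i).ι (h.hom x) := congr($((congrArg Pair.Hom.hom hh).symm) x)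
    rw [hx]
    exact (h.hom x).2
  obtain ⟨U, hU⟩ := key (fun U : P.total.affineOpens => U.1) (fun U => U.2) fun x => by
    obtain ⟨_, ⟨W, hW, rfl⟩, hxW, -⟩ := P.total.isBasis_affineOpens.exists_subset_of_mem_open
      (Set.mem_univ x) isOpen_univ
    exact ⟨⟨W, hW⟩, hxW⟩
  haveI : IsAffine P.total := by
    have h : IsAffineOpen (⊤ : P.total.Opens) := hU ▸ U.2
    haveI : IsAffine ((⊤ : P.total.Opens) : Scheme.{u}) := h
    exact .of_isIso P.total.topIso.inv
  refine ⟨inferInstance, ?_⟩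
  haveI : Nontrivial Γ(P.total, ⊤) := by
    by_contra hn
    rw [not_nontrivial_iff_subsingleton] at hn
    obtain ⟨i, -⟩ := key (ι := PEmpty.{u + 1}) (fun i => i.elim) (fun i => i.elim) fun x => by
      exact isEmptyElim (show PrimeSpectrum Γ(P.total, ⊤) from P.total.toSpecΓ x)
    exact i.elim
  refine IsLocalRing.of_isUnit_or_isUnit_one_sub_self fun a => ?_
  obtain ⟨i, hi⟩ := key (ι := ULift.{u} Bool) (fun i => P.total.basicOpen (if i.down then a else 1 - a))
    (fun i => (isAffineOpen_top _).basicOpen _) fun x => by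
      by_cases hx : x ∈ P.total.basicOpen a
      · exact ⟨⟨true⟩, hx⟩
      · refine ⟨⟨false⟩, ?_⟩
        show x ∈ P.total.basicOpen (1 - a)
        rw [mem_basicOpen_iff_notMem] at hx ⊢
        intro h
        exact (P.total.toSpecΓ x).isPrime.ne_top ((Ideal.eq_top_iff_one _).mpr (by
          simpa using Ideal.add_mem _ h (not_not.mp hx)))
  obtain ⟨n, hn⟩ := exists_dvd_pow_of_le (X := P.total) (f := 1) (a := if i.down then a else 1 - a) (by
    rw [hi]; exact le_top)
  rw [one_pow, ← isUnit_iff_dvd_one] at hn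
  split_ifs at hn
  · exact Or.inl hn
  · exact Or.inr hn

/-- For a pair local for admissible blow-ups, a generator of the modulus is comparable with everything. -/
theorem dvd_or_dvd_of_blowupLocal (P : Pair.{u}) [IsAffine P.total] [IsLocalRing Γ(P.total, ⊤)]
    (hb : IsBlowupLocal P) {f : Γ(P.total, ⊤)} (hf : f ∈ nonZeroDivisors Γ(P.total, ⊤))
    (hV : interior P.mod = P.total.basicOpen f) (x : Γ(P.total, ⊤)) (n : ℕ) : x ∣ f ^ n ∨ f ^ n ∣ x := by
  let S := P.total
  let I₀ : Ideal Γ(S, ⊤) := Ideal.span {x, f ^ n}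
  let K : S.IdealSheafData := Scheme.IdealSheafData.ofIdealTop I₀
  have hKI : K.ideal ⟨⊤, isAffineOpen_top _⟩ = I₀ := by
    simp [K, Scheme.IdealSheafData.ofIdealTop_ideal]
  have hKft : BlowUp.IsFiniteTypeIdeal K := fun V => by
    simp only [K, Scheme.IdealSheafData.ofIdealTop_ideal]
    exact Ideal.FG.map (Submodule.fg_span (Set.toFinite _)) _
  obtain ⟨Y, b, hbl⟩ := BlowUpLib.exists_isBlowUp S K
  haveI := BlowUpLib.isProper_of_isBlowUp hbl hKft
  let U := interior P.mod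
  have hKU : K.comap U.ι = ⊤ := by
    rw [← Scheme.IdealSheafData.support_eq_bot_iff, Scheme.IdealSheafData.support_comap]
    refine le_bot_iff.mp fun (z : (U : Scheme.{u})) hz => ?_
    have h1 := (Scheme.IdealSheafData.mem_support_iff_of_mem (U := ⟨⊤, isAffineOpen_top _⟩)
      (show U.ι z ∈ (⊤ : S.Opens) from trivial)).mp (show U.ι z ∈ K.support from hz)
    rw [hKI, Scheme.mem_zeroLocus_iff] at h1
    have h2 := h1 (f ^ n) (Ideal.subset_span (Or.inr rfl))
    rw [mem_basicOpen_iff_notMem, not_not] at h2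
    have h3 : U.ι z ∈ S.basicOpen f := hV ▸ z.2
    exact (mem_basicOpen_iff_notMem f _).mp h3 ((S.toSpecΓ _).isPrime.mem_of_pow_mem n h2)
  haveI : IsIso (b ∣_ U) := by
    have h1 := BlowUpLib.isBlowUp_of_isPullback (isPullback_morphismRestrict b U).flip hbl
    rw [hKU] at h1
    have htop : BlowUp.IsEffCartierIdeal (⊤ : (U : Scheme.{u}).IdealSheafData) := fun z => by
      obtain ⟨_, ⟨W, hW, rfl⟩, hzW, -⟩ := (U : Scheme.{u}).isBasis_affineOpens.exists_subset_of_mem_open
        (Set.mem_univ z) isOpen_univ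
      exact ⟨⟨W, hW⟩, hzW, 1, one_mem _, by simp⟩
    have h2 : BlowUp.IsBlowUp (𝟙 (U : Scheme.{u})) ⊤ :=
      ⟨by rw [Scheme.IdealSheafData.comap_id]; exact htop,
        fun Z g _ => ⟨g, Category.comp_id g, fun k hk => (Category.comp_id k).symm.trans hk⟩⟩
    obtain ⟨e, he⟩ := BlowUpLib.exists_iso h1 h2
    rw [← IsIso.inv_eq_of_hom_inv_id (f := e.hom) he]
    infer_instance
  let Q : Pair.{u} := ⟨Y, P.mod.comap b, BlowUpLib.isEffCartier_comap hbl P.isEffCartier⟩
  let q : Q ⟶ P := ⟨b, le_rfl⟩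
  obtain ⟨h, hh⟩ := hb Q P q ⟨rfl, inferInstanceAs (IsProper b), inferInstanceAs (IsIso (b ∣_ U))⟩ (𝟙 P)
  have hs : h.hom ≫ b = 𝟙 S := congr($(hh).hom)
  obtain ⟨c, hc⟩ := exists_closed_point (X := S)
  obtain ⟨W, hcW, d₀, -, hW⟩ := hbl.1 (h.hom c)
  have htopW : h.hom ⁻¹ᵁ W.1 = ⊤ := eq_top_of_isClosed hc hcW
  have hspan : I₀ = Ideal.span {(h.hom.appLE W.1 ⊤ htopW.ge).hom d₀} := by
    rw [← hKI, show K = (K.comap b).comap h.hom by
        rw [← Scheme.IdealSheafData.comap_comp, hs, Scheme.IdealSheafData.comap_id],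
      Groth.Agent.S4666.ideal_comap_eq _ h.hom W ⟨⊤, isAffineOpen_top _⟩ htopW.ge, hW, Ideal.map_span,
      Set.image_singleton]
  generalize (h.hom.appLE W.1 ⊤ htopW.ge).hom d₀ = d at hspan
  obtain ⟨r, hr⟩ : d ∣ x := Ideal.mem_span_singleton.mp (hspan ▸ Ideal.subset_span (Or.inl rfl))
  obtain ⟨s, hs'⟩ : d ∣ f ^ n := Ideal.mem_span_singleton.mp (hspan ▸ Ideal.subset_span (Or.inr rfl))
  obtain ⟨u, v, huv⟩ := Ideal.mem_span_pair.mp (hspan ▸ Ideal.mem_span_singleton_self d : d ∈ I₀)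
  have hd : d ∈ nonZeroDivisors Γ(S, ⊤) := (mul_mem_nonZeroDivisors.mp (hs' ▸ pow_mem hf n)).1
  have h1 : u * r + v * s = 1 := by
    refine (mul_cancel_left_mem_nonZeroDivisors hd).mp ?_
    linear_combination huv - u * hr - v * hs'
  rcases IsLocalRing.isUnit_or_isUnit_of_isUnit_add (h1 ▸ isUnit_one : IsUnit (u * r + v * s)) with hu | hu
  · refine Or.inl ?_
    obtain ⟨r', hr'⟩ := (isUnit_of_mul_isUnit_right hu).exists_left_inv
    exact ⟨r' * s, by rw [hr, hs']; linear_combination -(d * s) * hr'⟩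
  · refine Or.inr ?_
    obtain ⟨s', hs''⟩ := (isUnit_of_mul_isUnit_right hu).exists_left_inv
    exact ⟨s' * r, by rw [hr, hs']; linear_combination -(d * r) * hs''⟩

theorem isLocalRing_basicOpen [IsAffine X] [IsLocalRing Γ(X, ⊤)] {f : Γ(X, ⊤)}
    (hf : f ∈ nonZeroDivisors Γ(X, ⊤)) (hstar : ∀ x n, x ∣ f ^ n ∨ f ^ n ∣ x) :
    IsLocalRing Γ(X, X.basicOpen f) := by
  haveI := (isAffineOpen_top X).isLocalization_basicOpen f
  let L := Γ(X, X.basicOpen f)
  have hinj : Function.Injective (algebraMap Γ(X, ⊤) L) :=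
    IsLocalization.injective L ((Submonoid.powers_le.mpr hf))
  haveI : Nontrivial L := hinj.nontrivial
  refine IsLocalRing.of_isUnit_or_isUnit_one_sub_self fun z => ?_
  obtain ⟨⟨a, ⟨_, n, rfl⟩⟩, hz⟩ := IsLocalization.surj (Submonoid.powers f) z
  have hu : IsUnit (algebraMap Γ(X, ⊤) L (f ^ n)) :=
    IsLocalization.map_units L (⟨f ^ n, n, rfl⟩ : Submonoid.powers f)
  rcases hstar a n with ⟨b, hb⟩ | ⟨b, hb⟩
  · refine Or.inl ?_
    have hua : IsUnit (algebraMap Γ(X, ⊤) L a) := by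
      rw [hb, map_mul] at hu
      exact isUnit_of_mul_isUnit_left hu
    exact isUnit_of_mul_isUnit_left (hz.symm ▸ hua)
  · have hzb : z = algebraMap Γ(X, ⊤) L b := by
      refine hu.mul_right_cancel (hz.trans ?_)
      rw [hb, map_mul, mul_comm]
    rcases IsLocalRing.isUnit_or_isUnit_one_sub_self b with hb' | hb'
    · exact Or.inl (hzb ▸ hb'.map _)
    · exact Or.inr (by rw [hzb, ← map_one (algebraMap Γ(X, ⊤) L), ← map_sub]; exact hb'.map _)

theorem valuationRing_quotient {A : Type u} [CommRing A] {f : A} (hf : f ∈ nonZeroDivisors A)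
    (hstar : ∀ x n, x ∣ f ^ n ∨ f ^ n ∣ x) (q : Ideal A) [q.IsPrime]
    (hq : ∀ a, a ∉ q ↔ ∃ n : ℕ, a ∣ f ^ n) : ValuationRing (A ⧸ q) := by
  refine ValuationRing.iff_dvd_total.mpr ⟨fun a b => ?_⟩
  obtain ⟨a, rfl⟩ := Ideal.Quotient.mk_surjective a
  obtain ⟨b, rfl⟩ := Ideal.Quotient.mk_surjective b
  by_cases hb : b ∈ q
  · exact Or.inl (by rw [Ideal.Quotient.eq_zero_iff_mem.mpr hb]; exact dvd_zero _)
  by_cases ha : a ∈ q
  · exact Or.inr (by rw [Ideal.Quotient.eq_zero_iff_mem.mpr ha]; exact dvd_zero _)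
  obtain ⟨n, a', hn⟩ := (hq a).mp ha
  have ha' : a' ∈ nonZeroDivisors A := (mul_mem_nonZeroDivisors.mp (hn ▸ pow_mem hf n)).2
  rcases hstar (b * a') n with ⟨c, hc⟩ | ⟨c, hc⟩
  · refine Or.inr (map_dvd (Ideal.Quotient.mk q) ⟨c, (mul_cancel_left_mem_nonZeroDivisors ha').mp ?_⟩)
    linear_combination hc - hn
  · refine Or.inl (map_dvd (Ideal.Quotient.mk q) ⟨c, (mul_cancel_left_mem_nonZeroDivisors ha').mp ?_⟩)
    rw [hn] at hc
    linear_combination hc

theorem bijOn_localization {A : Type u} [CommRing A] {f : A} (hf : f ∈ nonZeroDivisors A)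
    (hstar : ∀ x n, x ∣ f ^ n ∨ f ^ n ∣ x) (q : Ideal A) [q.IsPrime]
    (hq : ∀ a, a ∉ q ↔ ∃ n : ℕ, a ∣ f ^ n) :
    Set.BijOn (algebraMap A (Localization.AtPrime q)) (q : Set A)
      (maximalIdeal (Localization.AtPrime q) : Set (Localization.AtPrime q)) := by
  refine ⟨fun a ha => ?_, fun a _ b _ hab => ?_, fun z hz => ?_⟩
  · exact (IsLocalization.AtPrime.to_map_mem_maximal_iff (Localization.AtPrime q) q a).mpr ha
  · obtain ⟨⟨s, hs⟩, hsab⟩ := (IsLocalization.eq_iff_exists q.primeCompl (Localization.AtPrime q)).mp hab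
    obtain ⟨n, t, ht⟩ := (hq s).mp hs
    refine (mul_cancel_left_mem_nonZeroDivisors (pow_mem hf n)).mp ?_
    rw [ht, mul_comm s t, mul_assoc, mul_assoc]
    exact congrArg (t * ·) hsab
  · obtain ⟨a, ⟨s, hs⟩, rfl⟩ := IsLocalization.exists_mk'_eq q.primeCompl z
    have ha : a ∈ q := by
      by_contra ha
      exact hz ((IsLocalization.AtPrime.isUnit_mk'_iff (Localization.AtPrime q) q a ⟨s, hs⟩).mpr ha)
    obtain ⟨n, t, ht⟩ := (hq s).mp hs
    rcases hstar (a * t) n with h | ⟨c, hc⟩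
    · exact absurd (q.mul_mem_right t ha) ((hq _).mpr ⟨n, h⟩)
    · have hc' : c ∈ q := by
        have hfq : f ^ n ∉ q := (hq _).mpr ⟨n, dvd_rfl⟩
        exact (Ideal.IsPrime.mem_or_mem ‹_› (hc ▸ q.mul_mem_right t ha)).resolve_left hfq
      refine ⟨c, hc', ?_⟩
      rw [eq_comm, IsLocalization.mk'_eq_iff_eq_mul, ← map_mul]
      refine congrArg _ ((mul_cancel_left_mem_nonZeroDivisors (pow_mem hf n)).mp ?_)
      linear_combination s * hc + a * ht

/-- **Pairs local for Zariski coverings and admissible blow-ups.** -/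
theorem zarLocal_blowupLocal_iff (P : Pair.{u}) [CompactSpace P.total] [QuasiSeparatedSpace P.total] :
    (IsZarLocal P ∧ IsBlowupLocal P) ↔
    (IsAffine P.total ∧ IsLocalRing Γ(P.total, ⊤) ∧
      IsAffine (interior P.mod : Scheme.{u}) ∧
      IsLocalRing Γ((interior P.mod : Scheme.{u}), ⊤) ∧
      ∀ p : (interior P.mod : Scheme.{u}),
        IsClosed ({p} : Set (interior P.mod : Scheme.{u})) →
          ValuationRing (Γ(P.total, ⊤) ⧸ (P.total.toSpecΓ.base ((interior P.mod).ι.base p)).asIdeal) ∧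
          Set.BijOn (algebraMap Γ(P.total, ⊤) (Localization.AtPrime
              (P.total.toSpecΓ.base ((interior P.mod).ι.base p)).asIdeal))
            ((P.total.toSpecΓ.base ((interior P.mod).ι.base p)).asIdeal : Set Γ(P.total, ⊤))
            (maximalIdeal (Localization.AtPrime
              (P.total.toSpecΓ.base ((interior P.mod).ι.base p)).asIdeal) :
              Set (Localization.AtPrime
                (P.total.toSpecΓ.base ((interior P.mod).ι.base p)).asIdeal))) := by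
  constructor
  · rintro ⟨hz, hb⟩
    obtain ⟨h₁, h₂⟩ := isAffine_of_zarLocal P hz
    obtain ⟨f, hf, -, hV⟩ := exists_gen_of_local P
    have hstar := dvd_or_dvd_of_blowupLocal P hb hf hV
    have h₃ : IsAffine (interior P.mod : Scheme.{u}) := by
      rw [hV]
      exact (isAffineOpen_top _).basicOpen f
    have h₄ : IsLocalRing Γ((interior P.mod : Scheme.{u}), ⊤) := by
      rw [hV]
      haveI := isLocalRing_basicOpen hf hstar
      exact ((P.total.basicOpen f).topIso.commRingCatIsoToRingEquiv.symm).isLocalRing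
    exact ⟨h₁, h₂, h₃, h₄, fun p hp => ⟨valuationRing_quotient hf hstar _ (mem_iff_exists_dvd hV hp),
      bijOn_localization hf hstar _ (mem_iff_exists_dvd hV hp)⟩⟩
  · rintro ⟨h₁, h₂, h₃, h₄, h⟩
    exact ⟨zarLocal_of_local P, blowupLocal_of_glued P h⟩

end ModPairLib

end
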