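import Groth.Agent.ModPairLib.LocalPairs
import Groth.Agent.S5062
import Groth.Agent.S0675
import Groth.Agent.S14620
import Groth.Agent.WLocalLib.Localize
import Groth.Agent.AzInvLib.Local
import Groth.Agent.WeightLib.EtaleQF

/-!
# Pairs which are local for étale coverings and admissible blow-ups
-/

set_option autoImplicit false
set_option linter.style.haveILetI false
set_option linter.unusedSectionVars false
set_option backward.isDefEq.respectTransparency false
set_option backward.isDefEq.respectTransparency.types false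
set_option maxHeartbeats 1000000

universe u

open CategoryTheory CategoryTheory.Limits AlgebraicGeometry TopologicalSpace IsLocalRing
open ModPair

noncomputable section

namespace ModPairLib

section henselian
open Polynomial

theorem henselian_atPrime_of_surjOn {V : Type u} [CommRing V] [HenselianLocalRing V] (p : Ideal V) [p.IsPrime]
    (hsurj : ∀ x ∈ maximalIdeal (Localization.AtPrime p), ∃ a ∈ p, algebraMap V (Localization.AtPrime p) a = x) :
    HenselianLocalRing (Localization.AtPrime p) := by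
  refine ⟨fun f hf a₀ h₁ h₂ => ?_⟩
  let φ := algebraMap V (Localization.AtPrime p)
  set g := taylor a₀ f with hg
  obtain ⟨c1, hc1⟩ := h₂
  set e : (Localization.AtPrime p) := f.eval a₀ * ↑c1⁻¹
  have he : e ∈ maximalIdeal (Localization.AtPrime p) := Ideal.mul_mem_right _ _ h₁
  have he1 : (c1 : (Localization.AtPrime p)) * e = g.coeff 0 := by
    rw [hg, taylor_coeff_zero]
    simp only [e]
    rw [mul_left_comm, Units.mul_inv, mul_one]
  have hn : 1 ≤ f.natDegree := by
    by_contra h
    rw [hf.natDegree_eq_zero.1 (by omega), derivative_one, eval_zero] at hc1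
    exact c1.ne_zero hc1
  obtain ⟨m, hm⟩ := Nat.exists_eq_add_of_le hn
  -- the coefficients of the normalised polynomial
  choose D hDp hD using fun j : ℕ => hsurj _
    (Ideal.mul_mem_left _ (g.coeff (j + 2) * (↑c1⁻¹ : (Localization.AtPrime p))) (Ideal.pow_mem_of_mem _ he (j + 1) (by omega)))
  let H : V[X] := X ^ (m + 1) + (X ^ m + ∑ j ∈ Finset.range m, C (D j) * X ^ (m - 1 - j))
  have hH : H.Monic := monic_X_pow_add <| by
    refine (degree_add_le _ _).trans_lt (max_lt ?_ ?_)
    · rw [degree_X_pow]; exact_mod_cast Nat.lt_succ_self m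
    · refine (degree_sum_le _ _).trans_lt ((Finset.sup_lt_iff (WithBot.bot_lt_coe _)).2 fun j hj => ?_)
      exact (degree_C_mul_X_pow_le _ _).trans_lt (by exact_mod_cast (show m - 1 - j < m + 1 by omega))
  have hDm : ∀ j, D j ∈ maximalIdeal V := fun j => IsLocalRing.le_maximalIdeal ‹p.IsPrime›.ne_top (hDp j)
  have hmod : ∀ q : V[X], residue V (q.eval (-1)) = (q.map (residue V)).eval (-1) := fun q => by
    rw [Polynomial.eval_map, ← eval₂_at_apply, map_neg, map_one]
  have hHm : H.map (residue V) = X ^ (m + 1) + X ^ m := by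
    simp only [H, Polynomial.map_add, Polynomial.map_pow, map_X, Polynomial.map_sum, Polynomial.map_mul,
      map_C, (residue_eq_zero_iff _).2 (hDm _), C_0, zero_mul, Finset.sum_const_zero, add_zero]
  have hr1 : H.eval (-1) ∈ maximalIdeal V := by
    rw [← residue_eq_zero_iff, hmod, hHm]
    simp [pow_succ]
  have hr2 : IsUnit (H.derivative.eval (-1)) := by
    rw [← residue_ne_zero_iff_isUnit, hmod, ← derivative_map, hHm]
    rw [show (X ^ (m + 1) + X ^ m : (ResidueField V)[X]) = X ^ m * (X + 1) by ring]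
    simp [derivative_mul]
  obtain ⟨u, hu, hu'⟩ := HenselianLocalRing.is_henselian H hH (-1) hr1 hr2
  have huu : IsUnit u := by
    by_contra h
    have := sub_mem (show u ∈ maximalIdeal V from h) hu'
    rw [sub_sub_cancel] at this
    exact this isUnit_one.neg
  obtain ⟨U, rfl⟩ := huu
  let z : (Localization.AtPrime p) := φ ↑U⁻¹
  refine ⟨a₀ + e * z, ?_, by simpa using Ideal.mul_mem_right _ _ he⟩
  rw [IsRoot.def, ← (isUnit_pow_iff (Nat.succ_ne_zero m)).2 (U.isUnit.map φ) |>.mul_right_eq_zero]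
  have hgn : g.natDegree < m + 2 := by rw [hg, natDegree_taylor]; omega
  have h0 : f.eval (a₀ + e * z) = g.eval (e * z) := by rw [hg, taylor_eval, add_comm]
  have hUz : φ (U : V) * z = 1 := by rw [← map_mul, Units.mul_inv, map_one]
  have hpow : ∀ i ≤ m + 1, φ (U : V) ^ (m + 1) * z ^ i = φ (U : V) ^ (m + 1 - i) := by
    intro i hi
    conv_lhs => rw [← Nat.sub_add_cancel hi, pow_add, mul_assoc, ← mul_pow, hUz, one_pow, mul_one]
  have hsum : φ (U : V) ^ (m + 1) * g.eval (e * z) =
      g.coeff 0 * φ (H.eval (U : V)) := by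
    rw [eval_eq_sum_range' hgn, Finset.mul_sum, Finset.sum_range_succ', Finset.sum_range_succ']
    simp only [H, eval_add, eval_pow, eval_X, eval_finset_sum, eval_mul, eval_C, map_add, map_pow,
      map_sum, map_mul]
    rw [Finset.sum_congr rfl (g := fun j => g.coeff 0 * (φ (D j) * φ (U : V) ^ (m - 1 - j)))
      (fun j hj => ?_)]
    · rw [show g.coeff (0 + 1) = (c1 : (Localization.AtPrime p)) by rw [hg, zero_add, taylor_coeff_one, hc1]]
      rw [← Finset.mul_sum, show (e * z) ^ (0 + 1) = e * z by simp, pow_zero, mul_one,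
        show φ (U : V) ^ (m + 1) * ((c1 : (Localization.AtPrime p)) * (e * z)) = g.coeff 0 * (φ (U : V) ^ (m + 1) * z ^ 1) by
          rw [← he1]; ring, hpow 1 (by omega), Nat.add_sub_cancel]
      ring
    · rw [Finset.mem_range] at hj
      have := hpow (j + 1 + 1) (by omega)
      rw [show m + 1 - (j + 1 + 1) = m - 1 - j by omega] at this
      rw [← this, hD, ← he1, mul_pow]
      calc φ (U : V) ^ (m + 1) * (g.coeff (j + 1 + 1) * (e ^ (j + 1 + 1) * z ^ (j + 1 + 1)))
          = ((c1 : (Localization.AtPrime p)) * ↑c1⁻¹) * (φ (U : V) ^ (m + 1) * (g.coeff (j + 2) * (e ^ (j + 1) * e * z ^ (j + 1 + 1)))) := by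
            rw [Units.mul_inv, one_mul, pow_succ e (j + 1)]
        _ = _ := by ring
  rw [h0, hsum, hu, map_zero, mul_zero]

end henselian

/-- Locality for étale coverings of pairs. -/
def IsEtLocal (P : Pair.{u}) : Prop :=
  ∀ (X : Pair.{u}) (ι : Type u) (U : ι → Pair.{u}) (v : ∀ i, U i ⟶ X),
    (∀ i, IsMinimal (U i).mod X.mod (v i).hom ∧ Etale (v i).hom ∧
      QuasiCompact (v i).hom ∧ QuasiSeparated (v i).hom) →
    (∀ x : X.total, ∃ (i : ι) (y : (U i).total), (v i).hom.base y = x) →
    ∀ g : P ⟶ X, ∃ (i : ι) (h : P ⟶ U i), h ≫ v i = g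

theorem IsEtLocal.zarLocal {P : Pair.{u}} (h : IsEtLocal P) : IsZarLocal P := fun X ι U v hv hcov g =>
  h X ι U v (fun i => by
    obtain ⟨hm, ho, hq⟩ := hv i
    haveI := ho
    exact ⟨hm, inferInstance, hq, inferInstance⟩) hcov g

theorem etLocal_of_strictlyHenselian (P : Pair.{u}) [IsAffine P.total]
    (hA : EtCoh.IsStrictlyHenselianLocalRing Γ(P.total, ⊤)) : IsEtLocal P := by
  obtain ⟨hhen, hsep⟩ := hA
  haveI := hhen
  intro X ι U v hv hcov g
  let c := P.total.isoSpec.inv (closedPoint Γ(P.total, ⊤))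
  obtain ⟨i, y, hy⟩ := hcov (g.hom c)
  obtain ⟨hm, het, -, -⟩ := hv i
  haveI := het
  let k : pullback (v i).hom g.hom ⟶ Spec Γ(P.total, ⊤) := pullback.snd (v i).hom g.hom ≫ P.total.isoSpec.hom
  haveI : Etale k := inferInstanceAs (Etale (pullback.snd (v i).hom g.hom ≫ P.total.isoSpec.hom))
  obtain ⟨z, hz1, hz2⟩ := Scheme.Pullback.exists_preimage_pullback (f := (v i).hom) (g := g.hom) y c hy
  have hkz : k.base z = closedPoint Γ(P.total, ⊤) := by
    show P.total.isoSpec.hom (pullback.snd (v i).hom g.hom z) = _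
    rw [hz2, ← Scheme.Hom.comp_apply, Iso.inv_hom_id]
    rfl
  obtain ⟨σ, hσ, -⟩ := (Groth.Agent.S5062.result Γ(P.total, ⊤)).mp ⟨hhen, hsep⟩ _ k inferInstance z hkz
  let s : P.total ⟶ pullback (v i).hom g.hom := P.total.isoSpec.hom ≫ σ
  have hs : s ≫ pullback.snd (v i).hom g.hom = 𝟙 _ := by
    rw [← cancel_mono P.total.isoSpec.hom, Category.id_comp, Category.assoc, Category.assoc]
    exact (congrArg (P.total.isoSpec.hom ≫ ·) hσ).trans (Category.comp_id _)
  have hl : (s ≫ pullback.fst _ _) ≫ (v i).hom = g.hom := by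
    rw [Category.assoc, pullback.condition, ← Category.assoc, hs, Category.id_comp]
  refine ⟨i, ⟨s ≫ pullback.fst _ _, ?_⟩, Pair.Hom.ext hl⟩
  show P.mod ≤ _
  rw [(hm : (U i).mod = _), ← Scheme.IdealSheafData.comap_comp, hl]
  exact g.cond

theorem strictlyHenselian_of_etLocal (P : Pair.{u}) [IsAffine P.total] [IsLocalRing Γ(P.total, ⊤)]
    (hP : IsEtLocal P) : EtCoh.IsStrictlyHenselianLocalRing Γ(P.total, ⊤) := by
  let A := Γ(P.total, ⊤)
  suffices h : HenselianLocalRing A ∧ IsSepClosed (ResidueField A) from ⟨h.1, h.2⟩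
  refine (Groth.Agent.S5062.result A).mpr fun Y f hf y hy => ?_
  haveI := hf
  haveI : LocallyQuasiFinite f := WeightLib.locallyQuasiFinite_of_etale f
  have hd : _root_.IsDiscrete (f ⁻¹' {closedPoint A}) := f.isDiscrete_preimage_singleton _
  obtain ⟨O, hO, hOy⟩ : ∃ O : Set Y, IsOpen O ∧ O ∩ f ⁻¹' {closedPoint A} = {y} := by
    haveI := hd.to_subtype
    obtain ⟨O, hO, hO'⟩ := isOpen_induced_iff.mp (isOpen_discrete ({⟨y, hy⟩} : Set (f ⁻¹' {closedPoint A})))
    refine ⟨O, hO, Set.ext fun z => ⟨fun ⟨h1, h2⟩ => ?_, fun h => ?_⟩⟩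
    · exact congrArg Subtype.val (hO'.le (show (⟨z, h2⟩ : f ⁻¹' {closedPoint A}) ∈ Subtype.val ⁻¹' O from h1))
    · rw [Set.mem_singleton_iff.mp h]
      exact ⟨hO'.ge (Set.mem_singleton _), hy⟩
  obtain ⟨W, hW, hyW, hWO⟩ : ∃ W : Y.Opens, IsAffineOpen W ∧ y ∈ W ∧ (W : Set Y) ⊆ O := by
    obtain ⟨_, ⟨W, hW, rfl⟩, h1, h2⟩ := Y.isBasis_affineOpens.exists_subset_of_mem_open
      (show y ∈ O from (hOy.ge rfl).1) hO
    exact ⟨W, hW, h1, h2⟩
  haveI : IsAffine (W : Scheme.{u}) := hW
  let v : (W : Scheme.{u}) ⟶ P.total := W.ι ≫ f ≫ P.total.isoSpec.inv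
  haveI : Etale v := inferInstanceAs (Etale (W.ι ≫ f ≫ P.total.isoSpec.inv))
  let U : Pair.{u} := ⟨W, P.mod.comap v, BlowUpLib.isEffCartier_comap_of_flat v P.isEffCartier⟩
  let v' : U ⟶ P := ⟨v, le_rfl⟩
  obtain ⟨p, hp⟩ := exists_closed_point (X := P.total)
  have hsurj : ∀ x : P.total, ∃ w, v w = x := fun x => by
    let R : P.total.Opens := ⟨Set.range v, v.isOpenMap.isOpen_range⟩
    have h1 : P.total.isoSpec.inv (closedPoint A) ∈ R :=
      ⟨⟨y, hyW⟩, congrArg P.total.isoSpec.inv hy⟩
    have h2 := eq_top_of_isClosed (X := P.total) (p := P.total.isoSpec.inv (closedPoint A)) (by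
      have h := (Scheme.homeoOfIso P.total.isoSpec.symm).isClosedMap _ (isClosed_singleton_closedPoint (R := A))
      rw [Set.image_singleton] at h
      exact h) h1
    exact (h2.ge trivial : x ∈ R)
  obtain ⟨-, h, hh⟩ := hP P PUnit.{u + 1} (fun _ => U) (fun _ => v')
    (fun _ => ⟨rfl, inferInstanceAs (Etale v), inferInstanceAs (QuasiCompact v), inferInstanceAs (QuasiSeparated v)⟩)
    (fun x => ⟨⟨⟩, hsurj x⟩) (𝟙 P)
  have hhv : h.hom ≫ W.ι ≫ f ≫ P.total.isoSpec.inv = 𝟙 P.total := congr($(hh).hom)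
  have hu : (P.total.isoSpec.inv ≫ h.hom ≫ W.ι) ≫ f = 𝟙 _ := by
    rw [← cancel_mono P.total.isoSpec.inv]
    simp only [Category.assoc, hhv]
    exact (Category.comp_id _).trans (Category.id_comp _).symm
  refine ⟨P.total.isoSpec.inv ≫ h.hom ≫ W.ι, hu, ?_⟩
  exact hOy.le ⟨hWO (h.hom (P.total.isoSpec.inv (closedPoint A))).2,
    congr($(hu) (closedPoint A))⟩

/-- **Pairs local for étale coverings and admissible blow-ups.** -/
theorem etLocal_blowupLocal_iff (P : Pair.{u}) [CompactSpace P.total] [QuasiSeparatedSpace P.total] :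
    (IsEtLocal P ∧ IsBlowupLocal P) ↔
    (IsAffine P.total ∧ EtCoh.IsStrictlyHenselianLocalRing Γ(P.total, ⊤) ∧
      IsAffine (interior P.mod : Scheme.{u}) ∧
      HenselianLocalRing Γ((interior P.mod : Scheme.{u}), ⊤) ∧
      ∀ p : (interior P.mod : Scheme.{u}),
        IsClosed ({p} : Set (interior P.mod : Scheme.{u})) →
          ValuationRing (Γ(P.total, ⊤) ⧸ (P.total.toSpecΓ.base ((interior P.mod).ι.base p)).asIdeal) ∧
          EtCoh.IsStrictlyHenselianLocalRing
            (Γ(P.total, ⊤) ⧸ (P.total.toSpecΓ.base ((interior P.mod).ι.base p)).asIdeal) ∧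
          Set.BijOn (algebraMap Γ(P.total, ⊤) (Localization.AtPrime
              (P.total.toSpecΓ.base ((interior P.mod).ι.base p)).asIdeal))
            ((P.total.toSpecΓ.base ((interior P.mod).ι.base p)).asIdeal : Set Γ(P.total, ⊤))
            (maximalIdeal (Localization.AtPrime
              (P.total.toSpecΓ.base ((interior P.mod).ι.base p)).asIdeal) :
              Set (Localization.AtPrime
                (P.total.toSpecΓ.base ((interior P.mod).ι.base p)).asIdeal))) := by
  constructor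
  · rintro ⟨he, hb⟩
    obtain ⟨h₁, h₂, h₃, h₄, h⟩ := (zarLocal_blowupLocal_iff P).mp ⟨he.zarLocal, hb⟩
    have hA := strictlyHenselian_of_etLocal P he
    obtain ⟨hhen, hsep⟩ := id hA
    haveI := hhen
    refine ⟨h₁, hA, h₃, ?_, fun p hp => ?_⟩
    · obtain ⟨p, hp⟩ := exists_closed_point (X := (interior P.mod : Scheme.{u}))
      obtain ⟨f, hf, -, hV⟩ := exists_gen_of_local P
      let q : Ideal Γ(P.total, ⊤) := (P.total.toSpecΓ ((interior P.mod).ι p)).asIdeal
      have hq : ∀ a, a ∉ q ↔ ∃ n : ℕ, a ∣ f ^ n := mem_iff_exists_dvd hV hp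
      haveI : HenselianLocalRing (Localization.AtPrime q) :=
        henselian_atPrime_of_surjOn q (h p hp).2.surjOn
      let L := Γ(P.total, P.total.basicOpen f)
      haveI := (isAffineOpen_top P.total).isLocalization_basicOpen f
      haveI : IsLocalization q.primeCompl L := by
        refine IsLocalization.of_le (Submonoid.powers f) q.primeCompl
          (Submonoid.powers_le.mpr ((hq f).mpr ⟨1, by rw [pow_one]⟩)) ?_
        intro r hr
        obtain ⟨n, hn⟩ := (hq r).mp hr
        exact isUnit_of_dvd_unit (map_dvd (algebraMap Γ(P.total, ⊤) L) hn)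
          (IsLocalization.map_units L (⟨f ^ n, n, rfl⟩ : Submonoid.powers f))
      haveI : HenselianLocalRing L := AzInvLib.henselianLocalRing_of_ringEquiv
        (IsLocalization.algEquiv q.primeCompl (Localization.AtPrime q) L).toRingEquiv
      rw [hV]
      exact AzInvLib.henselianLocalRing_of_ringEquiv (P.total.basicOpen f).topIso.commRingCatIsoToRingEquiv.symm
    · refine ⟨(h p hp).1, ?_, (h p hp).2⟩
      haveI := IsLocalRing.of_surjective' _ (Ideal.Quotient.mk_surjective
        (I := (P.total.toSpecΓ.base ((interior P.mod).ι.base p)).asIdeal))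
      haveI := IsLocalHom.of_surjective _ (Ideal.Quotient.mk_surjective
        (I := (P.total.toSpecΓ.base ((interior P.mod).ι.base p)).asIdeal))
      exact Groth.Agent.S14620.result _ (RingHom.Finite.of_surjective _ Ideal.Quotient.mk_surjective) hA
  · rintro ⟨h₁, hA, h₃, h₄, h⟩
    obtain ⟨hhen, -⟩ := id hA
    haveI := hhen
    haveI := h₄
    exact ⟨etLocal_of_strictlyHenselian P hA, blowupLocal_of_glued P fun p hp => ⟨(h p hp).1, (h p hp).2.2⟩⟩

end ModPairLib

end
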