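import Groth.Agent.ModPairLib.LocalPairs
import Groth.Agent.S19345
import Groth.Agent.AicVanishLib.Rings
import Groth.Agent.FppfLib.AIC

/-!
# Pairs which are local for Zariski and finite coverings and admissible blow-ups
-/

set_option autoImplicit false
set_option linter.style.haveILetI false
set_option linter.unusedSectionVars false
set_option backward.isDefEq.respectTransparency false
set_option backward.isDefEq.respectTransparency.types false
set_option maxHeartbeats 1000000

universe u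

open CategoryTheory CategoryTheory.Limits AlgebraicGeometry TopologicalSpace IsLocalRing
open ModPair

noncomputable section

namespace ModPairLib

/-- Locality for finite coverings of pairs. -/
def IsFinLocal (P : Pair.{u}) : Prop :=
  ∀ (X : Pair.{u}) (ι : Type u) (U : ι → Pair.{u}) (v : ∀ i, U i ⟶ X),
    (∀ i, IsMinimal (U i).mod X.mod (v i).hom ∧ IsFinite (v i).hom) →
    (∀ x : X.total, ∃ (i : ι) (y : (U i).total), (v i).hom.base y = x) →
    ∀ g : P ⟶ X, ∃ (i : ι) (h : P ⟶ U i), h ≫ v i = g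

theorem finLocal_of_aic (P : Pair.{u}) [QuasiSeparatedSpace P.total] (h₁ : IsAffine P.total)
    (h₂ : IsLocalRing Γ(P.total, ⊤)) (h₃ : IsDomain Γ(P.total, ⊤)) (h₄ : Curves.IsAIC Γ(P.total, ⊤)) :
    IsFinLocal P := by
  intro X ι U v hv hcov g
  have hmem : Presieve.ofArrows (fun i => (U i).total) (fun i => (v i).hom) ∈
      Scheme.precoverage @IsFinite X.total := by
    rw [Scheme.ofArrows_mem_precoverage_iff]
    exact ⟨fun x => by obtain ⟨i, y, hy⟩ := hcov x; exact ⟨i, y, hy⟩, fun i => (hv i).2⟩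
  obtain ⟨i, h, hh⟩ := Groth.Agent.S19345.lift_ofArrows _ g.hom
    (((Groth.Agent.S19345.result P.total).mpr ⟨h₁, h₂, h₃, h₄⟩).2 _ _ hmem g.hom)
  refine ⟨i, ⟨h, ?_⟩, Pair.Hom.ext hh⟩
  show P.mod ≤ _
  rw [((hv i).1 : (U i).mod = _), ← Scheme.IdealSheafData.comap_comp, hh]
  exact g.cond

/-- The pair defined by a quotient (or extension) of the ring in which the generator stays regular. -/
def specPair (P : Pair.{u}) [IsAffine P.total] {B : Type u} [CommRing B] (φ : Γ(P.total, ⊤) →+* B)
    (f : Γ(P.total, ⊤)) (hI : P.mod.ideal ⟨⊤, isAffineOpen_top _⟩ = Ideal.span {f})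
    (hB : φ f ∈ nonZeroDivisors B) : Pair.{u} :=
  ⟨Spec (CommRingCat.of B), P.mod.comap (Spec.map (CommRingCat.ofHom φ) ≫ (isAffineOpen_top P.total).fromSpec), by
    rw [Scheme.IdealSheafData.comap_comp]
    have e := BlowUpLib.comap_fromSpec P.mod ⟨⊤, isAffineOpen_top _⟩
    rw [hI] at e
    show BlowUp.IsEffCartierIdeal ((P.mod.comap (isAffineOpen_top P.total).fromSpec).comap _)
    rw [e]
    show BlowUp.IsEffCartierIdeal ((BlowUpLib.specIdeal (A := Γ(P.total, ⊤)) (Ideal.span {f})).comap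
      (Spec.map (CommRingCat.ofHom φ)))
    rw [BlowUpLib.comap_specIdeal, Ideal.map_span, Set.image_singleton]
    exact BlowUpLib.isEffCartier_specIdeal hB⟩

def specPairHom (P : Pair.{u}) [IsAffine P.total] {B : Type u} [CommRing B] (φ : Γ(P.total, ⊤) →+* B)
    (f : Γ(P.total, ⊤)) (hI : P.mod.ideal ⟨⊤, isAffineOpen_top _⟩ = Ideal.span {f})
    (hB : φ f ∈ nonZeroDivisors B) : specPair P φ f hI hB ⟶ P :=
  ⟨Spec.map (CommRingCat.ofHom φ) ≫ (isAffineOpen_top P.total).fromSpec, le_rfl⟩

/-- A finite locality retraction. -/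
theorem exists_retraction_of_finLocal (P : Pair.{u}) [IsAffine P.total] (hP : IsFinLocal P) {f : Γ(P.total, ⊤)}
    (hI : P.mod.ideal ⟨⊤, isAffineOpen_top _⟩ = Ideal.span {f}) {ι : Type u} {B : ι → Type u}
    [∀ i, CommRing (B i)] (φ : ∀ i, Γ(P.total, ⊤) →+* B i) (hB : ∀ i, φ i f ∈ nonZeroDivisors (B i))
    (hfin : ∀ i, (φ i).Finite) (hcov : ∀ p : PrimeSpectrum Γ(P.total, ⊤), ∃ i, p ∈ Set.range (PrimeSpectrum.comap (φ i))) :
    ∃ i, ∃ σ : B i →+* Γ(P.total, ⊤), σ.comp (φ i) = RingHom.id _ := by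
  obtain ⟨i, h, hh⟩ := hP P ι (fun i => specPair P (φ i) f hI (hB i)) (fun i => specPairHom P (φ i) f hI (hB i))
    (fun i => ⟨rfl, by
      haveI : IsFinite (Spec.map (CommRingCat.ofHom (φ i))) := (IsFinite.SpecMap_iff _).2 (hfin i)
      show IsFinite (Spec.map (CommRingCat.ofHom (φ i)) ≫ (isAffineOpen_top P.total).fromSpec)
      rw [IsAffineOpen.fromSpec_top]
      infer_instance⟩)
    (fun x => by
      obtain ⟨i, w, hw⟩ := hcov (P.total.isoSpec.hom x)
      refine ⟨i, w, ?_⟩
      show (Spec.map (CommRingCat.ofHom (φ i)) ≫ (isAffineOpen_top P.total).fromSpec) w = x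
      rw [IsAffineOpen.fromSpec_top, Scheme.Hom.comp_apply,
        show Spec.map (CommRingCat.ofHom (φ i)) w = P.total.isoSpec.hom x from hw]
      exact congr($(P.total.isoSpec.hom_inv_id) x)) (𝟙 P)
  refine ⟨i, (Spec.preimage (P.total.isoSpec.inv ≫ h.hom)).hom, ?_⟩
  have e : h.hom ≫ Spec.map (CommRingCat.ofHom (φ i)) ≫ (isAffineOpen_top P.total).fromSpec = 𝟙 P.total :=
    congr($(hh).hom)
  rw [IsAffineOpen.fromSpec_top] at e
  have e2 : CommRingCat.ofHom (φ i) ≫ Spec.preimage (P.total.isoSpec.inv ≫ h.hom) = 𝟙 _ := by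
    apply Spec.map_injective
    rw [Spec.map_comp, Spec.map_preimage, Spec.map_id, ← cancel_mono P.total.isoSpec.inv]
    simp only [Category.assoc]
    exact ((congrArg (P.total.isoSpec.inv ≫ ·) e).trans (Category.comp_id _)).trans (Category.id_comp _).symm
  exact congrArg CommRingCat.Hom.hom e2

/-- The ideal of elements killed by a power of `f` modulo `c`. -/
def satIdeal {A : Type u} [CommRing A] (f c : A) : Ideal A where
  carrier := {x | ∃ n : ℕ, c ∣ f ^ n * x}
  add_mem' := by
    rintro x y ⟨n, hn⟩ ⟨m, hm⟩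
    refine ⟨n + m, ?_⟩
    rw [mul_add, pow_add, mul_assoc, mul_assoc, mul_left_comm (f ^ n) (f ^ m) x]
    exact dvd_add (hn.mul_left _) (hm.mul_left _)
  zero_mem' := ⟨0, by simp⟩
  smul_mem' := by
    rintro r x ⟨n, hn⟩
    exact ⟨n, by rw [smul_eq_mul, mul_left_comm]; exact hn.mul_left _⟩

theorem isDomain_of_finLocal (P : Pair.{u}) [IsAffine P.total] [IsLocalRing Γ(P.total, ⊤)] (hP : IsFinLocal P)
    {f : Γ(P.total, ⊤)} (hf : f ∈ nonZeroDivisors Γ(P.total, ⊤))
    (hI : P.mod.ideal ⟨⊤, isAffineOpen_top _⟩ = Ideal.span {f}) : IsDomain Γ(P.total, ⊤) := by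
  let A := Γ(P.total, ⊤)
  haveI : NoZeroDivisors A := by
    refine ⟨fun {a b} hab => ?_⟩
    let c : ULift.{u} Bool → A := fun t => if t.down then a else b
    obtain ⟨t, σ, hσ⟩ := exists_retraction_of_finLocal P hP hI (fun t => Ideal.Quotient.mk (satIdeal f (c t)))
      (fun t => by
        rw [mem_nonZeroDivisors_iff_right]
        intro x hx
        obtain ⟨x, rfl⟩ := Ideal.Quotient.mk_surjective x
        rw [← map_mul, Ideal.Quotient.eq_zero_iff_mem] at hx
        obtain ⟨n, hn⟩ := hx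
        rw [Ideal.Quotient.eq_zero_iff_mem]
        exact ⟨n + 1, by rw [pow_succ, mul_assoc, mul_comm f x]; exact hn⟩)
      (fun t => RingHom.Finite.of_surjective _ Ideal.Quotient.mk_surjective)
      (fun p => by
        have key : ∀ t, satIdeal f (c t) ≤ p.asIdeal →
            p ∈ Set.range (PrimeSpectrum.comap (Ideal.Quotient.mk (satIdeal f (c t)))) := fun t ht => by
          rw [_root_.range_comap_of_surjective _ _ Ideal.Quotient.mk_surjective, Ideal.mk_ker]
          exact SetLike.coe_subset_coe.2 ht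
        by_contra hcon
        push Not at hcon
        obtain ⟨x, ⟨n, u, hu⟩, hx⟩ := SetLike.not_le_iff_exists.mp (fun h => hcon ⟨true⟩ (key _ h))
        obtain ⟨y, ⟨m, w, hw⟩, hy⟩ := SetLike.not_le_iff_exists.mp (fun h => hcon ⟨false⟩ (key _ h))
        simp only [c, ↓reduceIte, Bool.false_eq_true] at hu hw
        have h0 : f ^ (n + m) * (x * y) = 0 := by
          rw [pow_add]
          linear_combination (f ^ m * y) * hu + (a * u) * hw + (u * w) * hab
        have h1 : x * y = 0 := (mem_nonZeroDivisors_iff.mp (pow_mem hf (n + m))).1 _ h0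
        exact (p.isPrime.mem_or_mem (h1 ▸ p.asIdeal.zero_mem)).elim hx hy)
    have hc : c t = 0 := by
      have h0 : Ideal.Quotient.mk (satIdeal f (c t)) (c t) = 0 :=
        Ideal.Quotient.eq_zero_iff_mem.2 ⟨0, dvd_mul_left _ _⟩
      have := congrArg (fun ψ : A →+* A => ψ (c t)) hσ
      change σ (Ideal.Quotient.mk (satIdeal f (c t)) (c t)) = c t at this
      rw [h0, map_zero] at this
      exact this.symm
    obtain ⟨t⟩ := t
    cases t
    · exact Or.inr hc
    · exact Or.inl hc
  exact NoZeroDivisors.to_isDomain _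

theorem isAIC_of_finLocal (P : Pair.{u}) [IsAffine P.total] [IsDomain Γ(P.total, ⊤)] (hP : IsFinLocal P)
    {f : Γ(P.total, ⊤)} (hf : f ∈ nonZeroDivisors Γ(P.total, ⊤))
    (hI : P.mod.ideal ⟨⊤, isAffineOpen_top _⟩ = Ideal.span {f}) : Curves.IsAIC Γ(P.total, ⊤) := by
  intro p hp hd
  haveI := hp.free_adjoinRoot
  haveI := hp.finite_adjoinRoot
  have hdeg : p.degree ≠ 0 := by
    intro h
    rw [Polynomial.degree_eq_natDegree hp.ne_zero] at h
    have h' : p.natDegree = 0 := by exact_mod_cast h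
    omega
  have hinj : Function.Injective (AdjoinRoot.of p) := AdjoinRoot.of.injective_of_degree_ne_zero hdeg
  have hfin : (AdjoinRoot.of p).Finite := RingHom.finite_algebraMap.2 ‹_›
  obtain ⟨-, σ, hσ⟩ := exists_retraction_of_finLocal P hP hI (ι := PUnit.{u + 1}) (fun _ => AdjoinRoot.of p)
    (fun _ => by
      rw [mem_nonZeroDivisors_iff_right]
      intro x hx
      rw [mul_comm, ← AdjoinRoot.algebraMap_eq, ← Algebra.smul_def] at hx
      exact (smul_eq_zero.mp hx).resolve_left (nonZeroDivisors.ne_zero hf))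
    (fun _ => hfin) (fun q => ⟨⟨⟩, RingHom.IsIntegral.comap_surjective hfin.to_isIntegral hinj q⟩)
  refine ⟨σ (AdjoinRoot.root p), ?_⟩
  have h1 := Polynomial.hom_eval₂ p (AdjoinRoot.of p) σ (AdjoinRoot.root p)
  rw [AdjoinRoot.eval₂_root, map_zero, hσ] at h1
  exact h1.symm

/-- **Pairs local for Zariski and finite coverings and admissible blow-ups.** -/
theorem zarLocal_finLocal_blowupLocal_iff (P : Pair.{u}) [CompactSpace P.total] [QuasiSeparatedSpace P.total] :
    (IsZarLocal P ∧ IsFinLocal P ∧ IsBlowupLocal P) ↔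
    (IsAffine P.total ∧ IsLocalRing Γ(P.total, ⊤) ∧ IsDomain Γ(P.total, ⊤) ∧
      Curves.IsAIC Γ(P.total, ⊤) ∧
      IsAffine (interior P.mod : Scheme.{u}) ∧
      IsLocalRing Γ((interior P.mod : Scheme.{u}), ⊤) ∧
      IsDomain Γ((interior P.mod : Scheme.{u}), ⊤) ∧
      Curves.IsAIC Γ((interior P.mod : Scheme.{u}), ⊤) ∧
      ∀ p : (interior P.mod : Scheme.{u}),
        IsClosed ({p} : Set (interior P.mod : Scheme.{u})) →
          ValuationRing (Γ(P.total, ⊤) ⧸ (P.total.toSpecΓ.base ((interior P.mod).ι.base p)).asIdeal) ∧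
          IsAlgClosed (FractionRing (Γ(P.total, ⊤) ⧸ (P.total.toSpecΓ.base ((interior P.mod).ι.base p)).asIdeal)) ∧
          Set.BijOn (algebraMap Γ(P.total, ⊤) (Localization.AtPrime
              (P.total.toSpecΓ.base ((interior P.mod).ι.base p)).asIdeal))
            ((P.total.toSpecΓ.base ((interior P.mod).ι.base p)).asIdeal : Set Γ(P.total, ⊤))
            (maximalIdeal (Localization.AtPrime
              (P.total.toSpecΓ.base ((interior P.mod).ι.base p)).asIdeal) :
              Set (Localization.AtPrime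
                (P.total.toSpecΓ.base ((interior P.mod).ι.base p)).asIdeal))) := by
  constructor
  · rintro ⟨hz, hfl, hb⟩
    obtain ⟨h₁, h₂, h₃, h₄, h⟩ := (zarLocal_blowupLocal_iff P).mp ⟨hz, hb⟩
    obtain ⟨f, hf, hI, hV⟩ := exists_gen_of_local P
    haveI hdom := isDomain_of_finLocal P hfl hf hI
    have haic := isAIC_of_finLocal P hfl hf hI
    refine ⟨h₁, h₂, hdom, haic, h₃, h₄, ?_, ?_, fun p hp => ⟨(h p hp).1, ?_, (h p hp).2⟩⟩
    · rw [hV]
      haveI := (isAffineOpen_top P.total).isLocalization_basicOpen f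
      haveI : IsDomain Γ(P.total, P.total.basicOpen f) :=
        IsLocalization.isDomain_of_le_nonZeroDivisors Γ(P.total, P.total.basicOpen f) (Submonoid.powers_le.mpr hf)
      exact (P.total.basicOpen f).topIso.commRingCatIsoToRingEquiv.toMulEquiv.isDomain _
    · rw [hV]
      haveI := (isAffineOpen_top P.total).isLocalization_basicOpen f
      have h0 : Curves.IsAIC Γ(P.total, P.total.basicOpen f) :=
        AicVanishLib.isAIC_localization (Submonoid.powers f) haic
      exact AicVanishLib.isAIC_of_surjective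
        (P.total.basicOpen f).topIso.commRingCatIsoToRingEquiv.symm.toRingHom
        (RingEquiv.surjective _) h0
    · exact FppfLib.isAlgClosed_fractionRing_of_hasRoots fun g hg hd =>
        AicVanishLib.isAIC_of_surjective _ Ideal.Quotient.mk_surjective haic g hg (Nat.pos_of_ne_zero hd)
  · rintro ⟨h₁, h₂, h₃, h₄, h₅, h₆, -, -, h⟩
    exact ⟨zarLocal_of_local P, finLocal_of_aic P h₁ h₂ h₃ h₄,
      blowupLocal_of_glued P fun p hp => ⟨(h p hp).1, (h p hp).2.2⟩⟩

end ModPairLib

end
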