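import Groth.Agent.ModPairLib.LocalPairsEt
import Groth.Agent.S19345
import Groth.Agent.S19339
import Groth.Agent.AicVanishLib.Rings
import Groth.Agent.FppfLib.AIC

/-!
# Pairs which are local for fppf coverings and admissible blow-ups
-/

set_option autoImplicit false
set_option linter.style.haveILetI false
set_option linter.unusedSectionVars false
set_option backward.isDefEq.respectTransparency false
set_option backward.isDefEq.respectTransparency.types false
set_option maxHeartbeats 1000000

universe u

open CategoryTheory CategoryTheory.Limits AlgebraicGeometry TopologicalSpace IsLocalRing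
open ModPair

noncomputable section

namespace ModPairLib

section lattice
open Module

/-- A basis containing `1`, for a nonzero finite free algebra over a local ring. -/
theorem exists_basis_one {L B : Type u} [CommRing L] [IsLocalRing L] [CommRing B] [Algebra L B]
    [Module.Free L B] [Module.Finite L B] [Nontrivial B] :
    ∃ (ι : Type u) (_ : Fintype ι) (b : Basis ι L B) (j : ι), b j = 1 := by
  classical
  let b := Module.Free.chooseBasis L B
  let c := b.repr 1
  obtain ⟨j, u, hu⟩ : ∃ j, IsUnit (c j) := by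
    by_contra hcon
    push Not at hcon
    obtain ⟨o⟩ : Nonempty (Module.Free.ChooseBasisIndex L B) := b.index_nonempty
    have h1 : b.repr (b o) o ∈ maximalIdeal L := by
      rw [← one_mul (b o), ← b.sum_repr 1, Finset.sum_mul, map_sum, Finsupp.finset_sum_apply]
      refine Ideal.sum_mem _ fun i _ => ?_
      rw [smul_mul_assoc, map_smul, Finsupp.smul_apply, smul_eq_mul]
      exact Ideal.mul_mem_right _ _ (hcon i)
    rw [b.repr_self, Finsupp.single_eq_same] at h1
    exact (maximalIdeal.isMaximal L).ne_top ((Ideal.eq_top_iff_one _).2 h1)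
  let d : B := 1 - b j
  have hd : b.repr d j = c j - 1 := by
    simp [d, c]
  have hdj : b j + d = 1 := add_sub_cancel _ _
  clear_value d
  have huv : c j * (↑u⁻¹ : L) = 1 := by rw [← hu]; exact Units.mul_inv u
  let T : B ≃ₗ[L] B :=
    LinearEquiv.ofLinearMap (LinearMap.id + (b.coord j).smulRight d)
      (LinearMap.id - ((↑u⁻¹ : L) • b.coord j).smulRight d)
      (LinearMap.ext fun v => by
        simp only [LinearMap.coe_comp, Function.comp_apply, LinearMap.add_apply, LinearMap.sub_apply,
          LinearMap.id_apply, LinearMap.smulRight_apply, LinearMap.smul_apply, Basis.coord_apply, map_sub,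
          map_smul, Finsupp.sub_apply, Finsupp.smul_apply, smul_eq_mul, hd]
        match_scalars <;> first
          | ring1
          | linear_combination (-(b.repr v j)) * huv
          | linear_combination (b.repr v j) * huv)
      (LinearMap.ext fun v => by
        simp only [LinearMap.coe_comp, Function.comp_apply, LinearMap.add_apply, LinearMap.sub_apply,
          LinearMap.id_apply, LinearMap.smulRight_apply, LinearMap.smul_apply, Basis.coord_apply, map_add,
          map_smul, Finsupp.add_apply, Finsupp.smul_apply, smul_eq_mul, hd]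
        match_scalars <;> first
          | ring1
          | linear_combination (-(b.repr v j)) * huv
          | linear_combination (b.repr v j) * huv)
  refine ⟨_, inferInstance, b.map T, j, ?_⟩
  rw [Basis.map_apply]
  show b j + b.repr (b j) j • d = 1
  rw [b.repr_self, Finsupp.single_eq_same, one_smul]
  exact hdj

/-- Points of finite free algebras spread from the whole ring to the open `f ≠ 0`. -/
theorem exists_point_of_finite_free {A L B : Type u} [CommRing A] [CommRing L] [CommRing B] [Algebra A L]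
    (f : A) [IsLocalization.Away f L] (hf : f ∈ nonZeroDivisors A) [IsLocalRing L] [Algebra L B]
    [Module.Free L B] [Module.Finite L B] [Nontrivial B]
    (h : ∀ (C : Type u) [CommRing C] [Algebra A C], Module.Free A C → Module.Finite A C → Nontrivial C →
      Nonempty (C →ₐ[A] A)) :
    Nonempty (B →ₐ[L] L) := by
  classical
  letI : Algebra A B := ((algebraMap L B).comp (algebraMap A L)).toAlgebra
  haveI : IsScalarTower A L B := IsScalarTower.of_algebraMap_eq' rfl
  let al := algebraMap A L
  have hinj : Function.Injective al :=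
    IsLocalization.injective L (M := Submonoid.powers f) (Submonoid.powers_le.mpr hf)
  obtain ⟨ι, _, b, j, hbj⟩ := exists_basis_one (L := L) (B := B)
  obtain ⟨⟨F, hF⟩, hFc⟩ := IsLocalization.exist_integer_multiples_of_finite (Submonoid.powers f)
    (fun x : ι × ι × ι => b.repr (b x.1 * b x.2.1) x.2.2)
  have hFu : IsUnit (al F) := IsLocalization.map_units L (⟨F, hF⟩ : Submonoid.powers f)
  let w : ι → Lˣ := fun i => if i = j then 1 else hFu.unit
  let e : Basis ι L B := b.unitsSMul w
  have hej : e j = 1 := by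
    simp [e, w, hbj, Basis.unitsSMul_apply]
  have hee : ∀ i k l, e.repr (e i * e k) l ∈ al.range := fun i k l => by
    have hdelta : ∀ i', e.repr (e i') l ∈ al.range := fun i' => by
      rw [e.repr_self, Finsupp.single_apply]
      split_ifs
      · exact ⟨1, map_one _⟩
      · exact ⟨0, map_zero _⟩
    by_cases hi : i = j
    · rw [hi, hej, one_mul]; exact hdelta k
    by_cases hk : k = j
    · rw [hk, hej, mul_one]; exact hdelta i
    obtain ⟨c, hc⟩ := hFc (i, k, l)
    have he : e i * e k = (al F * al F) • (b i * b k) := by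
      simp only [e, Basis.unitsSMul_apply, w, if_neg hi, if_neg hk, Units.smul_def, IsUnit.unit_spec,
        smul_mul_smul_comm]
    rw [he, map_smul, Finsupp.smul_apply, Basis.repr_unitsSMul]
    by_cases hl : l = j
    · refine ⟨F * c, ?_⟩
      simp only [w, if_pos hl, inv_one, one_smul, smul_eq_mul]
      rw [map_mul, show al c = (algebraMap A L) F * b.repr (b i * b k) l from hc.trans (Algebra.smul_def _ _)]
      ring
    · refine ⟨c, ?_⟩
      simp only [w, if_neg hl, Units.smul_def, smul_eq_mul]
      rw [show al c = (algebraMap A L) F * b.repr (b i * b k) l from hc.trans (Algebra.smul_def _ _)]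
      linear_combination (-(al F * b.repr (b i * b k) l)) * hFu.val_inv_mul
  let S : Subalgebra A B :=
    { carrier := {x | ∀ l, e.repr x l ∈ al.range}
      mul_mem' := fun {x y} hx hy l => by
        rw [← e.sum_repr x, ← e.sum_repr y, Finset.sum_mul, map_sum, Finsupp.finset_sum_apply]
        refine Subring.sum_mem _ fun i _ => ?_
        rw [Finset.mul_sum, map_sum, Finsupp.finset_sum_apply]
        refine Subring.sum_mem _ fun k _ => ?_
        rw [smul_mul_smul_comm, map_smul, Finsupp.smul_apply, smul_eq_mul]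
        exact Subring.mul_mem _ (Subring.mul_mem _ (hx i) (hy k)) (hee i k l)
      add_mem' := fun {x y} hx hy l => by
        rw [map_add, Finsupp.add_apply]
        exact Subring.add_mem _ (hx l) (hy l)
      algebraMap_mem' := fun a l => by
        rw [show algebraMap A B a = al a • e j by rw [hej, ← Algebra.algebraMap_eq_smul_one]; rfl,
          map_smul, Finsupp.smul_apply, smul_eq_mul, e.repr_self, Finsupp.single_apply]
        refine Subring.mul_mem _ ⟨a, rfl⟩ ?_
        split_ifs
        · exact ⟨1, map_one _⟩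
        · exact ⟨0, map_zero _⟩ }
  have heS : ∀ i, e i ∈ S := fun i l => by
    rw [e.repr_self, Finsupp.single_apply]
    split_ifs
    · exact ⟨1, map_one _⟩
    · exact ⟨0, map_zero _⟩
  let ψ : (ι → A) →ₗ[A] S := Fintype.linearCombination A (fun i => (⟨e i, heS i⟩ : S))
  have hψ : ∀ a, ((ψ a : S) : B) = ∑ i, al (a i) • e i := fun a => by
    simp only [ψ, Fintype.linearCombination_apply, AddSubmonoidClass.coe_finset_sum, SetLike.val_smul,
      al, algebraMap_smul]
  have hψb : Function.Bijective ψ := by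
    refine ⟨fun a a' haa => funext fun i => hinj ?_, fun x => ?_⟩
    · have := congrArg (fun z : S => e.repr (z : B) i) haa
      simpa only [hψ, e.repr_sum_self] using this
    · choose a ha using fun l => RingHom.mem_range.mp (x.2 l)
      refine ⟨a, Subtype.ext ?_⟩
      rw [hψ]
      exact (Finset.sum_congr rfl fun i _ => by rw [ha]).trans (e.sum_repr _)
  haveI : Module.Free A S := Module.Free.of_equiv (LinearEquiv.ofBijective ψ hψb)
  haveI : Module.Finite A S := Module.Finite.equiv (LinearEquiv.ofBijective ψ hψb)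
  obtain ⟨σ⟩ := h S inferInstance inferInstance inferInstance
  let τ : B →ₗ[L] L := e.constr L fun i => al (σ ⟨e i, heS i⟩)
  have hτ : ∀ x : S, τ (x : B) = al (σ x) := fun x => by
    obtain ⟨a, rfl⟩ := hψb.2 x
    rw [hψ, map_sum]
    simp only [ψ, Fintype.linearCombination_apply, map_sum, map_smul, τ, Basis.constr_basis, smul_eq_mul]
    exact Finset.sum_congr rfl fun i _ => (map_mul al _ _).symm
  refine ⟨AlgHom.ofLinearMap τ ?_ ?_⟩
  · exact (hτ 1).trans (by rw [map_one, map_one])
  · refine (LinearMap.map_mul_iff τ).mpr (e.ext fun i => e.ext fun k => ?_)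
    show τ (e i * e k) = τ (e i) * τ (e k)
    rw [show e i * e k = (((⟨e i, heS i⟩ : S) * ⟨e k, heS k⟩ : S) : B) from rfl, hτ, map_mul, map_mul,
      ← hτ ⟨e i, heS i⟩, ← hτ ⟨e k, heS k⟩]

end lattice

/-- Locality for fppf coverings of pairs. -/
def IsFppfLocal (P : Pair.{u}) : Prop :=
  ∀ (X : Pair.{u}) (ι : Type u) (U : ι → Pair.{u}) (v : ∀ i, U i ⟶ X),
    (∀ i, IsMinimal (U i).mod X.mod (v i).hom ∧ Flat (v i).hom ∧
      LocallyOfFinitePresentation (v i).hom ∧ QuasiCompact (v i).hom ∧ QuasiSeparated (v i).hom) →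
    (∀ x : X.total, ∃ (i : ι) (y : (U i).total), (v i).hom.base y = x) →
    ∀ g : P ⟶ X, ∃ (i : ι) (h : P ⟶ U i), h ≫ v i = g

/-- Locality of a scheme for fppf coverings. -/
def IsFppfLocalScheme (T : Scheme.{u}) : Prop :=
  ∀ (X : Scheme.{u}) (R : Presieve X),
    R ∈ Scheme.precoverage (@Flat ⊓ @LocallyOfFinitePresentation ⊓ @QuasiCompact ⊓ @QuasiSeparated) X →
    ∀ g : T ⟶ X, ∃ (Y : Scheme.{u}) (w : Y ⟶ X) (h : T ⟶ Y), R w ∧ h ≫ w = g

theorem IsFppfLocal.etLocal {P : Pair.{u}} (h : IsFppfLocal P) : IsEtLocal P := fun X ι U v hv hcov g =>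
  h X ι U v (fun i => by
    obtain ⟨hm, he, hq, hs⟩ := hv i
    haveI := he
    exact ⟨hm, inferInstance, inferInstance, hq, hs⟩) hcov g

theorem fppfLocal_of_scheme (P : Pair.{u}) (hT : IsFppfLocalScheme P.total) : IsFppfLocal P := by
  intro X ι U v hv hcov g
  have hmem : Presieve.ofArrows (fun i => (U i).total) (fun i => (v i).hom) ∈
      Scheme.precoverage (@Flat ⊓ @LocallyOfFinitePresentation ⊓ @QuasiCompact ⊓ @QuasiSeparated) X.total := by
    rw [Scheme.ofArrows_mem_precoverage_iff]
    exact ⟨fun x => by obtain ⟨i, y, hy⟩ := hcov x; exact ⟨i, y, hy⟩,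
      fun i => ⟨⟨⟨(hv i).2.1, (hv i).2.2.1⟩, (hv i).2.2.2.1⟩, (hv i).2.2.2.2⟩⟩
  obtain ⟨i, h, hh⟩ := Groth.Agent.S19345.lift_ofArrows _ g.hom (hT _ _ hmem g.hom)
  refine ⟨i, ⟨h, ?_⟩, Pair.Hom.ext hh⟩
  show P.mod ≤ _
  rw [((hv i).1 : (U i).mod = _), ← Scheme.IdealSheafData.comap_comp, hh]
  exact g.cond

/-- A scheme local for fppf coverings of pairs is local for fppf coverings. -/
theorem scheme_of_fppfLocal (P : Pair.{u}) (hP : IsFppfLocal P) : IsFppfLocalScheme P.total := by
  intro X R hR g
  obtain ⟨ι, Y, w, rfl⟩ := R.exists_eq_ofArrows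
  rw [Scheme.ofArrows_mem_precoverage_iff] at hR
  choose k hk using fun x : P.total => hR.1 (g x)
  haveI : ∀ x, Flat (w (k x)) := fun x => (hR.2 (k x)).1.1.1
  haveI : ∀ x, LocallyOfFinitePresentation (w (k x)) := fun x => (hR.2 (k x)).1.1.2
  haveI : ∀ x, QuasiCompact (w (k x)) := fun x => (hR.2 (k x)).1.2
  haveI : ∀ x, QuasiSeparated (w (k x)) := fun x => (hR.2 (k x)).2
  let U : P.total → Pair.{u} := fun x => ⟨pullback (w (k x)) g, P.mod.comap (pullback.snd (w (k x)) g),
    BlowUpLib.isEffCartier_comap_of_flat _ P.isEffCartier⟩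
  let v : ∀ x, U x ⟶ P := fun x => ⟨pullback.snd (w (k x)) g, le_rfl⟩
  obtain ⟨x, h, hh⟩ := hP P P.total U v
    (fun x => ⟨rfl, inferInstanceAs (Flat (pullback.snd (w (k x)) g)),
      inferInstanceAs (LocallyOfFinitePresentation (pullback.snd (w (k x)) g)),
      inferInstanceAs (QuasiCompact (pullback.snd (w (k x)) g)),
      inferInstanceAs (QuasiSeparated (pullback.snd (w (k x)) g))⟩)
    (fun x => by
      obtain ⟨y, hy⟩ := hk x
      obtain ⟨z, -, hz⟩ := Scheme.Pullback.exists_preimage_pullback (f := w (k x)) (g := g) y x hy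
      exact ⟨x, z, hz⟩) (𝟙 P)
  have e : h.hom ≫ pullback.snd (w (k x)) g = 𝟙 P.total := congr($(hh).hom)
  refine ⟨_, w (k x), h.hom ≫ pullback.fst (w (k x)) g, Presieve.ofArrows.mk (k x), ?_⟩
  rw [Category.assoc, pullback.condition, ← Category.assoc, e, Category.id_comp]

/-- Finite free algebras have points over the ring of an fppf local pair. -/
theorem exists_point_of_fppfLocal (P : Pair.{u}) [IsAffine P.total] [IsLocalRing Γ(P.total, ⊤)]
    (hP : IsFppfLocalScheme P.total) (C : Type u) [CommRing C] [Algebra Γ(P.total, ⊤) C]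
    (hfree : Module.Free Γ(P.total, ⊤) C) (hfin : Module.Finite Γ(P.total, ⊤) C) (hne : Nontrivial C) :
    Nonempty (C →ₐ[Γ(P.total, ⊤)] Γ(P.total, ⊤)) := by
  let A := Γ(P.total, ⊤)
  haveI : Algebra.FinitePresentation A C :=
    haveI : Module.FinitePresentation A C := Module.finitePresentation_of_projective A C
    Algebra.FinitePresentation.of_finitePresentation A C
  let φ := algebraMap A C
  let v : Spec (CommRingCat.of C) ⟶ P.total := Spec.map (CommRingCat.ofHom φ) ≫ P.total.isoSpec.inv
  haveI : IsFinite (Spec.map (CommRingCat.ofHom φ)) := (IsFinite.SpecMap_iff _).2 (RingHom.finite_algebraMap.2 hfin)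
  haveI : Flat (Spec.map (CommRingCat.ofHom φ)) := by
    rw [HasRingHomProperty.Spec_iff (P := @Flat)]
    exact RingHom.flat_algebraMap_iff.2 inferInstance
  haveI : LocallyOfFinitePresentation (Spec.map (CommRingCat.ofHom φ)) := by
    rw [HasRingHomProperty.Spec_iff (P := @LocallyOfFinitePresentation)]
    exact RingHom.finitePresentation_algebraMap.2 inferInstance
  haveI : Nonempty (Module.Free.ChooseBasisIndex A C) := (Module.Free.chooseBasis A C).index_nonempty
  haveI : Module.FaithfullyFlat A C := inferInstance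
  have hmem : Presieve.ofArrows (fun _ : PUnit.{u + 1} => Spec (CommRingCat.of C)) (fun _ => v) ∈
      Scheme.precoverage (@Flat ⊓ @LocallyOfFinitePresentation ⊓ @QuasiCompact ⊓ @QuasiSeparated) P.total := by
    rw [Scheme.ofArrows_mem_precoverage_iff]
    refine ⟨fun x => ⟨⟨⟩, ?_⟩, fun _ => ⟨⟨⟨inferInstanceAs (Flat (Spec.map (CommRingCat.ofHom φ) ≫ P.total.isoSpec.inv)),
      inferInstanceAs (LocallyOfFinitePresentation (Spec.map (CommRingCat.ofHom φ) ≫ P.total.isoSpec.inv))⟩,
      inferInstanceAs (QuasiCompact (Spec.map (CommRingCat.ofHom φ) ≫ P.total.isoSpec.inv))⟩,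
      inferInstanceAs (QuasiSeparated (Spec.map (CommRingCat.ofHom φ) ≫ P.total.isoSpec.inv))⟩⟩
    obtain ⟨y, hy⟩ := PrimeSpectrum.comap_surjective_of_faithfullyFlat (A := A) (B := C) (P.total.isoSpec.hom x)
    refine ⟨y, ?_⟩
    show P.total.isoSpec.inv (Spec.map (CommRingCat.ofHom φ) y) = x
    rw [show Spec.map (CommRingCat.ofHom φ) y = P.total.isoSpec.hom x from hy]
    exact congr($(P.total.isoSpec.hom_inv_id) x)
  obtain ⟨-, h, hh⟩ := Groth.Agent.S19345.lift_ofArrows _ (𝟙 P.total) (hP _ _ hmem (𝟙 P.total))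
  let σ := (Spec.preimage (P.total.isoSpec.inv ≫ h)).hom
  have e2 : CommRingCat.ofHom φ ≫ Spec.preimage (P.total.isoSpec.inv ≫ h) = 𝟙 _ := by
    apply Spec.map_injective
    rw [Spec.map_comp, Spec.map_preimage, Spec.map_id, ← cancel_mono P.total.isoSpec.inv]
    simp only [Category.assoc]
    exact ((congrArg (P.total.isoSpec.inv ≫ ·) hh).trans (Category.comp_id _)).trans (Category.id_comp _).symm
  exact ⟨{ σ with commutes' := fun a => congr($(congrArg CommRingCat.Hom.hom e2) a) }⟩

/-- Every monic polynomial of positive degree has a root, if finite free algebras have points. -/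
theorem hasRoots_of_points {A : Type u} [CommRing A] [Nontrivial A]
    (h : ∀ (C : Type u) [CommRing C] [Algebra A C], Module.Free A C → Module.Finite A C → Nontrivial C →
      Nonempty (C →ₐ[A] A)) : Curves.IsAIC A := by
  intro p hp hd
  haveI := hp.free_adjoinRoot
  haveI := hp.finite_adjoinRoot
  haveI : Nontrivial (AdjoinRoot p) := by
    have hdim : 0 < (AdjoinRoot.powerBasis' hp).dim := by rw [AdjoinRoot.powerBasis'_dim]; exact hd
    exact nontrivial_of_ne _ _ ((AdjoinRoot.powerBasis' hp).basis.ne_zero ⟨0, hdim⟩)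
  obtain ⟨σ⟩ := h (AdjoinRoot p) inferInstance inferInstance inferInstance
  refine ⟨σ (AdjoinRoot.root p), ?_⟩
  have h1 := Polynomial.aeval_algHom_apply σ (AdjoinRoot.root p) p
  rw [AdjoinRoot.aeval_eq, AdjoinRoot.mk_self, map_zero, Polynomial.coe_aeval_eq_eval] at h1
  exact h1

/-- A strictly henselian affine scheme whose ring has points in all finite free algebras is fppf local. -/
theorem fppfLocalScheme_of_points {T : Scheme.{u}} [IsAffine T] (hs : EtCoh.IsStrictlyHenselianLocalRing Γ(T, ⊤))
    (hpts : ∀ (C : Type u) [CommRing C] [Algebra Γ(T, ⊤) C], Module.Free Γ(T, ⊤) C → Module.Finite Γ(T, ⊤) C →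
      Nontrivial C → Nonempty (C →ₐ[Γ(T, ⊤)] Γ(T, ⊤))) : IsFppfLocalScheme T := by
  obtain ⟨hhen, hsep⟩ := hs
  haveI := hhen
  intro X R hR g
  obtain ⟨ι, Y, w, rfl⟩ := R.exists_eq_ofArrows
  rw [Scheme.ofArrows_mem_precoverage_iff] at hR
  choose k hk using hR.1
  have hmem : Presieve.ofArrows (fun x : X => Y (k x)) (fun x => w (k x)) ∈
      Scheme.precoverage (@Flat ⊓ @LocallyOfFinitePresentation ⊓ @QuasiCompact ⊓ @QuasiSeparated) X := by
    rw [Scheme.ofArrows_mem_precoverage_iff]
    exact ⟨fun x => ⟨x, hk x⟩, fun x => hR.2 (k x)⟩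
  obtain ⟨κ, U, V, u, v, hu, hcov, hv, hfac⟩ := Groth.Agent.S19339.result _ _ hmem
  let A := Γ(T, ⊤)
  let g' : Spec A ⟶ X := T.isoSpec.inv ≫ g
  obtain ⟨a, y, hy, -⟩ := hcov (g' (closedPoint A))
  haveI := hu a
  obtain ⟨z, -, hz⟩ := Scheme.Pullback.exists_preimage_pullback (f := u a) (g := g') y (closedPoint A) hy
  obtain ⟨s, hs, -⟩ := (Groth.Agent.S5062.result A).mp ⟨hhen, hsep⟩ _ (pullback.snd (u a) g') inferInstance z hz
  haveI : IsFinite (v a) := (hv a).1
  haveI : Flat (v a) := (hv a).2.1
  haveI : Surjective (v a) := (hv a).2.2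
  let m : Spec A ⟶ U a := s ≫ pullback.fst (u a) g'
  let W := pullback (v a) m
  let q : W ⟶ Spec A := pullback.snd (v a) m
  haveI : IsFinite q := inferInstanceAs (IsFinite (pullback.snd (v a) m))
  haveI : Flat q := inferInstanceAs (Flat (pullback.snd (v a) m))
  haveI : Surjective q := inferInstanceAs (Surjective (pullback.snd (v a) m))
  haveI : IsAffine W := isAffine_of_isAffineHom q
  let C := Γ(W, ⊤)
  obtain ⟨φ, hφ⟩ := Spec.map_surjective (W.isoSpec.inv ≫ q)
  letI : Algebra A C := φ.hom.toAlgebra
  haveI hfin : Module.Finite A C := by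
    refine RingHom.finite_algebraMap.1 ((IsFinite.SpecMap_iff φ).1 ?_)
    rw [hφ]; infer_instance
  haveI : Module.Flat A C := by
    have : Flat (Spec.map φ) := by rw [hφ]; infer_instance
    rw [HasRingHomProperty.Spec_iff (P := @Flat)] at this
    exact this
  haveI : Module.Free A C := Module.free_of_flat_of_isLocalRing
  haveI : Nontrivial C := by
    obtain ⟨p, -⟩ := q.surjective (closedPoint A)
    exact PrimeSpectrum.nontrivial (W.isoSpec.hom p)
  obtain ⟨σ⟩ := hpts C inferInstance hfin inferInstance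
  let l : Spec A ⟶ W := Spec.map (CommRingCat.ofHom σ.toRingHom) ≫ W.isoSpec.inv
  have hl : l ≫ q = 𝟙 _ := by
    rw [Category.assoc, ← hφ, ← Spec.map_comp, ← Spec.map_id]
    exact congrArg Spec.map (CommRingCat.hom_ext (RingHom.ext fun r => σ.commutes r))
  obtain ⟨x, r, hr⟩ := hfac a
  refine ⟨_, w (k x), T.isoSpec.hom ≫ l ≫ pullback.fst (v a) m ≫ r, Presieve.ofArrows.mk (k x), ?_⟩
  have : l ≫ pullback.fst (v a) m ≫ v a ≫ u a = g' := by
    rw [pullback.condition_assoc, ← Category.assoc, show l ≫ pullback.snd (v a) m = 𝟙 _ from hl, Category.id_comp]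
    show (s ≫ pullback.fst (u a) g') ≫ u a = g'
    rw [Category.assoc, pullback.condition, ← Category.assoc, hs, Category.id_comp]
  simp only [Category.assoc, hr]
  rw [this, Iso.hom_inv_id_assoc]

/-- A scheme local for fppf coverings is local for Zariski coverings. -/
theorem zLoc_of_fppfLocal {T : Scheme.{u}} (hT : IsFppfLocalScheme T) : Groth.Agent.S19345.ZLoc T :=
  fun X R hR g => by
    obtain ⟨ι, Y, w, rfl⟩ := R.exists_eq_ofArrows
    refine hT X _ ?_ g
    rw [Scheme.ofArrows_mem_precoverage_iff] at hR ⊢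
    refine ⟨hR.1, fun i => ?_⟩
    haveI : IsOpenImmersion (w i) := (hR.2 i).1
    exact ⟨⟨⟨inferInstance, inferInstance⟩, (hR.2 i).2⟩, inferInstance⟩

/-- **Pairs local for fppf coverings and admissible blow-ups.** -/
theorem fppfLocal_blowupLocal_iff (P : Pair.{u}) [CompactSpace P.total] [QuasiSeparatedSpace P.total] :
    (IsFppfLocal P ∧ IsBlowupLocal P) ↔
    (IsFppfLocalScheme P.total ∧ IsFppfLocalScheme (interior P.mod : Scheme.{u}) ∧
      IsAffine (interior P.mod : Scheme.{u}) ∧
      IsLocalRing Γ((interior P.mod : Scheme.{u}), ⊤) ∧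
      ∀ p : (interior P.mod : Scheme.{u}),
        IsClosed ({p} : Set (interior P.mod : Scheme.{u})) →
          ValuationRing (Γ(P.total, ⊤) ⧸ (P.total.toSpecΓ.base ((interior P.mod).ι.base p)).asIdeal) ∧
          IsAlgClosed (FractionRing (Γ(P.total, ⊤) ⧸ (P.total.toSpecΓ.base ((interior P.mod).ι.base p)).asIdeal)) ∧
          Set.BijOn (algebraMap Γ(P.total, ⊤) (Localization.AtPrime
              (P.total.toSpecΓ.base ((interior P.mod).ι.base p)).asIdeal))
            ((P.total.toSpecΓ.base ((interior P.mod).ι.base p)).asIdeal : Set Γ(P.total, ⊤))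
            (maximalIdeal (Localization.AtPrime
              (P.total.toSpecΓ.base ((interior P.mod).ι.base p)).asIdeal) :
              Set (Localization.AtPrime
                (P.total.toSpecΓ.base ((interior P.mod).ι.base p)).asIdeal))) := by
  constructor
  · rintro ⟨hp, hb⟩
    obtain ⟨h₁, hA, h₃, h₄, h⟩ := (etLocal_blowupLocal_iff P).mp ⟨hp.etLocal, hb⟩
    obtain ⟨hAh, -⟩ := id hA
    haveI := hAh
    have hsch := scheme_of_fppfLocal P hp
    have hpts := exists_point_of_fppfLocal P hsch
    have haic : Curves.IsAIC Γ(P.total, ⊤) := hasRoots_of_points hpts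
    obtain ⟨f, hf, -, hV⟩ := exists_gen_of_local P
    refine ⟨hsch, ?_, h₃, inferInstance, fun p hp => ⟨(h p hp).1, ?_, (h p hp).2.2⟩⟩
    · haveI : HenselianLocalRing Γ((interior P.mod : Scheme.{u}), ⊤) := h₄
      let U := interior P.mod
      letI : Algebra Γ(P.total, ⊤) Γ((U : Scheme.{u}), ⊤) :=
        ((P.total.presheaf.map (homOfLE (le_top : U ≤ ⊤)).op ≫ U.topIso.inv).hom).toAlgebra
      haveI : IsLocalization.Away f Γ((U : Scheme.{u}), ⊤) := by
        have key : ∀ V : P.total.Opens, V = P.total.basicOpen f →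
            @IsLocalization.Away _ _ f Γ((V : Scheme.{u}), ⊤) _
              ((P.total.presheaf.map (homOfLE (le_top : V ≤ ⊤)).op ≫ V.topIso.inv).hom).toAlgebra := by
          rintro V rfl
          letI : Algebra Γ(P.total, ⊤) Γ(((P.total.basicOpen f) : Scheme.{u}), ⊤) :=
            ((P.total.presheaf.map (homOfLE (le_top : P.total.basicOpen f ≤ ⊤)).op ≫
              (P.total.basicOpen f).topIso.inv).hom).toAlgebra
          haveI := (isAffineOpen_top P.total).isLocalization_basicOpen f
          exact IsLocalization.isLocalization_of_algEquiv (Submonoid.powers f)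
            (AlgEquiv.ofRingEquiv (f := (P.total.basicOpen f).topIso.commRingCatIsoToRingEquiv.symm)
              (fun _ => rfl))
        exact key U hV
      haveI := h₃
      have hptsL : ∀ (C : Type u) [CommRing C] [Algebra Γ((U : Scheme.{u}), ⊤) C],
          Module.Free Γ((U : Scheme.{u}), ⊤) C → Module.Finite Γ((U : Scheme.{u}), ⊤) C → Nontrivial C →
          Nonempty (C →ₐ[Γ((U : Scheme.{u}), ⊤)] Γ((U : Scheme.{u}), ⊤)) := fun C _ _ h1 h2 h3 => by
        haveI := h1
        haveI := h2
        haveI := h3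
        exact exists_point_of_finite_free (A := Γ(P.total, ⊤)) f hf hpts
      have haicL : Curves.IsAIC Γ((U : Scheme.{u}), ⊤) := hasRoots_of_points hptsL
      haveI : IsAlgClosed (ResidueField Γ((U : Scheme.{u}), ⊤)) := IsAlgClosed.of_exists_root _
        fun g hg hirr => AicVanishLib.isAIC_of_surjective (residue _) residue_surjective haicL g hg hirr.natDegree_pos
      exact fppfLocalScheme_of_points ⟨h₄, inferInstance⟩ hptsL
    · exact FppfLib.isAlgClosed_fractionRing_of_hasRoots fun g hg hd =>
        AicVanishLib.isAIC_of_surjective _ Ideal.Quotient.mk_surjective haic g hg (Nat.pos_of_ne_zero hd)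
  · rintro ⟨h₁, -, h₃, h₄, h⟩
    haveI : IsAffine P.total := Groth.Agent.S19345.isAffine_of_zLoc (zLoc_of_fppfLocal h₁)
    haveI : IsLocalRing Γ(P.total, ⊤) := Groth.Agent.S19345.isLocalRing_of_zLoc
      ((zLoc_of_fppfLocal h₁).of_iso P.total.isoSpec)
    exact ⟨fppfLocal_of_scheme P h₁, blowupLocal_of_glued P fun p hp => ⟨(h p hp).1, (h p hp).2.2⟩⟩

end ModPairLib

end
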